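import Cfsg.Agent.Lib.GW.CaseA.Mixed.Kill.Proj
import Cfsg.Agent.Lib.GW.CaseA.Inverted.Count

/-!
# Case A, residual configuration: the index of `C(t)`, pairs of involutions
-/

set_option autoImplicit false
set_option linter.unusedSectionVars false
set_option linter.style.haveILetI false

open Subgroup
open scoped ComplexConjugate

namespace CfsgLib.GW.CaseA.Mixed.Kill

open Cfsg CfsgLib.Char CfsgLib.Block.Dihedral CfsgLib.Invol CfsgLib.GW.CaseA.Inverted

universe u

variable {G : Type u} [Group G] [Finite G] {t v w z c e : G} (R : Residual t v w z c e)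
include R

theorem v_not : v ∉ Rsub t (v * w) := fun h => w_not R (by
  have := mul_mem (inv_mem h) (show v * w ∈ Rsub t (v * w) from sigma_mem)
  rwa [inv_mul_cancel_left] at this)

/-- many elements in the centraliser of a pair -/
theorem le_card_cent_pair {a : G} {N : ℕ} (hN : N ≤ 3) (hat : Commute a t) (hda : ∀ d ∈ Dsub t w, Commute d a)
    (haH : a ∉ Rsub t (v * w)) (hz : ∀ i < N, Commute (z ^ i) a) :
    4 * N * Nat.card (Dsub t w) ≤ Nat.card (centralizer ({t, a} : Set G)) := by
  let f : (Fin N × Bool × Bool) × Dsub t w → centralizer ({t, a} : Set G) := fun p =>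
    ⟨cond p.1.2.1 a 1 * (z ^ (p.1.1 : ℕ) * p.2 * cond p.1.2.2 t 1), mem_centralizer_iff.2 (by
      have h1 : ∀ b : Bool, Commute (cond b a 1) t ∧ Commute (cond b a 1) a := fun b => by
        cases b <;> [exact ⟨Commute.one_left _, Commute.one_left _⟩; exact ⟨hat, Commute.refl a⟩]
      have h2 : ∀ b : Bool, Commute (cond b t 1) t ∧ Commute (cond b t 1) a := fun b => by
        cases b <;> [exact ⟨Commute.one_left _, Commute.one_left _⟩; exact ⟨Commute.refl t, hat.symm⟩]
      rintro y (rfl | rfl)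
      · exact ((h1 _).1.mul_left ((((z_comm_t R).pow_left _).mul_left (d_t p.2.2)).mul_left (h2 _).1)).eq.symm
      · exact ((h1 _).2.mul_left (((hz _ p.1.1.2).mul_left (hda _ p.2.2)).mul_left (h2 _).2)).eq.symm)⟩
  have hf : Function.Injective f := by
    rintro ⟨⟨i, b, q⟩, d⟩ ⟨⟨i', b', q'⟩, d'⟩ h
    have h' : cond b a 1 * (z ^ (i : ℕ) * d * cond q t 1) = cond b' a 1 * (z ^ (i' : ℕ) * d' * cond q' t 1) :=
      congrArg Subtype.val h
    have ht : ∀ q : Bool, cond q t 1 = (v * w) ^ cond q 2 0 := fun q => by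
      cases q <;> [exact (pow_zero _).symm; exact (sigma_sq R).symm]
    rw [ht, ht] at h'
    have hmem : ∀ (i : ℕ) (d : Dsub t w) (l : ℕ), z ^ i * d * (v * w) ^ l ∈ Rsub t (v * w) := fun i d l =>
      h_mem R (d_mem_k R d.2)
    obtain rfl : b = b' := by
      cases b <;> cases b' <;> simp only [cond_false, cond_true, one_mul] at h' ⊢
      · exact absurd (by rw [eq_mul_inv_of_mul_eq h'.symm]; exact mul_mem (hmem _ _ _) (inv_mem (hmem _ _ _))) haH
      · exact absurd (by rw [eq_mul_inv_of_mul_eq h']; exact mul_mem (hmem _ _ _) (inv_mem (hmem _ _ _))) haH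
    obtain ⟨e1, e2, e3⟩ := h_unique R (d_mem_k R d.2) (d_mem_k R d'.2) (mul_left_cancel h')
    obtain rfl : i = i' := Fin.ext (by have := i.2; have := i'.2; omega)
    obtain rfl : q = q' := by cases q <;> cases q' <;> simp_all
    rw [Subtype.ext e2]
  have h := Nat.card_le_card_of_injective f hf
  simp only [Nat.card_prod, Nat.card_fin, Nat.card_eq_fintype_card (α := Bool), Fintype.card_bool] at h
  linarith

/-- **the index of `C(t)` is at most `180 |Q|²`** -/
theorem index_le : (Nat.card G : ℚ) ≤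
    180 * (Nat.card (Qsub t) : ℚ) ^ 2 * Nat.card (centralizer ({t} : Set G)) := by
  obtain ⟨P, hF, hdih⟩ := exists_frame R
  have hconj : ∀ {a : G}, orderOf a = 2 → IsConj ((v * w) ^ 2) a := fun {a} ha => by
    rw [sigma_sq R]
    exact isConj_iff.2 (R.hA.min.isConj_invol (ht R) ha)
  have hsw : v * w * w = v := by rw [mul_assoc, w_sq R, mul_one]
  obtain ⟨e₀, he1, -, hdvd, -, hG⟩ :=
    order_formula hF hdih (hconj R.w_invol) (hconj (by rw [hsw]; exact R.v_invol))
  rw [sigma_sq R, hsw] at hG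
  have c1 := le_card_cent_pair R (a := w) (N := 1) (by norm_num) R.w_comm (fun d hd => d_w hd) (w_not R)
    (fun i hi => by rw [show i = 0 by omega, pow_zero]; exact Commute.one_left _)
  have c2 := le_card_cent_pair R (a := v) (N := 3) le_rfl R.v_comm (fun d hd => d_v R hd) (v_not R)
    (fun i _ => R.zv.pow_left i)
  have hC : (Nat.card (centralizer ({t} : Set G)) : ℚ) = 24 * Nat.card (Qsub t) * Nat.card (Dsub t w) := by
    rw [R.card, card_ocore R, card_ksub R]
    push_cast
    ring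
  have hD : (0 : ℚ) < (Nat.card (Dsub t w) : ℚ) := by exact_mod_cast Nat.card_pos
  set C : ℚ := (Nat.card (centralizer ({t} : Set G)) : ℚ)
  set A : ℚ := (Nat.card (centralizer ({t, w} : Set G)) : ℚ) with hA
  set B : ℚ := (Nat.card (centralizer ({t, v} : Set G)) : ℚ) with hB
  set D : ℚ := (Nat.card (Dsub t w) : ℚ) with hDd
  have a1 : 4 * D ≤ A := by
    rw [hA, hDd]; exact_mod_cast (by simpa using c1)
  have b1 : 12 * D ≤ B := by
    rw [hB, hDd]; exact_mod_cast (by simpa using c2)
  have hinv : 1 / A + 1 / B ≤ 1 / (3 * D) := by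
    calc 1 / A + 1 / B ≤ 1 / (4 * D) + 1 / (12 * D) := add_le_add
          (one_div_le_one_div_of_le (by positivity) a1) (one_div_le_one_div_of_le (by positivity) b1)
      _ = 1 / (3 * D) := by field_simp; ring
  have hAB : 0 ≤ 1 / A + 1 / B := by positivity
  have hρ : rho e₀ ≤ 45 / 32 ∧ 0 ≤ rho e₀ := by
    have he : 9 ≤ e₀ ∨ e₀ ≤ -7 := by omega
    have hpos : (0 : ℚ) < ((e₀ : ℚ) - 1) ^ 2 := by
      have : (e₀ : ℚ) - 1 ≠ 0 := sub_ne_zero.2 (by exact_mod_cast he1)
      positivity
    rw [rho, div_le_iff₀ hpos, le_div_iff₀ hpos, zero_mul]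
    rcases he with he | he
    · have : (9 : ℚ) ≤ e₀ := by exact_mod_cast he
      constructor <;> nlinarith
    · have : (e₀ : ℚ) ≤ -7 := by exact_mod_cast he
      constructor <;> nlinarith
  rw [hG]
  calc 2 * rho e₀ * C ^ 3 * (1 / A + 1 / B) ^ 2 ≤ 2 * (45 / 32) * C ^ 3 * (1 / (3 * D)) ^ 2 := by
        have hC0 : 0 ≤ C := Nat.cast_nonneg _
        gcongr
        exact hρ.1
    _ = 180 * (Nat.card (Qsub t) : ℚ) ^ 2 * C := by
      rw [hC]
      field_simp
      ring

/-- the product of two elements outside `H` -/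
theorem wmul_wmul {i i' l l' : ℕ} {x x' : G} (hx : x ∈ Ksub t v w) (hx' : x' ∈ Ksub t v w) :
    w * (z ^ i * x * (v * w) ^ l) * (w * (z ^ i' * x' * (v * w) ^ l')) =
      z ^ (2 * i + if Even l then i' else 2 * i') * (w * x * w⁻¹ * x') * (v * w) ^ (3 * l + l') := by
  have hy := k_norm_w R hx
  have hz : (v * w) ^ (3 * l) * z ^ i' * ((v * w) ^ (3 * l))⁻¹ = z ^ (if Even l then i' else 2 * i') := by
    rw [← conj_pow, sigma_pow_z R]
    by_cases h : Even l
    · rw [if_pos h, if_pos (h.mul_left 3)]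
    · rw [if_neg h, if_neg (by simpa [parity_simps] using h), inv_pow, z_pow_inv R]
  calc w * (z ^ i * x * (v * w) ^ l) * (w * (z ^ i' * x' * (v * w) ^ l'))
      = w * (z ^ i * x * (v * w) ^ l) * w⁻¹ * (z ^ i' * x' * (v * w) ^ l') := by
        rw [w_inv R]; simp only [mul_assoc]
    _ = z ^ (2 * i) * (w * x * w⁻¹ * ((v * w) ^ (3 * l) * z ^ i' * ((v * w) ^ (3 * l))⁻¹)) *
          ((v * w) ^ (3 * l) * x') * (v * w) ^ l' := by rw [conj_w R]; group
    _ = z ^ (2 * i) * (z ^ (if Even l then i' else 2 * i') * (w * x * w⁻¹)) *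
          (x' * (v * w) ^ (3 * l)) * (v * w) ^ l' := by
      rw [hz, ((z_central R hy.1).pow_right _).eq, ((k_sigma R hx').pow_left _).eq]
    _ = _ := by rw [pow_add, pow_add]; simp only [mul_assoc]

omit R in
/-- exponents of `z` in the eight reflection classes -/
def pairI : Fin 8 → ℕ := ![0, 1, 2, 0, 1, 2, 0, 0]

omit R in
/-- exponents of `σ` in the eight reflection classes -/
def pairL : Fin 8 → ℕ := ![0, 0, 0, 2, 2, 2, 1, 3]

/-- **pairs of involutions against a linear character of `D`** -/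
theorem pair_count [Fintype G] [Fintype (Rsub t (v * w))] [Fintype (IrrCharacter G)] (θ : IrrCharacter (Dsub t w))
    (hθ1 : (θ : Dsub t w → ℂ) 1 = 1) :
    ∑ χ : IrrCharacter G, ((rot R).dm χ (inflH R (inflK R θ)) ((rot R).tw (inflH R (inflK R θ)) 1) : ℂ) *
        (χ : G → ℂ) t ^ 2 / (χ : G → ℂ) 1 =
      128 * (Nat.card (Qsub t) : ℂ) ^ 2 * (Nat.card (centralizer ({t} : Set G)) : ℂ) / (Nat.card G : ℂ) := by
  classical
  set a := inflH R (inflK R θ) with ha
  set b := (rot R).tw a 1 with hb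
  set f : Rsub t (v * w) → ℂ := fun x => (a : Rsub t (v * w) → ℂ) x - (b : Rsub t (v * w) → ℂ) x with hf
  have hR : ∀ χ : IrrCharacter G, ∑ y : Rsub t (v * w), f y * conj ((χ : G → ℂ) y) =
      (Nat.card (Rsub t (v * w)) : ℂ) * ((rot R).dm χ a b : ℂ) := fun χ => by
    have e' := congrArg conj ((rot R).classInner_ind_irr χ a b)
    rw [classInner_indFun_right _ _ _ (isClassFunction_irr χ), map_intCast, classInner_conj, classInner,
      inv_mul_eq_iff_eq_mul₀ card_ne_zero'] at e'
    exact e'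
  have hL : ∑ y : Rsub t (v * w), f y * (classConst t t (y : G) : ℂ) = 64 * (Nat.card (Qsub t) : ℂ) ^ 2 := by
    have hiff : ∀ i : G, IsConj t i ↔ orderOf i = 2 := fun i => by
      refine ⟨fun hh => ?_, fun hh => isConj_iff.2 (R.hA.min.isConj_invol (ht R) hh)⟩
      obtain ⟨g, rfl⟩ := isConj_iff.1 hh
      rw [orderOf_conj', ht R]
    have h1 : ∑ y : Rsub t (v * w), f y * (classConst t t (y : G) : ℂ) = ∑ p : G × G,
        if orderOf p.1 = 2 ∧ orderOf p.2 = 2 then extendByZero (Rsub t (v * w)) f (p.1 * p.2) else 0 := by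
      have hc : ∀ y : G, (classConst t t y : ℂ) =
          ∑ p : G × G, if (orderOf p.1 = 2 ∧ orderOf p.2 = 2) ∧ p.1 * p.2 = y then 1 else 0 := fun y => by
        rw [classConst, Nat.card_eq_fintype_card, Fintype.card_subtype, Finset.sum_boole]
        congr 2
        ext p
        simp only [Finset.mem_filter, Finset.mem_univ, true_and, hiff, and_assoc]
      simp only [hc, Finset.mul_sum]
      rw [Finset.sum_comm]
      refine Finset.sum_congr rfl fun p _ => ?_
      by_cases hp : orderOf p.1 = 2 ∧ orderOf p.2 = 2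
      · rw [if_pos hp]
        simp only [hp, true_and, and_self]
        by_cases hm : p.1 * p.2 ∈ Rsub t (v * w)
        · rw [extendByZero_mem _ _ hm, Finset.sum_eq_single (⟨p.1 * p.2, hm⟩ : Rsub t (v * w))]
          · rw [if_pos rfl, mul_one]
          · intro y _ hy
            rw [if_neg fun h => hy (Subtype.ext h.symm), mul_zero]
          · exact fun h => absurd (Finset.mem_univ _) h
        · rw [extendByZero_not_mem _ _ hm]
          exact Finset.sum_eq_zero fun y _ => by rw [if_neg fun h => hm (by rw [h]; exact y.2), mul_zero]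
      · rw [if_neg hp]
        exact Finset.sum_eq_zero fun y _ => by rw [if_neg fun h => hp h.1, mul_zero]
    rw [h1]
    have hvalid : ∀ r, Even (pairL r) ∨ pairI r = 0 := by decide
    have hbound : ∀ r, pairI r < 3 ∧ pairL r < 4 := by decide
    have hinj8 : ∀ r r', pairI r = pairI r' → pairL r = pairL r' → r = r' := by decide
    have hsurj8 : ∀ (i : Fin 3) (l : Fin 4), Even (l : ℕ) ∨ (i : ℕ) = 0 →
        ∃ r, pairI r = (i : ℕ) ∧ pairL r = (l : ℕ) := by decide
    let ι : Fin 8 × Qsub t → G := fun q => w * (z ^ pairI q.1 * (q.2 : G) * (v * w) ^ pairL q.1)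
    have hι : Function.Injective ι := by
      rintro ⟨r, x⟩ ⟨r', x'⟩ h
      obtain ⟨e1, e2, e3⟩ := h_unique R (q_mem_k R x.2) (q_mem_k R x'.2) (mul_left_cancel h)
      rw [Nat.mod_eq_of_lt (hbound r).1, Nat.mod_eq_of_lt (hbound r').1] at e1
      rw [Nat.mod_eq_of_lt (hbound r).2, Nat.mod_eq_of_lt (hbound r').2] at e3
      exact Prod.ext (hinj8 r r' e1 e3) (Subtype.ext e2)
    have hconjQ : ∀ x : Qsub t, w * (x : G) * w⁻¹ = (x : G)⁻¹ := fun x =>
      q_inv R R.w_invol R.w_ne R.w_comm x.2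
    have hprod : ∀ q q', ι q * ι q' =
        z ^ (2 * pairI q.1 + if Even (pairL q.1) then pairI q'.1 else 2 * pairI q'.1) *
          ((q.2 : G)⁻¹ * q'.2) * (v * w) ^ (3 * pairL q.1 + pairL q'.1) := fun q q' => by
      show w * _ * (w * _) = _
      rw [wmul_wmul R (q_mem_k R q.2.2) (q_mem_k R q'.2.2), hconjQ]
    have hord : ∀ q, orderOf (ι q) = 2 := fun q => by
      refine orderOf_eq_prime ?_ fun h => w_not R ?_
      · rw [sq, hprod, inv_mul_cancel, mul_one, show 3 * pairL q.1 + pairL q.1 = 4 * pairL q.1 by ring, pow_mul,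
          sigma_four R, one_pow, mul_one]
        refine orderOf_dvd_iff_pow_eq_one.1 ?_
        rw [R.z_order]
        rcases hvalid q.1 with hl | hl
        · rw [if_pos hl]; omega
        · rw [hl]; split <;> omega
      · exact Eq.subst (motive := fun y => y ∈ Rsub t (v * w)) (mul_eq_one_iff_eq_inv.1 h).symm
          (inv_mem (h_mem R (q_mem_k R q.2.2)))
    have hsupp : ∀ p : G × G, orderOf p.1 = 2 → orderOf p.2 = 2 → ∀ hm : p.1 * p.2 ∈ Rsub t (v * w),
        lam R ⟨p.1 * p.2, hm⟩ ≠ 1 → p.1 ∈ Set.range ι ∧ p.2 ∈ Set.range ι := by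
      rintro ⟨i, j⟩ hi hj hm hl
      obtain ⟨n, -, hn⟩ := (rot R).exists_pow_eq hl
      simp only at hi hj hm hl hn ⊢
      have hii : i * i = 1 := by rw [← sq, ← hi, pow_orderOf_eq_one]
      have hjj : j * j = 1 := by rw [← sq, ← hj, pow_orderOf_eq_one]
      have hit : Commute i t := by
        have h0 : i * (i * j) * i⁻¹ = (i * j)⁻¹ := by
          rw [mul_inv_rev, inv_eq_of_mul_eq_one_right hii, inv_eq_of_mul_eq_one_right hjj, ← mul_assoc i i j, hii,
            one_mul]
        have h2 : i * (i * j) ^ n * i⁻¹ = ((i * j) ^ n)⁻¹ := by rw [← conj_pow, h0, inv_pow]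
        rw [hn, inv_eq_of_mul_eq_one_right (t_sq R)] at h2
        exact mul_inv_eq_iff_eq_mul.1 h2
      have hij : Commute (i * j) t := mem_centralizer_singleton_iff.1 (rsub_le R hm)
      have hjt : Commute j t := by simpa using hit.inv_left.mul_left hij
      have hrefl : ∀ x : G, orderOf x = 2 → x ∈ Rsub t (v * w) → x = t := fun x hx hxH =>
        (rot R).invol_eq (u := ⟨x, hxH⟩) (by rw [Subgroup.orderOf_mk, hx])
      have hnotH : i ∉ Rsub t (v * w) := fun hh => by
        have e1 := hrefl i hi hh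
        have hjH : j ∈ Rsub t (v * w) := by
          have := mul_mem (inv_mem hh) hm
          rwa [inv_mul_cancel_left] at this
        have e2 := hrefl j hj hjH
        refine hl ?_
        rw [show (⟨i * j, hm⟩ : Rsub t (v * w)) = 1 from Subtype.ext
          (show i * j = 1 by rw [e1, e2, t_sq R]), map_one]
      have hnotH' : j ∉ Rsub t (v * w) := fun hh => hnotH (by
        have := mul_mem hm (inv_mem hh)
        rwa [mul_inv_cancel_right] at this)
      have key : ∀ x : G, orderOf x = 2 → Commute x t → x ∉ Rsub t (v * w) → x ∈ Set.range ι := by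
        intro x hx hxt hxn
        have hxH : w * x ∈ Rsub t (v * w) :=
          (cover R (mem_centralizer_singleton_iff.2 hxt.eq)).resolve_left hxn
        obtain ⟨i', y, hy, l, h⟩ := h_exists R hxH
        obtain ⟨g, hg, d, hd, rfl⟩ := k_exists R hy
        have hxe : x = w * (z ^ i' * (g * d) * (v * w) ^ l) := by rw [← h, ← mul_assoc, w_sq R, one_mul]
        have hxx : x * x = 1 := by rw [← sq, ← hx, pow_orderOf_eq_one]
        rw [hxe, wmul_wmul R hy hy] at hxx
        have hconj : w * (g * d) * w⁻¹ = g⁻¹ * d := by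
          rw [show w * (g * d) * w⁻¹ = w * g * w⁻¹ * (w * d * w⁻¹) by group, q_inv R R.w_invol R.w_ne R.w_comm hg,
            (d_w hd).symm.eq, mul_inv_cancel_right]
        rw [hconj] at hxx
        obtain ⟨e1, e2, -⟩ := h_unique R (i' := 0) (l' := 0) (x' := 1)
          (mul_mem (k_of_fd R (inv_mem hg) hd) hy) (one_mem _)
          (by rw [hxx, pow_zero, pow_zero, one_mul, mul_one])
        have hdd : d * d = 1 := (k_unique R (f := g⁻¹ * (d * g * d⁻¹)) (f' := 1) (d' := 1)
          (mul_mem (inv_mem hg) (q_normal (d_t hd) hg)) (one_mem _) (mul_mem hd hd) (one_mem _)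
          (by rw [mul_one]; refine Eq.trans ?_ e2; group)).2
        have hd1 : d = 1 := eq_one_of_two_pow (odd_ocore t) (d_le hd) (k := 1) (by rw [pow_one, sq, hdd])
        have hil : Even (l % 4) ∨ i' % 3 = 0 := by
          by_cases hl' : Even l
          · left; rw [Nat.even_iff] at hl' ⊢; omega
          · right; rw [if_neg hl'] at e1; omega
        obtain ⟨r, hr1, hr2⟩ := hsurj8 ⟨i' % 3, Nat.mod_lt _ (by norm_num)⟩ ⟨l % 4, Nat.mod_lt _ (by norm_num)⟩ hil
        refine ⟨(r, ⟨g, hg⟩), ?_⟩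
        show w * (z ^ pairI r * g * (v * w) ^ pairL r) = x
        rw [hr1, hr2, hxe, hd1, mul_one]
        show w * (z ^ (i' % 3) * g * (v * w) ^ (l % 4)) = _
        rw [pow_congr (n := 3) (show z ^ 3 = 1 from orderOf_dvd_iff_pow_eq_one.1 R.z_order.dvd) (Nat.mod_mod i' 3),
          pow_congr (n := 4) (sigma_four R) (Nat.mod_mod l 4)]
      exact ⟨key i hi hit hnotH, key j hj hjt hnotH'⟩
    rw [← Finset.sum_subset (s₁ := Finset.univ.image fun q : (Fin 8 × Qsub t) × (Fin 8 × Qsub t) => (ι q.1, ι q.2))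
      (Finset.subset_univ _) fun p _ hp => ?_, Finset.sum_image fun q _ q' _ h => Prod.ext (hι (Prod.mk.inj h).1)
        (hι (Prod.mk.inj h).2)]
    · have hval : ∀ q : (Fin 8 × Qsub t) × (Fin 8 × Qsub t),
          (if orderOf (ι q.1) = 2 ∧ orderOf (ι q.2) = 2 then
            extendByZero (Rsub t (v * w)) f (ι q.1 * ι q.2) else 0) =
            1 - Complex.I ^ (3 * pairL q.1.1) * Complex.I ^ pairL q.2.1 := fun q => by
        have hK : ((q.1.2 : G)⁻¹ * q.2.2) ∈ Qsub t := mul_mem (inv_mem q.1.2.2) q.2.2.2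
        have hm : ι q.1 * ι q.2 ∈ Rsub t (v * w) := by rw [hprod]; exact h_mem R (q_mem_k R hK)
        rw [if_pos ⟨hord _, hord _⟩, extendByZero_mem _ _ hm]
        show (a : Rsub t (v * w) → ℂ) _ - (b : Rsub t (v * w) → ℂ) _ = _
        rw [hb, Rot.tw_apply, ha, inflH_apply, inflK_apply,
          show piD R (piH R ⟨_, hm⟩) = 1 from Subtype.ext (piD_val R hK (one_mem _) (by
            rw [OneMemClass.coe_one, mul_one]; exact piH_val R (y := ⟨_, hm⟩) (q_mem_k R hK) (hprod _ _))),
          hθ1, lam_val R (y := ⟨_, hm⟩) (q_mem_k R hK) (hprod _ _), pow_one, mul_one, ← pow_add]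
      rw [Finset.sum_congr rfl fun q _ => hval q]
      have hgeom : ∑ r : Fin 8, Complex.I ^ pairL r = 0 := by
        simp [pairL, Fin.sum_univ_eight, pow_succ]
      simp only [Finset.sum_sub_distrib, Fintype.sum_prod_type, Finset.sum_const, Finset.card_univ,
        nsmul_eq_mul, ← Finset.mul_sum, hgeom, mul_zero, mul_one, sub_zero]
      simp only [Fintype.card_prod, Fintype.card_fin, ← Nat.card_eq_fintype_card (α := Qsub t)]
      push_cast
      ring
    · by_cases hp' : orderOf p.1 = 2 ∧ orderOf p.2 = 2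
      swap
      · rw [if_neg hp']
      rw [if_pos hp']
      by_cases hm : p.1 * p.2 ∈ Rsub t (v * w)
      swap
      · rw [extendByZero_not_mem _ _ hm]
      rw [extendByZero_mem _ _ hm]
      by_cases hl : lam R ⟨p.1 * p.2, hm⟩ = 1
      · show (a : Rsub t (v * w) → ℂ) _ - (b : Rsub t (v * w) → ℂ) _ = 0
        rw [hb, ← (rot R).tw_van a 0 1 _ hl, Rot.tw_zero, sub_self]
      · obtain ⟨⟨q, hq⟩, ⟨q', hq'⟩⟩ := hsupp p hp'.1 hp'.2 hm hl
        exact absurd (Finset.mem_image.2 ⟨(q, q'), Finset.mem_univ _, Prod.ext hq hq'⟩) hp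
  have hM : (Nat.card (centralizer ({t} : Set G)) : ℂ) = 2 * (Nat.card (Rsub t (v * w)) : ℂ) := by
    rw [R.card, card_rsub R]; push_cast; ring
  simp only [classConst_formula, finsum_eq_sum_of_fintype, card_isConj, Finset.mul_sum] at hL
  rw [Finset.sum_comm] at hL
  have hidx : ((centralizer ({t} : Set G)).index : ℂ) * (Nat.card (centralizer ({t} : Set G)) : ℂ) =
      (Nat.card G : ℂ) := by
    exact_mod_cast (centralizer ({t} : Set G)).index_mul_card
  set N : ℂ := ((centralizer ({t} : Set G)).index : ℂ)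
  have hrew : ∀ χ : IrrCharacter G, ∑ y : Rsub t (v * w), f y * (N * N / (Nat.card G : ℂ) *
      ((χ : G → ℂ) t * (χ : G → ℂ) t * conj ((χ : G → ℂ) y) / (χ : G → ℂ) 1)) =
      N * N / (Nat.card G : ℂ) * (Nat.card (Rsub t (v * w)) : ℂ) *
        (((rot R).dm χ a b : ℂ) * (χ : G → ℂ) t ^ 2 / (χ : G → ℂ) 1) := fun χ => by
    calc _ = N * N / (Nat.card G : ℂ) * ((χ : G → ℂ) t ^ 2 / (χ : G → ℂ) 1) *
          ∑ y : Rsub t (v * w), f y * conj ((χ : G → ℂ) y) := by
            rw [Finset.mul_sum]; exact Finset.sum_congr rfl fun y _ => by ring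
      _ = _ := by rw [hR]; ring
  rw [Finset.sum_congr rfl fun χ _ => hrew χ, ← Finset.mul_sum] at hL
  rw [eq_div_iff card_ne_zero']
  set S := ∑ χ : IrrCharacter G, ((rot R).dm χ a b : ℂ) * (χ : G → ℂ) t ^ 2 / (χ : G → ℂ) 1
  have hN0 : N ≠ 0 := fun h => card_ne_zero' (G := G) (by rw [← hidx, h, zero_mul])
  field_simp at hL
  rw [← hidx, hM] at hL ⊢
  apply mul_left_cancel₀ (mul_ne_zero hN0 (card_ne_zero' (G := Rsub t (v * w))))
  linear_combination (2 * (Nat.card (Rsub t (v * w)) : ℂ)) * hL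

end CfsgLib.GW.CaseA.Mixed.Kill
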