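import Cfsg.Agent.Lib.GW.CaseA.Mixed.Kill.Chars
import Cfsg.Agent.Lib.GW.CaseA.Inverted.Congr

/-!
# Case A, residual configuration: the constituents have large degree
-/

set_option autoImplicit false
set_option linter.unusedSectionVars false
set_option linter.style.haveILetI false

open Subgroup
open scoped ComplexConjugate Classical

namespace CfsgLib.GW.CaseA.Mixed.Kill

open Cfsg CfsgLib.Char CfsgLib.Invol CfsgLib.GW.CaseA.Inverted

universe u

variable {G : Type u} [Group G] [Finite G] {t v w z c e : G} (R : Residual t v w z c e)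
include R

/-- **a constituent of a nonprincipal difference has degree at least `24`** -/
theorem degree_ge [Fintype G] [Fintype (Ocore t)] [Fintype (Rsub t (v * w))] (θ : IrrCharacter (Dsub t w))
    (hθne : θ ≠ ⟨fun _ => 1, isIrrCharacter_one⟩) {χ : IrrCharacter G}
    (hχ : (rot R).dm χ (inflH R (inflK R θ)) ((rot R).tw (inflH R (inflK R θ)) 1) ≠ 0)
    (h0 : ∀ a, aW R a ≠ a → 4 ∣ nn R χ (kap R 0 a)) (h1 : ∀ a, aW R a ≠ a → Even (nn R χ (kap R 1 a))) :
    24 ≤ charDegree (χ : G → ℂ) := by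
  haveI := R.hA.min.simple
  haveI := Fintype.ofFinite (IrrCharacter (Ksub t v w))
  -- not the principal character
  have hnp : ¬ ∀ g : G, (χ : G → ℂ) g = (χ : G → ℂ) 1 := fun hall => by
    let one : IrrCharacter (Rsub t (v * w)) := ⟨fun _ => 1, isIrrCharacter_one⟩
    have hm : ∀ a : IrrCharacter (Rsub t (v * w)), a ≠ one → (rot R).mult χ a = 0 := fun a ha => by
      have h := (rot R).mult_spec χ a
      rw [show (fun x : Rsub t (v * w) => (χ : G → ℂ) x) = ((χ : G → ℂ) 1) • ((one : Rsub t (v * w) → ℂ)) from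
        funext fun x => by simp [one, hall x], classInner_smul_left, classInner_irr_ne (Ne.symm ha), mul_zero] at h
      exact_mod_cast h.symm
    refine hχ ?_
    have hθ : inflH R (inflK R θ) ≠ one := fun h => hθne (Subtype.ext (funext fun d => by
      have h' : (inflH R (inflK R θ) : Rsub t (v * w) → ℂ) (oincl R (kincl R (dincl R d))) = 1 := by rw [h]
      rwa [inflH_apply, show piH R (oincl R (kincl R (dincl R d))) = dincl R d from piO_kincl R _, inflK_apply,
        piD_dincl] at h'))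
    have hθ' : (rot R).tw (inflH R (inflK R θ)) 1 ≠ one := fun h => by
      have hs : ((rot R).tw (inflH R (inflK R θ)) 1 : Rsub t (v * w) → ℂ) (sigH R) = 1 := by rw [h]
      have ho : ((rot R).tw (inflH R (inflK R θ)) 1 : Rsub t (v * w) → ℂ) 1 = 1 := by rw [h]
      rw [Rot.tw_apply, inflH_apply, piH_sigH, lam_sigH, pow_one] at hs
      rw [Rot.tw_apply, inflH_apply, map_one, map_one, Units.val_one, one_pow, one_mul] at ho
      rw [ho, mul_one] at hs
      simpa using congrArg Complex.re hs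
    rw [Rot.dm, hm _ hθ, hm _ hθ', sub_self]
  -- a commutator of `Q` and `D`
  obtain ⟨⟨d, hd⟩, hd0⟩ := Subgroup.ne_bot_iff_exists_ne_one.1 (d_ne_bot R)
  have hd1 : d ≠ 1 := fun h => hd0 (Subtype.ext h)
  obtain ⟨f, hf, hfd⟩ := exists_noncomm R hd hd1
  set x : Ksub t v w := ⟨f, q_mem_k R hf⟩ * ⟨d, d_mem_k R hd⟩ * ⟨f, q_mem_k R hf⟩⁻¹ * ⟨d, d_mem_k R hd⟩⁻¹ with hx
  have hxG : (x : G) = f * d * f⁻¹ * d⁻¹ := rfl
  have hxQ : (x : G) ∈ Qsub t := by
    rw [hxG, show f * d * f⁻¹ * d⁻¹ = f * (d * f⁻¹ * d⁻¹) by group]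
    exact mul_mem hf (q_normal (d_t hd) (inv_mem hf))
  have hxne : (x : G) ≠ 1 := fun h => hfd (by
    rw [hxG, mul_inv_eq_one, mul_inv_eq_iff_eq_mul] at h
    exact h)
  have hxD : piD R x = 1 := Subtype.ext (piD_val R hxQ (one_mem _) (mul_one _).symm)
  obtain ⟨i, a, hmov, hdeg, hnn⟩ : ∃ (i : Fin 3) (a : IrrCharacter (Ksub t v w)), aW R a ≠ a ∧
      2 ≤ charDegree (a : Ksub t v w → ℂ) ∧ nn R χ (kap R i a) ≠ 0 := by
    by_contra! hall
    refine hxne (eq_one_of_value_eq_degree χ hnp ?_)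
    rw [show (x : G) = ((kincl R x : Ocore t) : G) from rfl, show (1 : G) = ((1 : Ocore t) : G) from rfl,
      char_expand_o R, char_expand_o R]
    refine Finset.sum_congr rfl fun i _ => Finset.sum_congr rfl fun a _ => ?_
    by_cases hn : nn R χ (kap R i a) = 0
    · rw [hn, Nat.cast_zero, zero_mul, zero_mul]
    congr 1
    rw [kap_apply, kap_one, mu_kincl, piO_kincl, one_pow, one_mul]
    by_cases hmov : aW R a = a
    · obtain ⟨η, rfl⟩ := exists_inflK R a hmov
      rw [inflK_apply, inflK_apply, hxD, map_one]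
    · have hlt : ¬ 2 ≤ charDegree (a : Ksub t v w → ℂ) := fun h => hn (hall i a hmov h)
      have h1 : (a : Ksub t v w → ℂ) 1 = 1 := by
        rw [(CfsgLib.Block.charDegree_eq a).1]
        have := (CfsgLib.Block.charDegree_eq a).2
        exact_mod_cast (by omega : charDegree (a : Ksub t v w → ℂ) = 1)
      obtain ⟨φ, hφ⟩ := linearCharEquiv.surjective ⟨a, h1⟩
      have hv : ∀ y, (a : Ksub t v w → ℂ) y = (φ y : ℂ) := fun y => by
        rw [show a = (linearCharEquiv φ).1 by rw [hφ]]
        rfl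
      rw [hv, hv, hx, map_mul, map_mul, map_mul, map_inv, map_inv, map_one]
      congr 1
      rw [mul_comm (φ ⟨f, q_mem_k R hf⟩), mul_assoc (φ ⟨d, d_mem_k R hd⟩), mul_inv_cancel, mul_one, mul_inv_cancel]
  have hχdeg : charDegree (χ : G → ℂ) =
      ∑ j : Fin 3, ∑ b, nn R χ (kap R j b) * charDegree (b : Ksub t v w → ℂ) := by
    have h := char_expand_o R χ 1
    simp only [OneMemClass.coe_one, (CfsgLib.Block.charDegree_eq _).1, kap_degree] at h
    exact_mod_cast h
  have hd3 : 3 ≤ charDegree (a : Ksub t v w → ℂ) := by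
    obtain ⟨m, hm⟩ := odd_degree R a
    omega
  have hda : charDegree (aW R a : Ksub t v w → ℂ) = charDegree (a : Ksub t v w → ℂ) := by
    simp only [charDegree, aW_apply, map_one]
  have hmov' : aW R (aW R a) ≠ aW R a := by rw [aW_aW]; exact hmov.symm
  have hpair : ∀ (j : Fin 3) (m : ℕ), m ≤ nn R χ (kap R j a) →
      2 * (m * 3) ≤ ∑ b, nn R χ (kap R j b) * charDegree (b : Ksub t v w → ℂ) := fun j m hm => by
    refine le_trans ?_ (Finset.sum_le_sum_of_subset (s := {a, aW R a}) (Finset.subset_univ _))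
    rw [Finset.sum_pair hmov.symm, (nn_aW R χ j a).1, hda]
    have := Nat.mul_le_mul hm hd3
    omega
  rw [hχdeg, Fin.sum_univ_three]
  by_cases hi : i = 0
  · subst hi
    obtain ⟨k, hk⟩ := h0 a hmov
    simp only [Fin.val_zero] at hnn
    have := hpair 0 4 (by simp only [Fin.val_zero]; omega)
    omega
  · have hn1 : nn R χ (kap R 1 a) ≠ 0 := by
      fin_cases i
      · exact absurd rfl hi
      · exact hnn
      · rw [← (nn_sigma R χ a).1]; exact hnn
    obtain ⟨k, hk⟩ := h1 a hmov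
    have e1 := hpair 1 2 (by simp only [Fin.val_one]; omega)
    have e2 := hpair 2 2 (by simp only [Fin.val_two, (nn_sigma R χ a).1]; omega)
    omega

end CfsgLib.GW.CaseA.Mixed.Kill
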