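import Cfsg.Agent.Lib.GW.CaseA.Mixed.Kill.Support
import Cfsg.Agent.Lib.GW.CaseA.Mixed.Kill.Count
import Cfsg.Agent.Lib.GW.CaseA.Mixed.Kill.Degree
import Cfsg.Agent.Lib.GW.CaseA.Inverted.Main

/-!
# Case A: the residual configuration of mixed signs does not occur

With `θ` a nontrivial linear character of `D` the three constituents of the difference of two twists have degree
at least 24 and values at `t` with squares summing to at most 14, while the count of pairs of involutions and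
the order formula force more.
-/

set_option autoImplicit false
set_option linter.unusedSectionVars false
set_option linter.style.haveILetI false

open Subgroup
open scoped ComplexConjugate Classical

namespace CfsgLib.GW.CaseA.Mixed.Kill

open Cfsg CfsgLib.Char CfsgLib.Invol CfsgLib.GW.CaseA.Inverted

universe u

variable {G : Type u} [Group G] [Finite G]

/-- the sum over the constituents is at most `14 / 24` -/
theorem sum_terms_le {ι : Type*} [Fintype ι] (A V : ι → ℤ) (d : ι → ℕ) (hA : ∀ i, -1 ≤ A i ∧ A i ≤ 1)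
    (hd : ∀ i, A i ≠ 0 → 24 ≤ d i) (hV : ∑ i, (if A i = 0 then 0 else V i ^ 2) ≤ 14) :
    ∑ i, (A i : ℚ) * (V i : ℚ) ^ 2 / (d i : ℚ) ≤ 7 / 12 := by
  have hb : ∀ i, (A i : ℚ) * (V i : ℚ) ^ 2 / (d i : ℚ) ≤ ((if A i = 0 then 0 else V i ^ 2 : ℤ) : ℚ) / 24 := fun i => by
    by_cases h0 : A i = 0
    · rw [h0, if_pos rfl, Int.cast_zero, zero_mul, zero_div, zero_div]
    · have hdi : (24 : ℚ) ≤ d i := by exact_mod_cast hd i h0
      have hc : (A i : ℚ) ≤ 1 := by exact_mod_cast (hA i).2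
      rw [if_neg h0, Int.cast_pow]
      calc (A i : ℚ) * (V i : ℚ) ^ 2 / (d i : ℚ) ≤ (V i : ℚ) ^ 2 / (d i : ℚ) :=
            div_le_div_of_nonneg_right (mul_le_of_le_one_left (sq_nonneg _) hc) (Nat.cast_nonneg _)
        _ ≤ (V i : ℚ) ^ 2 / 24 := div_le_div_of_nonneg_left (sq_nonneg _) (by norm_num) hdi
  calc ∑ i, (A i : ℚ) * (V i : ℚ) ^ 2 / (d i : ℚ) ≤ ∑ i, ((if A i = 0 then 0 else V i ^ 2 : ℤ) : ℚ) / 24 :=
        Finset.sum_le_sum fun i _ => hb i
    _ = ((∑ i, (if A i = 0 then 0 else V i ^ 2) : ℤ) : ℚ) / 24 := by rw [← Finset.sum_div, Int.cast_sum]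
    _ ≤ ((14 : ℤ) : ℚ) / 24 := div_le_div_of_nonneg_right (Int.cast_le.2 hV) (by norm_num)
    _ = 7 / 12 := by norm_num

/-- **the residual configuration of mixed signs does not occur** -/
theorem false_of_residual {t v w z c e : G} (R : Residual t v w z c e) : False := by
  letI := Fintype.ofFinite G
  haveI := Fintype.ofFinite (Rsub t (v * w))
  haveI := Fintype.ofFinite (Ocore t)
  haveI := Fintype.ofFinite (IrrCharacter G)
  haveI := (Subgroup.nontrivial_iff_ne_bot _).2 (d_ne_bot R)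
  haveI : Group.IsSolvable (Dsub t w) :=
    CfsgLib.FT.isSolvable_of_odd _ ((odd_ocore t).of_dvd_nat (card_dvd_of_le inf_le_left))
  obtain ⟨g, -, hg⟩ := SetLike.exists_of_lt (Group.IsSolvable.commutator_lt_top_of_nontrivial (Dsub t w))
  obtain ⟨φ, hφ⟩ := CfsgLib.Block.exists_linear_ne_one hg
  set θ : IrrCharacter (Dsub t w) := ⟨fun d => (φ d : ℂ), isIrrCharacter_lin φ⟩ with hθ
  have hθ1 : (θ : Dsub t w → ℂ) 1 = 1 := by simp [hθ]
  have hθne : θ ≠ ⟨fun _ => 1, isIrrCharacter_one⟩ := fun e' => hφ (Units.ext (by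
    simpa [hθ] using congrArg (fun a : IrrCharacter (Dsub t w) => (a : Dsub t w → ℂ) g) e'))
  have hpc := pair_count R θ hθ1
  set A : IrrCharacter G → ℤ := dd R (inflK R θ) 0 1
  set V : IrrCharacter G → ℤ := fun χ =>
    2 * A χ - dd R (inflK R θ) 0 2 χ + 2 * ee R χ (kap R 1 (inflK R θ))
  set q : IrrCharacter G → ℚ := fun χ => (A χ : ℚ) * (V χ : ℚ) ^ 2 / (charDegree (χ : G → ℂ) : ℚ) with hq
  have hterm : ∀ χ : IrrCharacter G, ((rot R).dm χ (inflH R (inflK R θ)) ((rot R).tw (inflH R (inflK R θ)) 1) : ℂ) *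
      (χ : G → ℂ) t ^ 2 / (χ : G → ℂ) 1 = ((q χ : ℚ) : ℂ) := fun χ => by
    have e' : (rot R).dm χ (inflH R (inflK R θ)) ((rot R).tw (inflH R (inflK R θ)) 1) = A χ := by
      show _ = dd R (inflK R θ) 0 1 χ
      rw [dd, (rot R).tw_zero]
    rw [e', (CfsgLib.Block.charDegree_eq χ).1, hq]
    by_cases h0 : A χ = 0
    · simp [h0]
    · rw [value_t R hθ1 h0]
      push_cast [V]
      rfl
  rw [Finset.sum_congr rfl fun χ _ => hterm χ] at hpc
  have hqe : ∑ χ, q χ = 128 * (Nat.card (Qsub t) : ℚ) ^ 2 * Nat.card (centralizer ({t} : Set G)) /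
      (Nat.card G : ℚ) := by
    apply Rat.cast_injective (α := ℂ)
    push_cast
    exact hpc
  have hle : ∑ χ, q χ ≤ 7 / 12 := sum_terms_le A V _ (abs_le_one_of_norm_three (dd_norm_three R θ))
    (fun χ hχ => degree_ge R θ hθne (by
        have h := hχ
        change dd R (inflK R θ) 0 1 χ ≠ 0 at h
        rwa [dd, (rot R).tw_zero] at h)
      (fun a ha => (moved_zero R hχ ha).2)
      fun a ha => by
        rw [← Nat.not_odd_iff_even, ee_parity R, moved_one R hθ1 hχ ha]
        norm_num)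
    (sum_value_le R hθ1)
  rw [hqe, div_le_div_iff₀ (by exact_mod_cast Nat.card_pos) (by norm_num)] at hle
  have hidx := index_le R
  have hpos : (0 : ℚ) < (Nat.card (Qsub t) : ℚ) ^ 2 * Nat.card (centralizer ({t} : Set G)) :=
    mul_pos (pow_pos (Nat.cast_pos.2 Nat.card_pos) 2) (Nat.cast_pos.2 Nat.card_pos)
  linarith

end CfsgLib.GW.CaseA.Mixed.Kill
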