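import Cfsg.Agent.Lib.GW.CaseA.Mixed.Kill.Proj
import Cfsg.Agent.Lib.Char.Counting
import Cfsg.Agent.Lib.Char.Virtual
import Cfsg.Agent.Lib.Block.Cartan
import Cfsg.Agent.Lib.Block.Defect

/-!
# Case A, residual configuration: characters of `O(C(t))` in the constituents

`Irr O` consists of the `κ(i, a)`, `i < 3`, `a ∈ Irr K`.  For `χ ∈ Irr G`, `nn χ κ` is the multiplicity of `κ` in `χ`
on `O` and `ee χ κ` the one in `x ↦ χ (t x)`; they agree modulo two, and column orthogonality gives the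
norms of the latter.
-/

set_option autoImplicit false
set_option linter.unusedSectionVars false
set_option linter.style.haveILetI false

open Subgroup
open scoped ComplexConjugate Classical

namespace CfsgLib.GW.CaseA.Mixed.Kill

open Cfsg CfsgLib.Char CfsgLib.Invol CfsgLib.GW.CaseA.Inverted

universe u

variable {G : Type u} [Group G]

theorem card_transporter [Fintype G] (x y : G) :
    (((Finset.univ : Finset G).filter fun k => k * x * k⁻¹ = y).card : ℂ) =
      if IsConj x y then (Nat.card (centralizer ({x} : Set G)) : ℂ) else 0 := by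
  split_ifs with h
  · obtain ⟨g, hg⟩ := isConj_iff.1 h
    rw [← Fintype.card_subtype, ← Nat.card_eq_fintype_card, Nat.cast_inj]
    refine (Nat.card_eq_of_bijective (fun c : centralizer ({x} : Set G) => (⟨g * c, ?_⟩ : {k // k * x * k⁻¹ = y}))
      ⟨fun a b e => ?_, fun k => ?_⟩).symm
    · rw [← hg]
      calc g * (c : G) * x * (g * (c : G))⁻¹ = g * ((c : G) * x * (c : G)⁻¹) * g⁻¹ := by group
        _ = g * x * g⁻¹ := by rw [mem_centralizer_singleton_iff.1 c.2, mul_inv_cancel_right]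
    · exact Subtype.ext (mul_left_cancel (congrArg Subtype.val e))
    · refine ⟨⟨g⁻¹ * k, mem_centralizer_singleton_iff.2 ?_⟩, Subtype.ext (mul_inv_cancel_left g k)⟩
      calc g⁻¹ * (k : G) * x = g⁻¹ * ((k : G) * x * (k : G)⁻¹) * k := by group
        _ = g⁻¹ * (g * x * g⁻¹) * k := by rw [k.2.trans hg.symm]
        _ = x * (g⁻¹ * k) := by group
  · rw [Nat.cast_eq_zero, Finset.card_eq_zero]
    exact Finset.filter_false_of_mem fun k _ e => h (isConj_iff.2 ⟨k, e⟩)

variable [Finite G] {t v w z c e : G} (R : Residual t v w z c e)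
include R

/-! ### Irreducible characters of `O` -/

theorem exists_split (o : Ocore t) :
    ∃ j : ℕ, j < 3 ∧ o = zO R ^ j * kincl R (piO R o) ∧ (mu R o : ℂ) = om ^ j := by
  obtain ⟨i, x, hx, h⟩ := exists_ofk R o.2
  rw [pow_zero, mul_one] at h
  refine ⟨i % 3, Nat.mod_lt _ (by norm_num), Subtype.ext ?_, ?_⟩
  · rw [coe_mul, coe_pow, kincl_val, piO_val R hx h, show (zO R : G) = z from rfl, h, ← R.z_order,
      pow_mod_orderOf]
  · rw [mu_val R hx h]
    exact om_pow (by omega)

theorem mu_zpow_k (j : ℕ) (x : Ksub t v w) :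
    (mu R (zO R ^ j * kincl R x) : ℂ) = om ^ j ∧ piO R (zO R ^ j * kincl R x) = x := by
  refine ⟨?_, ?_⟩
  · rw [map_mul, map_pow, Units.val_mul, Units.val_pow_eq_pow_val, mu_z, mu_kincl, mul_one]
  · rw [map_mul, map_pow, piO_z, one_pow, one_mul, piO_kincl]

theorem split_bijective :
    Function.Bijective fun p : Fin 3 × Ksub t v w => zO R ^ (p.1 : ℕ) * kincl R p.2 := by
  constructor
  · rintro ⟨j, x⟩ ⟨j', x'⟩ h
    obtain ⟨h1, h2⟩ := mu_zpow_k R (j : ℕ) x
    obtain ⟨h3, h4⟩ := mu_zpow_k R (j' : ℕ) x'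
    simp only at h
    rw [h] at h1 h2
    exact Prod.ext (Fin.ext (om_prim.pow_inj j.2 j'.2 (h1.symm.trans h3))) (h2.symm.trans h4)
  · intro o
    obtain ⟨j, hj, h, -⟩ := exists_split R o
    exact ⟨(⟨j, hj⟩, piO R o), h.symm⟩

theorem sum_ocore [Fintype (Ocore t)] [Fintype (Ksub t v w)] (f : Ocore t → ℂ) :
    ∑ o, f o = ∑ j : Fin 3, ∑ x, f (zO R ^ (j : ℕ) * kincl R x) := by
  rw [← Fintype.sum_prod_type']
  exact (Fintype.sum_bijective _ (split_bijective R) _ _ fun _ => rfl).symm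

theorem exists_kap (i : ℕ) (a : IrrCharacter (Ksub t v w)) :
    ∃ κ : IrrCharacter (Ocore t), ∀ o, (κ : Ocore t → ℂ) o = (mu R o : ℂ) ^ i * (a : Ksub t v w → ℂ) (piO R o) := by
  obtain ⟨ψ, hψ⟩ := CfsgLib.Block.exists_linear_twist
    ⟨_, isIrrCharacter_comp_surjective a.2 (piO R) fun x => ⟨kincl R x, piO_kincl R x⟩⟩ (mu R ^ i)
  exact ⟨ψ, fun o => by rw [hψ o, MonoidHom.pow_apply, Units.val_pow_eq_pow_val]⟩

/-- `κ(i, a)` -/
noncomputable def kap (i : ℕ) (a : IrrCharacter (Ksub t v w)) : IrrCharacter (Ocore t) := (exists_kap R i a).choose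

theorem kap_apply (i : ℕ) (a : IrrCharacter (Ksub t v w)) (o : Ocore t) :
    (kap R i a : Ocore t → ℂ) o = (mu R o : ℂ) ^ i * (a : Ksub t v w → ℂ) (piO R o) :=
  (exists_kap R i a).choose_spec o

theorem kap_one (i : ℕ) (a : IrrCharacter (Ksub t v w)) :
    (kap R i a : Ocore t → ℂ) 1 = (a : Ksub t v w → ℂ) 1 := by
  rw [kap_apply, map_one, map_one, Units.val_one, one_pow, one_mul]

theorem kap_mod {i j : ℕ} (h : i % 3 = j % 3) (a : IrrCharacter (Ksub t v w)) : kap R i a = kap R j a :=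
  Subtype.ext (funext fun o => by
    obtain ⟨k, -, -, hk⟩ := exists_split R o
    rw [kap_apply, kap_apply, hk, ← pow_mul, ← pow_mul]
    congr 1
    exact om_pow (by rw [Nat.mul_mod, h, ← Nat.mul_mod]))

theorem kap_inj {i i' : ℕ} {a a' : IrrCharacter (Ksub t v w)} (h : kap R i a = kap R i' a') :
    i % 3 = i' % 3 ∧ a = a' := by
  have hv : ∀ o, (kap R i a : Ocore t → ℂ) o = (kap R i' a' : Ocore t → ℂ) o := fun o => by rw [h]
  have ha : a = a' := Subtype.ext (funext fun x => by
    have := hv (kincl R x)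
    rwa [kap_apply, kap_apply, mu_kincl, piO_kincl, one_pow, one_pow, one_mul, one_mul] at this)
  subst ha
  refine ⟨?_, rfl⟩
  have h1 := hv (zO R)
  rw [kap_apply, kap_apply, mu_z, piO_z] at h1
  have h2 : om ^ i = om ^ i' := mul_right_cancel₀ (irr_one_ne_zero a) h1
  rw [om_pow (Nat.mod_mod i 3).symm, om_pow (Nat.mod_mod i' 3).symm] at h2
  exact om_prim.pow_inj (Nat.mod_lt _ (by norm_num)) (Nat.mod_lt _ (by norm_num)) h2

theorem kap_surj (κ : IrrCharacter (Ocore t)) : ∃ i : Fin 3, ∃ a, κ = kap R i a := by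
  haveI := Fintype.ofFinite (Ocore t)
  haveI := Fintype.ofFinite (Ksub t v w)
  obtain ⟨f, n, ρ, hρ, rfl⟩ := κ
  obtain ⟨cc, hcc⟩ := exists_central_hom ρ
  set Z : center (Ocore t) := ⟨zO R, zO_center R⟩
  have hmul : ∀ (j : ℕ) x, ρ.character (zO R ^ j * x) = (cc Z : ℂ) ^ j * ρ.character x := fun j x => by
    show LinearMap.trace ℂ _ (ρ (zO R ^ j * x)) = _ * LinearMap.trace ℂ _ (ρ x)
    rw [map_mul, show ρ (zO R ^ j) = ((cc (Z ^ j)) : ℂ) • LinearMap.id from hcc (Z ^ j), smul_mul_assoc,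
      map_smul, smul_eq_mul, map_pow, Units.val_pow_eq_pow_val]
    rfl
  have hc3 : (cc Z : ℂ) ^ 3 = 1 := by
    rw [← Units.val_pow_eq_pow_val, ← map_pow, show Z ^ 3 = 1 from Subtype.ext (zO_pow R), map_one, Units.val_one]
  obtain ⟨i, hi, hie⟩ := om_prim.eq_pow_of_pow_eq_one hc3
  have hval : ∀ o, ρ.character o = (mu R o : ℂ) ^ i * ρ.character (kincl R (piO R o)) := fun o => by
    obtain ⟨j, -, hj, hm⟩ := exists_split R o
    conv_lhs => rw [hj, hmul]
    rw [hm, ← hie, ← pow_mul, ← pow_mul, mul_comm i j]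
  have hchar : IsCharacter (Ksub t v w) (fun x => ρ.character (kincl R x)) :=
    isCharacter_comp ⟨n, ρ, rfl⟩ (kincl R)
  have hnorm : classInner (fun x => ρ.character (kincl R x)) (fun x => ρ.character (kincl R x)) = 1 := by
    have h1 := classInner_irr_self (G := Ocore t) ⟨_, n, ρ, hρ, rfl⟩
    simp only [classInner] at h1 ⊢
    rw [sum_ocore R] at h1
    have h2 : ∀ (j : Fin 3) (x : Ksub t v w),
        ρ.character (zO R ^ (j : ℕ) * kincl R x) * conj (ρ.character (zO R ^ (j : ℕ) * kincl R x)) =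
        ρ.character (kincl R x) * conj (ρ.character (kincl R x)) := fun j x => by
      rw [hmul, map_mul]
      have h3 : (cc Z : ℂ) ^ (j : ℕ) * conj ((cc Z : ℂ) ^ (j : ℕ)) = 1 := by
        rw [map_pow, ← mul_pow, conj_eq_inv_of_pow_eq_one (by norm_num : 3 ≠ 0) hc3,
          mul_inv_cancel₀ (cc Z).ne_zero, one_pow]
      linear_combination (ρ.character (kincl R x) * conj (ρ.character (kincl R x))) * h3
    simp only [h2, Finset.sum_const, Finset.card_univ, Fintype.card_fin, nsmul_eq_mul, Nat.cast_ofNat] at h1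
    rw [card_ocore R, Nat.cast_mul, Nat.cast_ofNat, mul_inv, mul_comm ((3 : ℂ)⁻¹), mul_assoc,
      inv_mul_cancel_left₀ (by norm_num : (3 : ℂ) ≠ 0)] at h1
    exact h1
  refine ⟨⟨i, hi⟩, ⟨_, isIrr_of_isCharacter_norm_one hchar hnorm⟩, Subtype.ext (funext fun o => ?_)⟩
  rw [kap_apply]
  exact hval o

theorem sum_irrO [Fintype (IrrCharacter (Ocore t))] [Fintype (IrrCharacter (Ksub t v w))]
    (f : IrrCharacter (Ocore t) → ℂ) : ∑ κ, f κ = ∑ i : Fin 3, ∑ a, f (kap R i a) := by
  rw [← Fintype.sum_prod_type']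
  refine (Fintype.sum_bijective (fun p : Fin 3 × IrrCharacter (Ksub t v w) => kap R p.1 p.2) ⟨?_, ?_⟩ _ _
    fun _ => rfl).symm
  · rintro ⟨i, a⟩ ⟨i', a'⟩ h
    obtain ⟨h1, h2⟩ := kap_inj R h
    exact Prod.ext (Fin.ext (by rwa [Nat.mod_eq_of_lt i.2, Nat.mod_eq_of_lt i'.2] at h1)) h2
  · intro κ
    obtain ⟨i, a, h⟩ := kap_surj R κ
    exact ⟨(i, a), h.symm⟩

/-! ### The conjugate by `w` -/

/-- `a ∘ w` -/
noncomputable def aW (a : IrrCharacter (Ksub t v w)) : IrrCharacter (Ksub t v w) :=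
  ⟨_, isIrrCharacter_comp_surjective a.2 (wK R).toMonoidHom (wK R).surjective⟩

theorem aW_apply (a : IrrCharacter (Ksub t v w)) (x : Ksub t v w) :
    (aW R a : Ksub t v w → ℂ) x = (a : Ksub t v w → ℂ) (wK R x) := rfl

theorem aW_aW (a : IrrCharacter (Ksub t v w)) : aW R (aW R a) = a :=
  Subtype.ext (funext fun x => by rw [aW_apply, aW_apply, wK_wK])

theorem aW_inflK (η : IrrCharacter (Dsub t w)) : aW R (inflK R η) = inflK R η :=
  Subtype.ext (funext fun x => by rw [aW_apply, inflK_apply, inflK_apply, piD_wK])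

theorem inflK_inj {η η' : IrrCharacter (Dsub t w)} (h : inflK R η = inflK R η') : η = η' :=
  Subtype.ext (funext fun d => by
    have := congrArg (fun a : IrrCharacter (Ksub t v w) => (a : Ksub t v w → ℂ) (dincl R d)) h
    simpa [inflK_apply, piD_dincl] using this)

/-- a fixed character of `K` is inflated from `D` -/
theorem exists_inflK (a : IrrCharacter (Ksub t v w)) (ha : aW R a = a) : ∃ η, a = inflK R η := by
  haveI := Fintype.ofFinite (Ksub t v w)
  have hpoint : ∀ C : ConjClasses (Ksub t v w), ConjClasses.map (wK R).toMonoidHom C = C →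
      ∃ d : Dsub t w, C = ConjClasses.mk (dincl R d) := by
    intro C hC
    obtain ⟨y, rfl⟩ := ConjClasses.exists_rep C
    let S := {x : Ksub t v w // IsConj y x}
    have hmap : ∀ x, IsConj y x → IsConj y (wK R x) := fun x hx => by
      refine (ConjClasses.mk_eq_mk_iff_isConj.1 ?_).trans ((wK R).toMonoidHom.map_isConj hx)
      exact hC.symm
    let π : Equiv.Perm S :=
      { toFun := fun x => ⟨wK R x.1, hmap _ x.2⟩
        invFun := fun x => ⟨wK R x.1, hmap _ x.2⟩
        left_inv := fun x => Subtype.ext (wK_wK R _)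
        right_inv := fun x => Subtype.ext (wK_wK R _) }
    haveI : Fintype S := Fintype.ofFinite S
    have hπ : π ^ 2 ^ 1 = 1 := Equiv.ext fun x => Subtype.ext (wK_wK R x.1)
    have hodd : ¬ 2 ∣ Fintype.card S := by
      rw [← Nat.card_eq_fintype_card, card_isConj]
      have ho : Odd (Nat.card (Ksub t v w)) := (odd_ocore t).of_dvd_nat (card_dvd_of_le inf_le_left)
      exact (Nat.not_even_iff_odd.2 (ho.of_dvd_nat (index_dvd_card _))) ∘ even_iff_two_dvd.2
    haveI : Fact (Nat.Prime 2) := ⟨Nat.prime_two⟩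
    obtain ⟨x, hx⟩ := Equiv.Perm.exists_fixed_point_of_prime hodd hπ
    have hxw : w * ((x.1 : Ksub t v w) : G) * w⁻¹ = (x.1 : Ksub t v w) :=
      congrArg (fun y : S => ((y.1 : Ksub t v w) : G)) hx
    obtain ⟨d, hd⟩ := mem_range_dincl R (x := x.1) (mul_inv_eq_iff_eq_mul.1 hxw).symm
    exact ⟨d, by rw [hd]; exact ConjClasses.mk_eq_mk_iff_isConj.2 x.2⟩
  choose fd hfd using hpoint
  have hle : Nat.card {C : ConjClasses (Ksub t v w) // ConjClasses.map (wK R).toMonoidHom C = C} ≤
      Nat.card (IrrCharacter (Dsub t w)) := by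
    rw [card_irr_eq_card_conjClasses]
    refine Nat.card_le_card_of_injective (fun C => ConjClasses.mk (fd C.1 C.2)) ?_
    intro C C' h
    refine Subtype.ext ((hfd C.1 C.2).trans (Eq.trans ?_ (hfd C'.1 C'.2).symm))
    rw [ConjClasses.mk_eq_mk_iff_isConj]
    exact (dincl R).map_isConj (ConjClasses.mk_eq_mk_iff_isConj.1 h)
  let g : IrrCharacter (Dsub t w) →
      {χ : IrrCharacter (Ksub t v w) // (χ : Ksub t v w → ℂ) ∘ (wK R) = (χ : Ksub t v w → ℂ)} :=
    fun η => ⟨inflK R η, congrArg Subtype.val (aW_inflK R η)⟩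
  have hg : Function.Injective g := fun η η' h => inflK_inj R (congrArg Subtype.val h)
  rw [card_fixed_classes_aut] at hle
  obtain ⟨η, h⟩ := ((Nat.bijective_iff_injective_and_card g).2
    ⟨hg, le_antisymm (Nat.card_le_card_of_injective g hg) hle⟩).2 ⟨a, congrArg Subtype.val ha⟩
  exact ⟨η, (congrArg Subtype.val h).symm⟩

theorem tc_inflH [Fintype G] (a : IrrCharacter (Ksub t v w)) : (rot R).tc (inflH R a) = inflH R (aW R a) :=
  Subtype.ext (funext fun y => by rw [Rot.tc_apply, inflH_apply, inflH_apply, aW_apply, piH_conjT])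

theorem inflH_base (a : IrrCharacter (Ksub t v w)) : (rot R).Base (sigH R) (inflH R a) := fun y => by
  rw [inflH_apply, inflH_apply, map_mul, piH_sigH, one_mul]

theorem inflH_inj {a a' : IrrCharacter (Ksub t v w)} (h : inflH R a = inflH R a') : a = a' :=
  Subtype.ext (funext fun x => by
    have := congrArg (fun b : IrrCharacter (Rsub t (v * w)) =>
      (b : Rsub t (v * w) → ℂ) (oincl R (kincl R x))) h
    simp only [inflH_apply] at this
    rwa [show piH R (oincl R (kincl R x)) = x from piO_kincl R x] at this)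

theorem kap_degree (i : ℕ) (a : IrrCharacter (Ksub t v w)) :
    charDegree (kap R i a : Ocore t → ℂ) = charDegree (a : Ksub t v w → ℂ) := by
  simp only [charDegree, kap_one]

theorem odd_degree (a : IrrCharacter (Ksub t v w)) : Odd (charDegree (a : Ksub t v w → ℂ)) :=
  haveI := Fintype.ofFinite (Ksub t v w)
  haveI := Fintype.ofFinite (IrrCharacter (Ksub t v w))
  ((odd_ocore t).of_dvd_nat (card_dvd_of_le inf_le_left)).of_dvd_nat (CfsgLib.Block.charDegree_dvd a)

/-! ### Multiplicities -/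

/-- conjugation by an element of `C(t)` -/
def conjO {g : G} (hg : Commute g t) (o : Ocore t) : Ocore t := ⟨g * o * g⁻¹, conj_w_ocore R o.2 hg⟩

theorem conjO_val {g : G} (hg : Commute g t) (o : Ocore t) : (conjO R hg o : G) = g * o * g⁻¹ := rfl

theorem conjO_bijective {g : G} (hg : Commute g t) : Function.Bijective (conjO R hg) := by
  refine Function.bijective_iff_has_inverse.2 ⟨conjO R hg.inv_left, fun o => Subtype.ext ?_, fun o => Subtype.ext ?_⟩
  all_goals (rw [conjO_val, conjO_val]; group)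

theorem kap_sigma (i : ℕ) (a : IrrCharacter (Ksub t v w)) (o : Ocore t) :
    (kap R (2 * i) a : Ocore t → ℂ) o = (kap R i a : Ocore t → ℂ) (conjO R (sigma_comm_t R) o) := by
  obtain ⟨h1, h2⟩ := parts_sigma_conj R (o := o) (o' := conjO R (sigma_comm_t R) o) (l := 1)
    (by rw [pow_one, conjO_val])
  rw [if_neg (by norm_num)] at h2
  rw [kap_apply, kap_apply, h1, h2, ← pow_mul]

theorem kap_v (i : ℕ) (a : IrrCharacter (Ksub t v w)) (o : Ocore t) :
    (kap R i (aW R a) : Ocore t → ℂ) o = (kap R i a : Ocore t → ℂ) (conjO R R.v_comm o) := by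
  obtain ⟨h1, h2⟩ := parts_v_conj R (o := o) (o' := conjO R R.v_comm o) rfl
  rw [kap_apply, kap_apply, aW_apply, h1, h2]

variable [Fintype G] [Fintype (Ocore t)]

theorem exists_nn (χ : IrrCharacter G) (κ : IrrCharacter (Ocore t)) :
    ∃ n : ℕ, classInner (fun x : Ocore t => (χ : G → ℂ) x) (κ : Ocore t → ℂ) = (n : ℂ) :=
  classInner_char_irr_nat (isCharacter_comp (isCharacter_irr χ) (Ocore t).subtype) κ

/-- the multiplicity of `κ` in `χ` -/
noncomputable def nn (χ : IrrCharacter G) (κ : IrrCharacter (Ocore t)) : ℕ := (exists_nn R χ κ).choose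

theorem nn_spec (χ : IrrCharacter G) (κ : IrrCharacter (Ocore t)) :
    classInner (fun x : Ocore t => (χ : G → ℂ) x) (κ : Ocore t → ℂ) = (nn R χ κ : ℂ) := (exists_nn R χ κ).choose_spec

theorem exists_ee (χ : IrrCharacter G) (κ : IrrCharacter (Ocore t)) :
    ∃ m : ℤ, classInner (fun x : Ocore t => (χ : G → ℂ) (t * x)) (κ : Ocore t → ℂ) = (m : ℂ) ∧
      (Odd (nn R χ κ) ↔ Odd m) := by
  set T := zpowers t
  haveI : Fintype T := Fintype.ofFinite T
  have hcomm : ∀ (x : Ocore t) (s : T), Commute (x : G) (s : G) := fun x s => by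
    obtain ⟨k, hk⟩ := mem_zpowers_iff.1 s.2
    rw [← hk]
    exact Commute.zpow_right (mem_centralizer_singleton_iff.1 (ocore_le t x.2)) k
  let φ : Ocore t × T →* G := MonoidHom.mk' (fun p => (p.1 : G) * p.2) fun p q => by
    show (p.1 : G) * q.1 * ((p.2 : G) * q.2) = (p.1 : G) * p.2 * ((q.1 : G) * q.2)
    calc (p.1 : G) * q.1 * ((p.2 : G) * q.2) = (p.1 : G) * ((q.1 : G) * p.2) * q.2 := by group
      _ = _ := by rw [(hcomm q.1 p.2).eq]; group
  let sg : T →* ℂˣ := (lam R).comp (inclusion (zpowers_le.2 (t_mem_h R)))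
  let κ₁ : IrrCharacter (Ocore t × T) :=
    ⟨_, isIrrCharacter_comp_surjective κ.2 (MonoidHom.fst (Ocore t) T) fun x => ⟨(x, 1), rfl⟩⟩
  obtain ⟨κ₂, hκ₂⟩ := CfsgLib.Block.exists_linear_twist κ₁ (sg.comp (MonoidHom.snd (Ocore t) T))
  obtain ⟨p, hp⟩ := classInner_char_irr_nat (isCharacter_comp (isCharacter_irr χ) φ) κ₁
  obtain ⟨q, hq⟩ := classInner_char_irr_nat (isCharacter_comp (isCharacter_irr χ) φ) κ₂
  let tT : T := ⟨t, mem_zpowers t⟩
  have hbij : Function.Bijective fun b : Bool => cond b tT 1 := by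
    refine (Nat.bijective_iff_injective_and_card _).2 ⟨fun b b' h => ?_, by
      rw [Nat.card_zpowers, ht R, Nat.card_eq_fintype_card, Fintype.card_bool]⟩
    have h' := congrArg Subtype.val h
    cases b <;> cases b' <;> simp only [cond_false, cond_true] at h' ⊢
    · exact absurd h'.symm (invol_ne_one (ht R))
    · exact absurd h' (invol_ne_one (ht R))
  have hsumT : ∀ f : T → ℂ, ∑ s, f s = f tT + f 1 := fun f => by
    rw [← Fintype.sum_bijective _ hbij (fun b => f (cond b tT 1)) f fun _ => rfl, Fintype.sum_bool]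
    rfl
  have hsg : (sg tT : ℂ) = -1 := lam_t R
  have hn := nn_spec R χ κ
  set N := ∑ x : Ocore t, (χ : G → ℂ) x * conj ((κ : Ocore t → ℂ) x)
  set E := ∑ x : Ocore t, (χ : G → ℂ) (t * x) * conj ((κ : Ocore t → ℂ) x)
  have hO := card_ne_zero' (G := Ocore t)
  have hcard : (Nat.card (Ocore t × T) : ℂ) = (Nat.card (Ocore t) : ℂ) * 2 := by
    rw [Nat.card_prod, Nat.card_zpowers, ht R]
    push_cast
    rfl
  have hxt : ∀ x : Ocore t, (χ : G → ℂ) ((x : G) * t) = (χ : G → ℂ) (t * x) := fun x => by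
    rw [show (x : G) * t = t * x from hcomm x tT]
  have e1 : N + E = (Nat.card (Ocore t) : ℂ) * 2 * p := by
    rw [← hp, classInner, hcard, ← mul_assoc, mul_inv_cancel₀ (mul_ne_zero hO two_ne_zero), one_mul,
      Fintype.sum_prod_type, ← Finset.sum_add_distrib]
    refine Finset.sum_congr rfl fun x _ => ?_
    rw [hsumT]
    simp only [φ, κ₁, tT, MonoidHom.mk'_apply, OneMemClass.coe_one, mul_one, hxt]
    rw [add_comm]
    rfl
  have e2 : N - E = (Nat.card (Ocore t) : ℂ) * 2 * q := by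
    rw [← hq, classInner, hcard, ← mul_assoc, mul_inv_cancel₀ (mul_ne_zero hO two_ne_zero), one_mul,
      Fintype.sum_prod_type, ← Finset.sum_sub_distrib]
    refine Finset.sum_congr rfl fun x _ => ?_
    rw [hsumT, hκ₂, hκ₂]
    simp only [MonoidHom.comp_apply, MonoidHom.coe_snd, hsg, map_one, Units.val_one, one_mul, map_mul, map_neg]
    simp only [φ, κ₁, tT, MonoidHom.mk'_apply, OneMemClass.coe_one, mul_one, hxt]
    show _ = _ * (-1 * conj ((κ : Ocore t → ℂ) x)) + _ * conj ((κ : Ocore t → ℂ) x)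
    ring
  rw [classInner, inv_mul_eq_iff_eq_mul₀ hO] at hn
  refine ⟨(p : ℤ) - q, ?_, ?_⟩
  · rw [classInner, inv_mul_eq_iff_eq_mul₀ hO]
    push_cast
    linear_combination (1 / 2 : ℂ) * e1 - (1 / 2 : ℂ) * e2
  · have h : nn R χ κ = p + q := by
      have : ((nn R χ κ : ℕ) : ℂ) = ((p + q : ℕ) : ℂ) := by
        apply mul_left_cancel₀ hO
        rw [← hn]
        push_cast
        linear_combination (1 / 2 : ℂ) * e1 + (1 / 2 : ℂ) * e2
      exact_mod_cast this
    rw [h, Nat.odd_iff, Int.odd_iff]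
    omega

/-- the multiplicity of `κ` in `x ↦ χ (t x)` -/
noncomputable def ee (χ : IrrCharacter G) (κ : IrrCharacter (Ocore t)) : ℤ := (exists_ee R χ κ).choose

theorem ee_spec (χ : IrrCharacter G) (κ : IrrCharacter (Ocore t)) :
    classInner (fun x : Ocore t => (χ : G → ℂ) (t * x)) (κ : Ocore t → ℂ) = (ee R χ κ : ℂ) :=
  (exists_ee R χ κ).choose_spec.1

theorem ee_parity (χ : IrrCharacter G) (κ : IrrCharacter (Ocore t)) : Odd (nn R χ κ) ↔ Odd (ee R χ κ) :=
  (exists_ee R χ κ).choose_spec.2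

theorem nn_conj (χ : IrrCharacter G) {g : G} (hg : Commute g t) {κ κ' : IrrCharacter (Ocore t)}
    (h : ∀ o, (κ' : Ocore t → ℂ) o = (κ : Ocore t → ℂ) (conjO R hg o)) :
    nn R χ κ' = nn R χ κ ∧ ee R χ κ' = ee R χ κ := by
  have key : ∀ f : Ocore t → ℂ, (∀ o, f (conjO R hg o) = f o) →
      classInner f (κ' : Ocore t → ℂ) = classInner f (κ : Ocore t → ℂ) := fun f hf => by
    simp only [classInner]
    congr 1
    refine Fintype.sum_bijective _ (conjO_bijective R hg) _ _ fun o => ?_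
    rw [hf, h]
  constructor
  · have h1 := key (fun x => (χ : G → ℂ) x) fun o => by rw [conjO_val, isClassFunction_irr χ]
    rw [nn_spec, nn_spec] at h1
    exact_mod_cast h1
  · have h1 := key (fun x => (χ : G → ℂ) (t * x)) fun o => by
      rw [conjO_val, show t * (g * o * g⁻¹) = g * (t * o) * g⁻¹ by
        rw [← mul_assoc, ← mul_assoc, ← hg.eq]; group, isClassFunction_irr χ]
    rw [ee_spec, ee_spec] at h1
    exact_mod_cast h1

theorem nn_sigma (χ : IrrCharacter G) (a : IrrCharacter (Ksub t v w)) :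
    nn R χ (kap R 2 a) = nn R χ (kap R 1 a) ∧ ee R χ (kap R 2 a) = ee R χ (kap R 1 a) :=
  nn_conj R χ (sigma_comm_t R) fun o => kap_sigma R 1 a o

theorem nn_aW (χ : IrrCharacter G) (i : ℕ) (a : IrrCharacter (Ksub t v w)) :
    nn R χ (kap R i (aW R a)) = nn R χ (kap R i a) ∧ ee R χ (kap R i (aW R a)) = ee R χ (kap R i a) :=
  nn_conj R χ R.v_comm fun o => kap_v R i a o

theorem char_expand_o [Fintype (IrrCharacter (Ksub t v w))] (χ : IrrCharacter G) (x : Ocore t) :
    (χ : G → ℂ) x = ∑ i : Fin 3, ∑ a, (nn R χ (kap R i a) : ℂ) * (kap R i a : Ocore t → ℂ) x := by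
  haveI := Fintype.ofFinite (IrrCharacter (Ocore t))
  have h := congrFun (classFun_expand (isClassFunction_of_isCharacter
    (isCharacter_comp (isCharacter_irr χ) (Ocore t).subtype))) x
  simp only [Finset.sum_apply, Pi.smul_apply, smul_eq_mul] at h
  rw [sum_irrO R] at h
  refine h.trans (Finset.sum_congr rfl fun i _ => Finset.sum_congr rfl fun a _ => ?_)
  rw [← nn_spec]
  rfl

theorem char_expand_to [Fintype (IrrCharacter (Ksub t v w))] (χ : IrrCharacter G) (x : Ocore t) :
    (χ : G → ℂ) (t * x) = ∑ i : Fin 3, ∑ a, (ee R χ (kap R i a) : ℂ) * (kap R i a : Ocore t → ℂ) x := by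
  haveI := Fintype.ofFinite (IrrCharacter (Ocore t))
  have hf : IsClassFunction (Ocore t) fun x : Ocore t => (χ : G → ℂ) (t * x) := fun x y => by
    show (χ : G → ℂ) (t * ((y * x * y⁻¹ : Ocore t) : G)) = (χ : G → ℂ) (t * x)
    rw [show t * ((y * x * y⁻¹ : Ocore t) : G) = (y : G) * (t * x) * (y : G)⁻¹ by
      have hc : t * (y : G) = y * t := (mem_centralizer_singleton_iff.1 (ocore_le t y.2)).symm
      push_cast
      calc t * ((y : G) * x * (y : G)⁻¹) = t * y * x * (y : G)⁻¹ := by group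
        _ = y * t * x * (y : G)⁻¹ := by rw [hc]
        _ = _ := by group, isClassFunction_irr χ]
  have h := congrFun (classFun_expand hf) x
  simp only [Finset.sum_apply, Pi.smul_apply, smul_eq_mul] at h
  rw [sum_irrO R] at h
  refine h.trans (Finset.sum_congr rfl fun i _ => Finset.sum_congr rfl fun a _ => ?_)
  rw [ee_spec]

variable [Fintype (Rsub t (v * w))]

theorem rsub_bijective :
    Function.Bijective fun p : Ocore t × Fin 4 => oincl R p.1 * sigH R ^ (p.2 : ℕ) := by
  constructor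
  · rintro ⟨o, l⟩ ⟨o', l'⟩ h
    obtain ⟨i, x, hx, ho⟩ := exists_ofk R o.2
    obtain ⟨i', x', hx', ho'⟩ := exists_ofk R o'.2
    rw [pow_zero, mul_one] at ho ho'
    have h' : (o : G) * (v * w) ^ (l : ℕ) = (o' : G) * (v * w) ^ (l' : ℕ) := congrArg Subtype.val h
    have h'' := h'
    rw [ho, ho'] at h''
    obtain ⟨-, -, h3⟩ := h_unique R hx hx' h''
    obtain rfl : l = l' := Fin.ext (by omega)
    obtain rfl : o = o' := Subtype.ext (mul_right_cancel h')
    rfl
  · intro y
    obtain ⟨i, x, hx, l, h⟩ := h_exists R y.2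
    refine ⟨(⟨z ^ i * x, mul_mem (pow_mem (z_ocore R) i) hx.1⟩, ⟨l % 4, Nat.mod_lt _ (by norm_num)⟩),
      Subtype.ext ?_⟩
    show z ^ i * x * (v * w) ^ (l % 4) = (y : G)
    rw [h, ← sigma_order R, pow_mod_orderOf]

/-- the multiplicities of the twists of `a` -/
theorem nn_zero (χ : IrrCharacter G) (a : IrrCharacter (Ksub t v w)) :
    (nn R χ (kap R 0 a) : ℤ) = (rot R).mult χ ((rot R).tw (inflH R a) 0) + (rot R).mult χ ((rot R).tw (inflH R a) 1) +
      (rot R).mult χ ((rot R).tw (inflH R a) 2) + (rot R).mult χ ((rot R).tw (inflH R a) 3) ∧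
    ee R χ (kap R 0 a) = (rot R).mult χ ((rot R).tw (inflH R a) 0) - (rot R).mult χ ((rot R).tw (inflH R a) 1) +
      (rot R).mult χ ((rot R).tw (inflH R a) 2) - (rot R).mult χ ((rot R).tw (inflH R a) 3) := by
  set S : Fin 4 → ℂ := fun l =>
    ∑ o : Ocore t, (χ : G → ℂ) ((o : G) * (v * w) ^ (l : ℕ)) * conj ((a : Ksub t v w → ℂ) (piO R o))
  have hm : ∀ i : ℕ, (Nat.card (Ocore t) : ℂ) * 4 * ((rot R).mult χ ((rot R).tw (inflH R a) i) : ℂ) =
      ∑ l : Fin 4, conj ((Complex.I ^ (l : ℕ)) ^ i) * S l := fun i => by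
    rw [← Rot.mult_spec, classInner, show (Nat.card (Rsub t (v * w)) : ℂ) = (Nat.card (Ocore t) : ℂ) * 4 by
      rw [card_rsub R]; push_cast; ring, ← mul_assoc,
      mul_inv_cancel₀ (mul_ne_zero card_ne_zero' (by norm_num)), one_mul,
      ← Fintype.sum_bijective _ (rsub_bijective R) _ _ fun _ => rfl, Fintype.sum_prod_type_right]
    refine Finset.sum_congr rfl fun l _ => ?_
    rw [Finset.mul_sum]
    refine Finset.sum_congr rfl fun o _ => ?_
    rw [Rot.tw_apply, map_mul (lam R), lam_oincl, one_mul, map_pow, Units.val_pow_eq_pow_val, lam_sigH,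
      inflH_apply, map_mul (piH R), map_pow, piH_sigH, one_pow, mul_one, map_mul,
      show piH R (oincl R o) = piO R o from rfl,
      show ((oincl R o * sigH R ^ (l : ℕ) : Rsub t (v * w)) : G) = (o : G) * (v * w) ^ (l : ℕ) from rfl]
    ring
  have hI := Complex.I_sq
  have h0 := hm 0
  have h1 := hm 1
  have h2 := hm 2
  have h3 := hm 3
  simp only [Fin.sum_univ_four, Fin.val_zero, Fin.val_one, Fin.val_two, show ((3 : Fin 4) : ℕ) = 3 from rfl,
    map_pow, Complex.conj_I, map_one, map_neg, pow_zero, pow_one, one_pow, one_mul] at h0 h1 h2 h3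
  have hO := card_ne_zero' (G := Ocore t)
  have hn : (Nat.card (Ocore t) : ℂ) * (nn R χ (kap R 0 a) : ℂ) = S 0 := by
    rw [← nn_spec, classInner, ← mul_assoc, mul_inv_cancel₀ hO, one_mul]
    refine Finset.sum_congr rfl fun o _ => ?_
    rw [kap_apply, pow_zero, one_mul, Fin.val_zero, pow_zero, mul_one]
  have he : (Nat.card (Ocore t) : ℂ) * (ee R χ (kap R 0 a) : ℂ) = S 2 := by
    rw [← ee_spec, classInner, ← mul_assoc, mul_inv_cancel₀ hO, one_mul]
    refine Finset.sum_congr rfl fun o _ => ?_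
    rw [kap_apply, pow_zero, one_mul, Fin.val_two, sigma_sq R,
      show t * (o : G) = o * t from (mem_centralizer_singleton_iff.1 (ocore_le t o.2)).symm]
  set m := fun i => ((rot R).mult χ ((rot R).tw (inflH R a) i) : ℂ)
  constructor
  · have : (nn R χ (kap R 0 a) : ℂ) = m 0 + m 1 + m 2 + m 3 := by
      apply mul_left_cancel₀ (mul_ne_zero hO (by norm_num : (4 : ℂ) ≠ 0))
      linear_combination (4 : ℂ) * hn - h0 - h1 - h2 - h3 +
        (-(S 1 * (1 - Complex.I) + S 2 * (1 + Complex.I ^ 4) +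
          S 3 * (1 - Complex.I ^ 3) * (1 - Complex.I ^ 2 + Complex.I ^ 4))) * hI
    simp only [m] at this
    exact_mod_cast this
  · have : (ee R χ (kap R 0 a) : ℂ) = m 0 - m 1 + m 2 - m 3 := by
      apply mul_left_cancel₀ (mul_ne_zero hO (by norm_num : (4 : ℂ) ≠ 0))
      linear_combination (4 : ℂ) * he - h0 + h1 - h2 + h3 +
        (-(S 1 * (1 + Complex.I) + S 2 * (-Complex.I ^ 4 + 2 * Complex.I ^ 2 - 3) +
          S 3 * (1 + Complex.I ^ 3) * (1 - Complex.I ^ 2 + Complex.I ^ 4))) * hI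
    simp only [m] at this
    exact_mod_cast this

/-! ### Column orthogonality -/

variable [Fintype (IrrCharacter G)]

theorem sum_ee_degree (κ : IrrCharacter (Ocore t)) : ∑ χ, (ee R χ κ : ℂ) * (χ : G → ℂ) 1 = 0 := by
  simp only [← ee_spec, classInner, mul_assoc, ← Finset.mul_sum, Finset.sum_mul]
  rw [Finset.sum_comm, Finset.sum_eq_zero, mul_zero]
  intro x _
  have h : ¬ IsConj (t * (x : G)) 1 := fun h => by
    have h1 := isConj_one_left.1 h
    have hx : t = (x : G)⁻¹ := eq_inv_of_mul_eq_one_left h1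
    exact invol_ne_one (ht R) (eq_one_of_two_pow (odd_ocore t) ((congrArg (· ∈ Ocore t) hx).mpr (inv_mem x.2)) (k := 1)
      (by rw [pow_one, sq, t_sq R]))
  have h2 := sum_irr_mul_conj (t * (x : G)) 1
  rw [if_neg h] at h2
  simp only [conj_irr_one] at h2
  calc ∑ χ : IrrCharacter G, (χ : G → ℂ) (t * x) * (conj ((κ : Ocore t → ℂ) x) * (χ : G → ℂ) 1)
      = conj ((κ : Ocore t → ℂ) x) * ∑ χ : IrrCharacter G, (χ : G → ℂ) (t * x) * (χ : G → ℂ) 1 := by
        rw [Finset.mul_sum]; exact Finset.sum_congr rfl fun _ _ => by ring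
    _ = 0 := by rw [h2, mul_zero]

theorem col_sum (α β : Ocore t → ℂ) :
    ∑ χ : IrrCharacter G, (∑ a, α a * (χ : G → ℂ) (t * a)) * conj (∑ b, β b * (χ : G → ℂ) (t * b)) =
      ∑ k : centralizer ({t} : Set G),
        ∑ a, α a * conj (β (conjO R (mem_centralizer_singleton_iff.1 k.2) a)) := by
  have hL : ∑ χ : IrrCharacter G, (∑ a, α a * (χ : G → ℂ) (t * a)) * conj (∑ b, β b * (χ : G → ℂ) (t * b)) =
      ∑ a : Ocore t, ∑ k : G, ∑ b : Ocore t, if k * (t * (a : G)) * k⁻¹ = t * (b : G) then α a * conj (β b) else 0 := by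
    simp only [map_sum, Finset.sum_mul_sum, map_mul]
    rw [Finset.sum_comm]
    refine Finset.sum_congr rfl fun a _ => ?_
    rw [Finset.sum_comm]
    conv_rhs => rw [Finset.sum_comm]
    refine Finset.sum_congr rfl fun b _ => ?_
    rw [← Finset.sum_filter, Finset.sum_const, nsmul_eq_mul, card_transporter, ← sum_irr_mul_conj, Finset.sum_mul]
    exact Finset.sum_congr rfl fun _ _ => by ring
  rw [hL, Finset.sum_comm]
  have hcent : ∀ k : G, k ∉ centralizer ({t} : Set G) →
      ∀ a b : Ocore t, ¬ k * (t * (a : G)) * k⁻¹ = t * (b : G) := by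
    intro k hk a b h
    refine hk (mem_centralizer_singleton_iff.2 ?_)
    have hca : Commute t (a : G) := (mem_centralizer_singleton_iff.1 (ocore_le t a.2) : Commute (a : G) t).symm
    have hcb : Commute t (b : G) := (mem_centralizer_singleton_iff.1 (ocore_le t b.2) : Commute (b : G) t).symm
    obtain ⟨j, hj⟩ := (CaseB.orderOf_odd_of_mem (odd_ocore t) a.2).mul (CaseB.orderOf_odd_of_mem (odd_ocore t) b.2)
    set M := orderOf (a : G) * orderOf (b : G)
    have htM : t ^ M = t := by rw [hj, pow_succ, pow_mul, sq, t_sq R, one_pow, one_mul]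
    have h1 := congrArg (fun y => y ^ M) h
    simp only [conj_pow, hca.mul_pow, hcb.mul_pow, htM] at h1
    rw [show (a : G) ^ M = 1 by rw [pow_mul, pow_orderOf_eq_one, one_pow],
      show (b : G) ^ M = 1 by
        show (b : G) ^ (orderOf (a : G) * orderOf (b : G)) = 1
        rw [pow_mul', pow_orderOf_eq_one, one_pow], mul_one] at h1
    exact mul_inv_eq_iff_eq_mul.1 h1
  rw [← Finset.sum_subset (Finset.subset_univ (Finset.univ.filter fun k => k ∈ centralizer ({t} : Set G)))
    fun k _ hk => Finset.sum_eq_zero fun a _ => Finset.sum_eq_zero fun b _ =>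
      if_neg (hcent k (fun h => hk (Finset.mem_filter.2 ⟨Finset.mem_univ _, h⟩)) a b)]
  rw [Finset.sum_subtype (p := fun k => k ∈ centralizer ({t} : Set G)) _ fun k => by simp]
  refine Finset.sum_congr rfl fun k _ => Finset.sum_congr rfl fun a _ => ?_
  have hk : Commute (k : G) t := mem_centralizer_singleton_iff.1 k.2
  have hconj : (k : G) * (t * (a : G)) * (k : G)⁻¹ = t * (conjO R hk a : G) := by
    rw [conjO_val, ← mul_assoc, hk.eq]; group
  rw [Finset.sum_eq_single (conjO R hk a), if_pos hconj]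
  · intro b _ hb
    exact if_neg fun h => hb (Subtype.ext (mul_left_cancel (hconj.symm.trans h)).symm)
  · exact fun h => absurd (Finset.mem_univ _) h

theorem cent_bijective :
    Function.Bijective fun p : Bool × Rsub t (v * w) =>
      (⟨cond p.1 w 1 * (p.2 : G), mul_mem (by
        cases p.1
        · exact one_mem _
        · exact mem_centralizer_singleton_iff.2 R.w_comm.eq) (rsub_le R p.2.2)⟩ : centralizer ({t} : Set G)) := by
  constructor
  · rintro ⟨b, x⟩ ⟨b', x'⟩ h
    have h' : cond b w 1 * (x : G) = cond b' w 1 * x' := congrArg Subtype.val h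
    cases b <;> cases b' <;> simp only [cond_false, cond_true, one_mul] at h'
    · obtain rfl : x = x' := Subtype.ext h'
      rfl
    · refine absurd ?_ (w_not R)
      have hm := mul_mem x.2 (inv_mem x'.2)
      rwa [h', mul_inv_cancel_right] at hm
    · refine absurd ?_ (w_not R)
      have hm := mul_mem x'.2 (inv_mem x.2)
      rwa [← h', mul_inv_cancel_right] at hm
    · obtain rfl : x = x' := Subtype.ext (mul_left_cancel h')
      rfl
  · intro g
    rcases cover R g.2 with hg | hg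
    · exact ⟨(false, ⟨g, hg⟩), Subtype.ext (one_mul _)⟩
    · exact ⟨(true, ⟨w * g, hg⟩), Subtype.ext (by
        show w * (w * (g : G)) = g
        rw [← mul_assoc, w_sq R, one_mul])⟩

/-- the norm of `ee` at `κ(1, a)` -/
theorem sum_ee_sq (a : IrrCharacter (Ksub t v w)) :
    ∑ χ, ee R χ (kap R 1 a) ^ 2 = if aW R a = a then 4 else 2 := by
  set κ := kap R 1 a
  have hO := card_ne_zero' (G := Ocore t)
  have hexp : ∀ χ : IrrCharacter G, ((ee R χ κ : ℤ) : ℂ) * (Nat.card (Ocore t) : ℂ) =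
      ∑ x, conj ((κ : Ocore t → ℂ) x) * (χ : G → ℂ) (t * x) := fun χ => by
    rw [← ee_spec, classInner, mul_comm, ← mul_assoc, mul_inv_cancel₀ hO, one_mul]
    exact Finset.sum_congr rfl fun x _ => mul_comm _ _
  have hsq : (Nat.card (Ocore t) : ℂ) ^ 2 * ((∑ χ, ee R χ κ ^ 2 : ℤ) : ℂ) =
      ∑ k : centralizer ({t} : Set G), ∑ x, conj ((κ : Ocore t → ℂ) x) *
        (κ : Ocore t → ℂ) (conjO R (mem_centralizer_singleton_iff.1 k.2) x) := by
    have h1 := col_sum R (fun x => conj ((κ : Ocore t → ℂ) x)) fun x => conj ((κ : Ocore t → ℂ) x)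
    simp only [← hexp, Complex.conj_conj, map_mul, map_intCast, map_natCast] at h1
    rw [← h1, Int.cast_sum, Finset.mul_sum]
    refine Finset.sum_congr rfl fun χ _ => ?_
    push_cast
    ring
  have hin : ∀ κ' : IrrCharacter (Ocore t), ∑ x, conj ((κ : Ocore t → ℂ) x) * (κ' : Ocore t → ℂ) x =
      if κ' = κ then (Nat.card (Ocore t) : ℂ) else 0 := fun κ' => by
    have h := classInner_irr κ' κ
    rw [classInner, inv_mul_eq_iff_eq_mul₀ hO] at h
    rw [Finset.sum_congr rfl fun x _ => mul_comm _ _, h]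
    split_ifs <;> simp
  have hterm : ∀ (b : Bool) (o : Ocore t) (l : Fin 4) (x : Ocore t) (hk : Commute (cond b w 1 * ((o : G) *
      (v * w) ^ (l : ℕ))) t), (κ : Ocore t → ℂ) (conjO R hk x) =
      (kap R ((if Even (l : ℕ) then 1 else 2) * cond b 2 1) (cond b (aW R a) a) : Ocore t → ℂ) x := by
    intro b o l x hk
    have hs : Commute ((v * w) ^ (l : ℕ)) t := (sigma_comm_t R).pow_left _
    set x₁ := conjO R hs x
    obtain ⟨p1, p2⟩ := parts_sigma_conj R (o := x) (o' := x₁) (l := (l : ℕ)) rfl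
    have hval : conjO R hk x = (if b then conjO R R.w_comm (o * x₁ * o⁻¹) else o * x₁ * o⁻¹) := by
      refine Subtype.ext ?_
      cases b
      · rw [if_neg (by simp), conjO_val, coe_mul, coe_mul, coe_inv, conjO_val, cond_false]; group
      · rw [if_pos rfl, conjO_val, conjO_val, coe_mul, coe_mul, coe_inv, conjO_val, cond_true]; group
    have q2 : (mu R (o * x₁ * o⁻¹) : ℂ) = (mu R x₁ : ℂ) := by
      rw [map_mul, map_mul, map_inv, mul_right_comm, mul_inv_cancel, one_mul]
    have q1 : ∀ a' : IrrCharacter (Ksub t v w),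
        (a' : Ksub t v w → ℂ) (piO R (o * x₁ * o⁻¹)) = (a' : Ksub t v w → ℂ) (piO R x) := fun a' => by
      rw [map_mul, map_mul, map_inv, p1, isClassFunction_irr a']
    rw [hval, kap_apply, kap_apply]
    cases b
    · rw [if_neg (by simp), cond_false, cond_false, q1, q2, p2, mul_one]
      split_ifs <;> simp [pow_one]
    · obtain ⟨r1, r2⟩ := parts_w_conj R (o := o * x₁ * o⁻¹) (o' := conjO R R.w_comm (o * x₁ * o⁻¹)) rfl
      rw [if_pos rfl, cond_true, cond_true, r1, r2, q2, p2, ← aW_apply, q1]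
      split_ifs <;> simp [← pow_mul]
  have hval : ∀ (b : Bool) (l : Fin 4),
      (kap R ((if Even (l : ℕ) then 1 else 2) * cond b 2 1) (cond b (aW R a) a) = κ) ↔
        ((b = false ∧ Even (l : ℕ)) ∨ (b = true ∧ ¬ Even (l : ℕ) ∧ aW R a = a)) := by
    intro b l
    constructor
    · intro h
      obtain ⟨h1, h2⟩ := kap_inj R h
      cases b <;> simp only [cond_false, cond_true] at h1 h2 <;> split_ifs at h1 with he <;>
        first | omega | simp [he, h2]
    · rintro (⟨rfl, he⟩ | ⟨rfl, he, ha⟩)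
      · rw [if_pos he]; rfl
      · rw [if_neg he, cond_true, cond_true, ha]
        exact kap_mod R (by norm_num) a
  have hkey : (Nat.card (Ocore t) : ℂ) ^ 2 * ((∑ χ, ee R χ κ ^ 2 : ℤ) : ℂ) =
      (Nat.card (Ocore t) : ℂ) ^ 2 * ((if aW R a = a then 4 else 2 : ℤ) : ℂ) := by
    rw [hsq, ← Fintype.sum_bijective _ (cent_bijective R) _ _ fun _ => rfl, Fintype.sum_prod_type]
    simp only [← Fintype.sum_bijective _ (rsub_bijective R) _ _ fun _ => rfl, Fintype.sum_prod_type_right]
    have hrow : ∀ (b : Bool) (l : Fin 4) (o : Ocore t) (hk : Commute (cond b w 1 * ((o : G) *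
      (v * w) ^ (l : ℕ))) t), ∑ x, conj ((κ : Ocore t → ℂ) x) * (κ : Ocore t → ℂ) (conjO R hk x) =
        if (b = false ∧ Even (l : ℕ)) ∨ (b = true ∧ ¬ Even (l : ℕ) ∧ aW R a = a) then
          (Nat.card (Ocore t) : ℂ) else 0 := fun b l o hk => by
      simp only [hterm b o l _ hk, hin, hval b l]
    refine (Finset.sum_congr rfl fun b _ => Finset.sum_congr rfl fun l _ => Finset.sum_congr rfl fun o _ =>
      hrow b l o _).trans ?_
    simp only [Finset.sum_const, Finset.card_univ, nsmul_eq_mul, ← Nat.card_eq_fintype_card, Fintype.sum_bool,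
      Fin.sum_univ_four, Fin.val_zero, Fin.val_one, Fin.val_two, show ((3 : Fin 4) : ℕ) = 3 from rfl]
    by_cases ha : aW R a = a <;>
      · simp [ha, Nat.even_iff]
        ring
  exact_mod_cast mul_left_cancel₀ (pow_ne_zero 2 hO) hkey

/-- `ee` at `κ(1, a)` is orthogonal to the differences of twists -/
theorem sum_ee_dm (a b : IrrCharacter (Ksub t v w)) (i j : ℕ) :
    ∑ χ, ee R χ (kap R 1 a) * (rot R).dm χ ((rot R).tw (inflH R b) i) ((rot R).tw (inflH R b) j) = 0 := by
  set f : Rsub t (v * w) → ℂ := fun y =>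
    ((rot R).tw (inflH R b) i : Rsub t (v * w) → ℂ) y - ((rot R).tw (inflH R b) j : Rsub t (v * w) → ℂ) y
  have hf : IsClassFunction (Rsub t (v * w)) f := fun x y => by
    simp only [f, isClassFunction_irr ((rot R).tw (inflH R b) i) x y,
      isClassFunction_irr ((rot R).tw (inflH R b) j) x y]
  have hvan : (rot R).Van f := fun y hy => sub_eq_zero.2 ((rot R).tw_van _ i j y hy)
  have hexp := classFun_expand (isClassFunction_indFun (Rsub t (v * w)) f)
  have hval : ∀ x : Ocore t, indFun (Rsub t (v * w)) f (t * (x : G)) =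
      ((-1 : ℂ) ^ i - (-1) ^ j) * ((b : Ksub t v w → ℂ) (piO R x) + (aW R b : Ksub t v w → ℂ) (piO R x)) := by
    intro x
    set y : Rsub t (v * w) := ⟨t, t_mem_h R⟩ * oincl R x
    have hl : (lam R y : ℂ) = -1 := by rw [map_mul, lam_oincl, mul_one, lam_t]
    have hne : lam R y ≠ 1 := fun h => by
      rw [h, Units.val_one] at hl
      norm_num at hl
    rw [show t * (x : G) = (y : G) from rfl, (rot R).indFun_apply hf hvan hne]
    have h1 : piH R y = piO R x := by rw [map_mul, piH_t, one_mul]; rfl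
    simp only [f, Rot.tw_apply, inflH_apply, Rot.lam_conjT, piH_conjT, h1, hl, Units.val_inv_eq_inv_val, aW_apply]
    norm_num
    ring
  have hne : ∀ b' : IrrCharacter (Ksub t v w),
      ∑ x, conj ((kap R 1 a : Ocore t → ℂ) x) * (b' : Ksub t v w → ℂ) (piO R x) = 0 := fun b' => by
    have h := classInner_irr_ne (χ := kap R 0 b') (ψ := kap R 1 a) fun h => by
      have := (kap_inj R h).1
      omega
    rw [classInner, mul_eq_zero] at h
    rw [← h.resolve_left (inv_ne_zero card_ne_zero')]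
    refine Finset.sum_congr rfl fun x _ => ?_
    rw [kap_apply R 0 b', pow_zero, one_mul, mul_comm]
  have key : ((∑ χ, ee R χ (kap R 1 a) *
      (rot R).dm χ ((rot R).tw (inflH R b) i) ((rot R).tw (inflH R b) j) : ℤ) : ℂ) = 0 := by
    have hd : ∀ χ : IrrCharacter G, classInner (indFun (Rsub t (v * w)) f) (χ : G → ℂ) =
        ((rot R).dm χ ((rot R).tw (inflH R b) i) ((rot R).tw (inflH R b) j) : ℂ) := fun χ => by
      rw [← classInner_conj (φ := (χ : G → ℂ)), (rot R).classInner_ind_irr, map_intCast]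
    have hO : classInner (fun x : Ocore t => indFun (Rsub t (v * w)) f (t * x)) (kap R 1 a : Ocore t → ℂ) = 0 := by
      rw [classInner, Finset.sum_congr rfl fun x _ => by
        rw [hval x, mul_assoc, add_mul, mul_comm ((b : Ksub t v w → ℂ) (piO R x)),
          mul_comm ((aW R b : Ksub t v w → ℂ) (piO R x))], ← Finset.mul_sum, Finset.sum_add_distrib, hne, hne,
        add_zero, mul_zero, mul_zero]
    rw [← hO, hexp]
    simp only [Finset.sum_apply, Pi.smul_apply, smul_eq_mul, hd]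
    rw [show (fun x : Ocore t => ∑ χ : IrrCharacter G,
        ((rot R).dm χ ((rot R).tw (inflH R b) i) ((rot R).tw (inflH R b) j) : ℂ) * (χ : G → ℂ) (t * x)) =
      ∑ χ : IrrCharacter G, ((rot R).dm χ ((rot R).tw (inflH R b) i) ((rot R).tw (inflH R b) j) : ℂ) •
        fun x : Ocore t => (χ : G → ℂ) (t * x) from funext fun x => by simp [Finset.sum_apply],
      classInner_sum_left, Int.cast_sum]
    refine Finset.sum_congr rfl fun χ _ => ?_
    rw [classInner_smul_left, ee_spec, Int.cast_mul, mul_comm]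
  exact_mod_cast key

end CfsgLib.GW.CaseA.Mixed.Kill
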