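import Cfsg.Agent.Lib.GW.CaseA.Inverted.Congr
import Cfsg.Agent.Lib.Block.Defect
import Mathlib.Data.ZMod.Basic

/-!
# Case A, residual configuration: parities of multiplicities

Two constituents `η`, `ξ` of `D` of odd multiplicity in one irreducible character of `G` have the same central
values modulo two on the intersections of the classes of `G` with `D`; testing against an integral function on
`D` constant on these intersections compares their inner products with it modulo two.
-/

set_option autoImplicit false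
set_option linter.unusedSectionVars false
set_option linter.style.haveILetI false

namespace CfsgLib.GW.CaseA.Mixed.Kill

open scoped ComplexConjugate
open Representation Cfsg CfsgLib.Char CfsgLib.GW.CaseA.Inverted

universe u

variable {G : Type u} [Group G] [Fintype G]

open scoped Classical in
/-- the sum of `η` over the intersection of a class of `G` with `D`, against the central character -/
theorem twoDvd_class_sum (P D : Subgroup G) [Fintype D] (hP : IsPGroup 2 P)
    (hPD : ∀ p ∈ P, ∀ x ∈ D, Commute p x)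
    (hfix : ∀ d ∈ D, ∀ k : G, IsConj d k → (∀ p ∈ P, Commute p k) → k ∈ D)
    (χ : IrrCharacter G) (η : IrrCharacter D) {n : ℕ}
    (hn : classInner (fun x : D => (χ : G → ℂ) x) (η : D → ℂ) = (n : ℂ)) (d : D) :
    TwoDvd (((Nat.card D * n : ℕ) : ℂ) * (omega (χ : G → ℂ) (d : G) -
      ∑ k ∈ Finset.univ.filter (fun k : D => IsConj (d : G) (k : G)), (η : D → ℂ) k / (η : D → ℂ) 1)) := by
  set K := Finset.univ.filter (IsConj (d : G)) with hK
  set C := (Finset.univ : Finset D).filter (fun k : D => IsConj (d : G) (k : G)) with hC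
  have hstep : ∀ x : D, TwoDvd (omega (χ : G → ℂ) (d : G) * (χ : G → ℂ) x -
      ∑ k ∈ C, (χ : G → ℂ) ((k : G) * x)) := by
    intro x
    rw [omega_mul_apply]
    have hcomm : ∀ p ∈ P, ∀ k : G, p * k * p⁻¹ * (x : G) = p * (k * x) * p⁻¹ := fun p hp k => by
      have e : p * (x : G) * p⁻¹ = x := by rw [(hPD p hp x x.2).eq, mul_inv_cancel_right]
      nth_rewrite 1 [← e]
      group
    have himg : ∀ k, k ∈ C.image (fun k : D => (k : G)) ↔ k ∈ K ∧ ∀ p ∈ P, p * k * p⁻¹ = k := by
      intro k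
      simp only [hC, hK, Finset.mem_image, Finset.mem_filter, Finset.mem_univ, true_and]
      constructor
      · rintro ⟨j, hj, rfl⟩
        exact ⟨hj, fun p hp => by rw [(hPD p hp j j.2).eq, mul_inv_cancel_right]⟩
      · rintro ⟨hk, hf⟩
        exact ⟨⟨k, hfix d d.2 k hk fun p hp => mul_inv_eq_iff_eq_mul.1 (hf p hp)⟩, hk, rfl⟩
    have h := twoDvd_sum_sub_fixed P hP K (f := fun k => (χ : G → ℂ) (k * x))
      (fun k _ => isCharacter_isIntegral (isCharacter_irr χ) _)
      (fun p _ k hk => by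
        simp only [hK, Finset.mem_filter, Finset.mem_univ, true_and] at hk ⊢
        exact hk.trans (isConj_iff.2 ⟨p, rfl⟩))
      (fun p hp k _ => by
        show (χ : G → ℂ) (p * k * p⁻¹ * x) = _
        rw [hcomm p hp k, isClassFunction_irr χ _ p])
      (C.image fun k : D => (k : G)) himg
    rw [Finset.sum_image fun a _ b _ e => Subtype.ext e] at h
    exact h
  have hsum : TwoDvd (∑ x : D, conj ((η : D → ℂ) x) * (omega (χ : G → ℂ) (d : G) * (χ : G → ℂ) x -
      ∑ k ∈ C, (χ : G → ℂ) ((k : G) * x))) :=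
    TwoDvd.sum _ fun x _ => (hstep x).mul_left (by
      rw [← irr_inv]; exact isCharacter_isIntegral (isCharacter_irr η) _)
  haveI := Fintype.ofFinite (IrrCharacter D)
  have hχD : IsCharacter D (fun x : D => (χ : G → ℂ) x) := isCharacter_comp (isCharacter_irr χ) D.subtype
  have hexp := classFun_expand (isClassFunction_of_isCharacter hχD)
  have e1 : ∑ x : D, conj ((η : D → ℂ) x) * (χ : G → ℂ) x = (Nat.card D : ℂ) * (n : ℂ) := by
    rw [← hn, classInner, ← mul_assoc, mul_inv_cancel₀ (card_ne_zero' (G := D)), one_mul]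
    exact Finset.sum_congr rfl fun x _ => mul_comm _ _
  have e2 : ∀ k : D, ∑ x : D, conj ((η : D → ℂ) x) * (χ : G → ℂ) ((k : G) * x) =
      (n : ℂ) * ((Nat.card D : ℂ) * (η : D → ℂ) k / (η : D → ℂ) 1) := by
    intro k
    have hk : ∀ x : D, (χ : G → ℂ) ((k : G) * x) = ∑ ν : IrrCharacter D,
        classInner (fun x : D => (χ : G → ℂ) x) (ν : D → ℂ) * (ν : D → ℂ) (k * x) := fun x => by
      have := congrFun hexp (k * x)
      simpa [Finset.sum_apply] using this
    simp only [hk, Finset.mul_sum]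
    rw [Finset.sum_comm, Finset.sum_eq_single η]
    · rw [hn]
      have hs := sum_mul_shift_conj η η k
      rw [if_pos rfl] at hs
      rw [← hs, Finset.mul_sum]
      exact Finset.sum_congr rfl fun x _ => by ring
    · intro ν _ hν
      have hs := sum_mul_shift_conj ν η k
      rw [if_neg hν] at hs
      calc ∑ x : D, conj ((η : D → ℂ) x) * (classInner (fun x : D => (χ : G → ℂ) x) (ν : D → ℂ) *
            (ν : D → ℂ) (k * x))
          = classInner (fun x : D => (χ : G → ℂ) x) (ν : D → ℂ) *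
              ∑ x : D, (ν : D → ℂ) (k * x) * conj ((η : D → ℂ) x) := by
            rw [Finset.mul_sum]; exact Finset.sum_congr rfl fun x _ => by ring
        _ = 0 := by rw [hs, mul_zero]
    · exact fun h => absurd (Finset.mem_univ η) h
  have hval : ∑ x : D, conj ((η : D → ℂ) x) * (omega (χ : G → ℂ) (d : G) * (χ : G → ℂ) x -
      ∑ k ∈ C, (χ : G → ℂ) ((k : G) * x)) =
      ((Nat.card D * n : ℕ) : ℂ) * (omega (χ : G → ℂ) (d : G) - ∑ k ∈ C, (η : D → ℂ) k / (η : D → ℂ) 1) := by
    simp only [mul_sub, Finset.sum_sub_distrib, Finset.mul_sum]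
    rw [Finset.sum_comm, Finset.sum_congr rfl fun k _ => e2 k]
    congr 1
    · push_cast
      rw [← e1, Finset.sum_mul]
      exact Finset.sum_congr rfl fun x _ => by ring
    · refine Finset.sum_congr rfl fun k _ => ?_
      push_cast
      ring
  rwa [hval] at hsum

/-- **the parity test** -/
theorem parity_test (P D : Subgroup G) [Fintype D] (hP : IsPGroup 2 P) (hD : Odd (Nat.card D))
    (hPD : ∀ p ∈ P, ∀ x ∈ D, Commute p x)
    (hfix : ∀ d ∈ D, ∀ k : G, IsConj d k → (∀ p ∈ P, Commute p k) → k ∈ D)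
    (χ : IrrCharacter G) (η ξ : IrrCharacter D) {n m : ℕ}
    (hn : classInner (fun x : D => (χ : G → ℂ) x) (η : D → ℂ) = (n : ℂ)) (hno : Odd n)
    (hm : classInner (fun x : D => (χ : G → ℂ) x) (ξ : D → ℂ) = (m : ℂ)) (hmo : Odd m)
    (φ : D → ℂ) (hφi : ∀ x, IsIntegral ℤ (φ x)) (hφ : ∀ x y : D, IsConj (x : G) (y : G) → φ x = φ y)
    {a b : ℕ} (ha : ∑ x : D, φ x * (η : D → ℂ) x = (Nat.card D : ℂ) * a)
    (hb : ∑ x : D, φ x * (ξ : D → ℂ) x = (Nat.card D : ℂ) * b) :
    Even (a * charDegree (ξ : D → ℂ) + b * charDegree (η : D → ℂ)) := by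
  classical
  haveI := Fintype.ofFinite (ConjClasses G)
  set F := fun x : D => φ x * ((η : D → ℂ) x / (η : D → ℂ) 1 - (ξ : D → ℂ) x / (ξ : D → ℂ) 1) with hFdef
  have hF : TwoDvd (((Nat.card D * n * m : ℕ) : ℂ) * ∑ x : D, F x) := by
    rw [← Finset.sum_fiberwise Finset.univ (fun x : D => ConjClasses.mk (x : G)) F, Finset.mul_sum]
    refine TwoDvd.sum _ fun C _ => ?_
    by_cases hC : ∃ d : D, ConjClasses.mk (d : G) = C
    swap
    · rw [Finset.filter_false_of_mem fun x _ hx => hC ⟨x, hx⟩, Finset.sum_empty, mul_zero]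
      exact TwoDvd.zero
    obtain ⟨d, rfl⟩ := hC
    have hset : (Finset.univ.filter fun x : D => ConjClasses.mk (x : G) = ConjClasses.mk (d : G)) =
        Finset.univ.filter fun x : D => IsConj (d : G) (x : G) := Finset.ext fun x => by
      simp only [Finset.mem_filter, Finset.mem_univ, true_and, ConjClasses.mk_eq_mk_iff_isConj]
      exact isConj_comm
    have hval : ∑ x ∈ Finset.univ.filter (fun x : D => IsConj (d : G) (x : G)), F x =
        φ d * (∑ x ∈ Finset.univ.filter (fun x : D => IsConj (d : G) (x : G)), (η : D → ℂ) x / (η : D → ℂ) 1 -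
          ∑ x ∈ Finset.univ.filter (fun x : D => IsConj (d : G) (x : G)), (ξ : D → ℂ) x / (ξ : D → ℂ) 1) := by
      rw [← Finset.sum_sub_distrib, Finset.mul_sum]
      exact Finset.sum_congr rfl fun x hx => by rw [hFdef, hφ d x (Finset.mem_filter.1 hx).2]
    rw [hset, hval]
    have h1 := (twoDvd_class_sum P D hP hPD hfix χ η hn d).mul_left (Inverted.isIntegral_natCast m)
    have h2 := (twoDvd_class_sum P D hP hPD hfix χ ξ hm d).mul_left (Inverted.isIntegral_natCast n)
    have := (h2.sub h1).mul_left (hφi d)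
    convert this using 1
    push_cast
    ring
  rw [← Nat.not_odd_iff_even]
  intro hodd
  set A := charDegree (η : D → ℂ) with hA
  set B := charDegree (ξ : D → ℂ) with hB
  have hA1 : (η : D → ℂ) 1 = (A : ℂ) := by
    obtain ⟨d, -, hd⟩ := isIrrCharacter_degree η.2
    simp [hA, charDegree, hd]
  have hB1 : (ξ : D → ℂ) 1 = (B : ℂ) := by
    obtain ⟨d, -, hd⟩ := isIrrCharacter_degree ξ.2
    simp [hB, charDegree, hd]
  have hA0 : (A : ℂ) ≠ 0 := hA1 ▸ irr_one_ne_zero η
  have hB0 : (B : ℂ) ≠ 0 := hB1 ▸ irr_one_ne_zero ξ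
  have hs : (A : ℂ) * (B : ℂ) * ∑ x : D, F x = (Nat.card D : ℂ) * ((a * B : ℕ) : ℂ) - (Nat.card D : ℂ) * ((b * A : ℕ) : ℂ) := by
    simp only [hFdef, mul_sub, Finset.sum_sub_distrib, mul_div_assoc', ← Finset.sum_div, ha, hb, hA1, hB1]
    push_cast
    field_simp
  have h3 := hF.mul_left ((Inverted.isIntegral_natCast A).mul (Inverted.isIntegral_natCast B))
  have h4 : TwoDvd (((Nat.card D * n * m * Nat.card D * (a * B + b * A) : ℕ)) : ℂ) := by
    have h5 : TwoDvd (2 * (((Nat.card D * n * m * Nat.card D * (b * A) : ℕ)) : ℂ)) :=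
      ⟨_, Inverted.isIntegral_natCast _, rfl⟩
    convert h3.add h5 using 1
    rw [show (A : ℂ) * (B : ℂ) * (((Nat.card D * n * m : ℕ) : ℂ) * ∑ x : D, F x) =
      ((Nat.card D * n * m : ℕ) : ℂ) * ((A : ℂ) * (B : ℂ) * ∑ x : D, F x) by ring, hs]
    push_cast
    ring
  exact not_twoDvd_odd ((((hD.mul hno).mul hmo).mul hD).mul hodd) h4

/-- in a sum invariant under an involution only the fixed terms count modulo two -/
theorem odd_sum_iff_of_involution {ι : Type*} [Fintype ι] [DecidableEq ι] (π : ι → ι) (hπ : ∀ x, π (π x) = x)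
    (f : ι → ℕ) (hf : ∀ x, f (π x) = f x) (s : Finset ι) (hs : ∀ x, π x = x → x ∉ s → Even (f x))
    (hsfix : ∀ x ∈ s, π x = x) : Odd (∑ x, f x) ↔ Odd (∑ x ∈ s, f x) := by
  have key : ((∑ x, f x : ℕ) : ZMod 2) = ((∑ x ∈ s, f x : ℕ) : ZMod 2) := by
    push_cast
    rw [← Finset.sum_sdiff (Finset.subset_univ s)]
    rw [Finset.sum_involution (fun x _ => π x) (fun x _ => by rw [hf]; exact CharTwo.add_self_eq_zero _)
      (fun x hx hne e => hne ((ZMod.natCast_eq_zero_iff_even).2 (hs x e (Finset.mem_sdiff.1 hx).2)))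
      (fun x hx => Finset.mem_sdiff.2 ⟨Finset.mem_univ _, fun h => (Finset.mem_sdiff.1 hx).2 (by
        have := hsfix _ h
        rw [hπ] at this
        rwa [← this] at h)⟩)
      (fun x _ => hπ x), zero_add]
  rw [← ZMod.natCast_eq_one_iff_odd, key, ZMod.natCast_eq_one_iff_odd]

end CfsgLib.GW.CaseA.Mixed.Kill
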