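import Cfsg.Agent.Lib.GW.CaseA.Mixed.Kill.Setup
import Cfsg.Agent.Lib.GW.CaseA.Inverted.RotEngine
import Mathlib.RingTheory.RootsOfUnity.Complex
import Mathlib.Analysis.Complex.IsIntegral

/-!
# Case A, residual configuration: the projections of `C(t)`

`H = O ⟨σ⟩` maps onto `K = Q D` and onto the fourth roots of unity, `O = ⟨z⟩ × K` onto the cube roots of unity,
and `K` onto `D`; elements of `D` fused in `G` are fused in `D`.
-/

set_option autoImplicit false
set_option linter.unusedSectionVars false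
set_option linter.style.haveILetI false

open Subgroup
open scoped Pointwise

namespace CfsgLib.GW.CaseA.Mixed.Kill

open CfsgLib.Block.Dihedral CfsgLib.Invol CfsgLib.GW.CaseA.Inverted

universe u

variable {G : Type u} [Group G] [Finite G]

/-- a primitive cube root of unity -/
noncomputable def om : ℂ := Complex.exp (2 * Real.pi * Complex.I / (3 : ℕ))

theorem om_prim : IsPrimitiveRoot om 3 := Complex.isPrimitiveRoot_exp 3 (by norm_num)

theorem pow_congr {M : Type*} [Monoid M] {ζ : M} {n a b : ℕ} (h : ζ ^ n = 1) (e : a % n = b % n) :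
    ζ ^ a = ζ ^ b := by
  rw [← Nat.mod_add_div a n, ← Nat.mod_add_div b n, pow_add, pow_add, pow_mul, pow_mul, h, one_pow, one_pow, e]

theorem om_pow {a b : ℕ} (e : a % 3 = b % 3) : om ^ a = om ^ b := pow_congr om_prim.pow_eq_one e

theorem I_pow {a b : ℕ} (e : a % 4 = b % 4) : Complex.I ^ a = Complex.I ^ b := pow_congr Complex.I_pow_four e

theorem orderOf_I : orderOf Complex.I = 4 := by
  haveI : Fact (Nat.Prime 2) := ⟨Nat.prime_two⟩
  refine orderOf_eq_prime_pow (p := 2) (n := 1) ?_ ?_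
  · rw [pow_one, Complex.I_sq]
    norm_num
  · exact Complex.I_pow_four

variable {t v w z c e : G} (R : Residual t v w z c e)
include R

omit R in
theorem ocore_le_h : Ocore t ≤ Rsub t (v * w) := le_sup_left

theorem z_mem_h : z ∈ Rsub t (v * w) := ocore_le_h (z_ocore R)

theorem t_mem_h : t ∈ Rsub t (v * w) := sigma_sq R ▸ pow_mem sigma_mem 2

theorem d_mem_k {d : G} (hd : d ∈ Dsub t w) : d ∈ Ksub t v w := by
  simpa using k_of_fd R (one_mem (Qsub t)) hd

theorem q_mem_k {f : G} (hf : f ∈ Qsub t) : f ∈ Ksub t v w := by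
  simpa using k_of_fd R hf (one_mem (Dsub t w))

/-- product in `H` -/
theorem h_mul {i i' l l' : ℕ} {x x' : G} (hx : x ∈ Ksub t v w) (hx' : x' ∈ Ksub t v w) :
    ∃ j : ℕ, z ^ i * x * (v * w) ^ l * (z ^ i' * x' * (v * w) ^ l') = z ^ j * (x * x') * (v * w) ^ (l + l') ∧
      (l = 0 → j = i + i') := by
  refine ⟨i + if Even l then i' else 2 * i', ?_, fun h0 => by subst h0; simp⟩
  have hz : (v * w) ^ l * z ^ i' * ((v * w) ^ l)⁻¹ = z ^ (if Even l then i' else 2 * i') := by
    rw [← conj_pow, sigma_pow_z R]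
    split_ifs
    · rfl
    · rw [inv_pow, z_pow_inv R]
  calc z ^ i * x * (v * w) ^ l * (z ^ i' * x' * (v * w) ^ l')
      = z ^ i * (x * ((v * w) ^ l * z ^ i' * ((v * w) ^ l)⁻¹)) * ((v * w) ^ l * x') * (v * w) ^ l' := by group
    _ = z ^ i * (z ^ (if Even l then i' else 2 * i') * x) * (x' * (v * w) ^ l) * (v * w) ^ l' := by
      rw [hz, ((z_central R hx.1).pow_right _).eq, ((k_sigma R hx').pow_left l).eq]
    _ = _ := by rw [pow_add, pow_add]; simp only [mul_assoc]

/-- the part of a rotation in `K` -/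
noncomputable def kpart (y : Rsub t (v * w)) : G := (h_exists R y.2).choose_spec.choose

/-- the exponent of `σ` in a rotation -/
noncomputable def lpart (y : Rsub t (v * w)) : ℕ := (h_exists R y.2).choose_spec.choose_spec.2.choose

/-- the exponent of `z` in a rotation -/
noncomputable def ipart (y : Rsub t (v * w)) : ℕ := (h_exists R y.2).choose

theorem kpart_mem (y : Rsub t (v * w)) : kpart R y ∈ Ksub t v w := (h_exists R y.2).choose_spec.choose_spec.1

theorem parts_spec (y : Rsub t (v * w)) :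
    (y : G) = z ^ ipart R y * kpart R y * (v * w) ^ lpart R y :=
  (h_exists R y.2).choose_spec.choose_spec.2.choose_spec

theorem parts_eq {y : Rsub t (v * w)} {i l : ℕ} {x : G} (hx : x ∈ Ksub t v w)
    (e' : (y : G) = z ^ i * x * (v * w) ^ l) :
    ipart R y % 3 = i % 3 ∧ kpart R y = x ∧ lpart R y % 4 = l % 4 :=
  h_unique R (kpart_mem R y) hx ((parts_spec R y).symm.trans e')

/-- the projection of `H` to `K` -/
noncomputable def piH : Rsub t (v * w) →* Ksub t v w :=
  MonoidHom.mk' (fun y => ⟨kpart R y, kpart_mem R y⟩) fun y y' => Subtype.ext (by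
    obtain ⟨j, hj, -⟩ := h_mul R (i := ipart R y) (i' := ipart R y') (l := lpart R y) (l' := lpart R y')
      (kpart_mem R y) (kpart_mem R y')
    exact (parts_eq R (y := y * y') (mul_mem (kpart_mem R y) (kpart_mem R y'))
      (by rw [coe_mul, parts_spec R y, parts_spec R y']; exact hj)).2.1)

theorem piH_val {y : Rsub t (v * w)} {i l : ℕ} {x : G} (hx : x ∈ Ksub t v w)
    (e' : (y : G) = z ^ i * x * (v * w) ^ l) : (piH R y : G) = x := (parts_eq R hx e').2.1

/-- the rotation character -/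
noncomputable def lam : Rsub t (v * w) →* ℂˣ :=
  MonoidHom.mk' (fun y => Units.mk0 (Complex.I ^ lpart R y) (pow_ne_zero _ Complex.I_ne_zero)) fun y y' =>
    Units.ext (by
      obtain ⟨j, hj, -⟩ := h_mul R (i := ipart R y) (i' := ipart R y') (l := lpart R y) (l' := lpart R y')
        (kpart_mem R y) (kpart_mem R y')
      show _ = _ * _
      simp only [Units.val_mk0]
      rw [← pow_add]
      exact I_pow (parts_eq R (y := y * y') (mul_mem (kpart_mem R y) (kpart_mem R y'))
        (by rw [coe_mul, parts_spec R y, parts_spec R y']; exact hj)).2.2)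

theorem lam_val {y : Rsub t (v * w)} {i l : ℕ} {x : G} (hx : x ∈ Ksub t v w)
    (e' : (y : G) = z ^ i * x * (v * w) ^ l) : (lam R y : ℂ) = Complex.I ^ l :=
  I_pow (parts_eq R hx e').2.2

theorem exists_ofk {o : G} (ho : o ∈ Ocore t) :
    ∃ i : ℕ, ∃ x ∈ Ksub t v w, o = z ^ i * x * (v * w) ^ 0 := by
  obtain ⟨i, f, hf, d, hd, h⟩ := exists_zfd R ho
  exact ⟨i, f * d, k_of_fd R hf hd, by rw [pow_zero, mul_one]; exact h⟩

/-- `O` among the rotations -/
def oincl : Ocore t →* Rsub t (v * w) := let _ := R; inclusion ocore_le_h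

theorem oincl_val (o : Ocore t) : (oincl R o : G) = o := rfl

/-- the projection of `O` to `K` -/
noncomputable def piO : Ocore t →* Ksub t v w := (piH R).comp (oincl R)

theorem piO_val {o : Ocore t} {i : ℕ} {x : G} (hx : x ∈ Ksub t v w) (e' : (o : G) = z ^ i * x) :
    (piO R o : G) = x :=
  piH_val R (i := i) (l := 0) hx (by rw [pow_zero, mul_one]; exact e')

/-- the character of `⟨z⟩` on `O` -/
noncomputable def mu : Ocore t →* ℂˣ :=
  MonoidHom.mk' (fun o => Units.mk0 (om ^ ipart R (oincl R o)) (pow_ne_zero _ (om_prim.ne_zero (by norm_num))))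
    fun o o' => Units.ext (by
      obtain ⟨i, x, hx, h⟩ := exists_ofk R o.2
      obtain ⟨i', x', hx', h'⟩ := exists_ofk R o'.2
      obtain ⟨j, hj, hj0⟩ := h_mul R (i := i) (i' := i') (l := 0) (l' := 0) hx hx'
      have h1 := (parts_eq R (y := oincl R (o * o')) (mul_mem hx hx')
        (by rw [oincl_val, coe_mul, h, h']; exact hj)).1
      rw [hj0 rfl] at h1
      have h2 := (parts_eq R (y := oincl R o) hx h).1
      have h3 := (parts_eq R (y := oincl R o') hx' h').1
      show _ = _ * _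
      simp only [Units.val_mk0]
      rw [← pow_add]
      exact om_pow (by omega))

theorem mu_val {o : Ocore t} {i : ℕ} {x : G} (hx : x ∈ Ksub t v w) (e' : (o : G) = z ^ i * x) :
    (mu R o : ℂ) = om ^ i :=
  om_pow (parts_eq R (y := oincl R o) (i := i) (l := 0) hx (by rw [pow_zero, mul_one]; exact e')).1

/-- `z` in `O` -/
def zO : Ocore t := ⟨z, z_ocore R⟩

theorem mu_z : (mu R (zO R) : ℂ) = om := by
  rw [mu_val R (o := zO R) (i := 1) (x := 1) (one_mem _) (by rw [pow_one, mul_one]; rfl), pow_one]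

theorem piO_z : piO R (zO R) = 1 :=
  Subtype.ext (piO_val R (o := zO R) (i := 1) (x := 1) (one_mem _) (by rw [pow_one, mul_one]; rfl))

theorem zO_center : zO R ∈ center (Ocore t) :=
  mem_center_iff.2 fun o => Subtype.ext (z_central R o.2).eq

theorem zO_pow : zO R ^ 3 = 1 :=
  Subtype.ext (by rw [coe_pow, coe_one, ← R.z_order]; exact pow_orderOf_eq_one z)

/-- `K` in `O` -/
def kincl : Ksub t v w →* Ocore t := let _ := R; inclusion inf_le_left

theorem kincl_val (x : Ksub t v w) : (kincl R x : G) = x := rfl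

theorem piO_kincl (x : Ksub t v w) : piO R (kincl R x) = x :=
  Subtype.ext (piO_val R (i := 0) x.2 (by rw [pow_zero, one_mul]; rfl))

theorem mu_kincl (x : Ksub t v w) : (mu R (kincl R x) : ℂ) = 1 := by
  rw [mu_val R (o := kincl R x) (i := 0) x.2 (by rw [pow_zero, one_mul]; rfl), pow_zero]

/-- `σ` among the rotations -/
def sigH : Rsub t (v * w) := let _ := R; ⟨v * w, sigma_mem⟩

theorem sigH_val : (sigH R : G) = z ^ 0 * 1 * (v * w) ^ 1 := by rw [pow_zero, one_mul, one_mul, pow_one]; rfl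

theorem piH_sigH : piH R (sigH R) = 1 := Subtype.ext (piH_val R (one_mem _) (sigH_val R))

theorem lam_sigH : (lam R (sigH R) : ℂ) = Complex.I := by rw [lam_val R (one_mem _) (sigH_val R), pow_one]

theorem order_lam_sigH : orderOf (lam R (sigH R)) = 2 * 2 := by
  rw [← orderOf_units, lam_sigH R, orderOf_I]

theorem lam_oincl (o : Ocore t) : lam R (oincl R o) = 1 := by
  obtain ⟨i, x, hx, h⟩ := exists_ofk R o.2
  exact Units.ext (by rw [lam_val R (y := oincl R o) hx h, pow_zero, Units.val_one])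

theorem lam_t : (lam R ⟨t, t_mem_h R⟩ : ℂ) = -1 := by
  rw [lam_val R (y := ⟨t, t_mem_h R⟩) (i := 0) (l := 2) (x := 1) (one_mem _)
    (by rw [pow_zero, one_mul, one_mul]; exact (sigma_sq R).symm), Complex.I_sq]

theorem piH_t : piH R ⟨t, t_mem_h R⟩ = 1 :=
  Subtype.ext (piH_val R (y := ⟨t, t_mem_h R⟩) (i := 0) (l := 2) (x := 1) (one_mem _)
    (by rw [pow_zero, one_mul, one_mul]; exact (sigma_sq R).symm))

theorem rot : Rot t 2 (Rsub t (v * w)) (lam R) w where
  invol := ht R
  pow2 := ⟨1, one_pos, rfl⟩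
  mem := t_mem_h R
  le := rsub_le R
  tau_mem := mem_centralizer_singleton_iff.2 R.w_comm.eq
  tau_sq := w_sq R
  tau_not := w_not R
  tau_norm _ hx := tau_norm R hx
  cover _ hg := cover R hg
  odd_ker := by
    refine (odd_ocore t).of_dvd_nat ?_
    have hle : (lam R).ker ≤ (Ocore t).subgroupOf (Rsub t (v * w)) := fun y hy => by
      have h1 : (lam R y : ℂ) = 1 := by rw [MonoidHom.mem_ker.1 hy, Units.val_one]
      rw [lam_val R (kpart_mem R y) (parts_spec R y), ← orderOf_dvd_iff_pow_eq_one, orderOf_I] at h1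
      obtain ⟨j, hj⟩ := h1
      rw [mem_subgroupOf, parts_spec R y, hj, pow_mul, sigma_four R, one_pow, mul_one]
      exact mul_mem (pow_mem (z_ocore R) _) (kpart_mem R y).1
    exact (card_dvd_of_le hle).trans (dvd_of_eq (Nat.card_congr (subgroupOfEquivOfLe ocore_le_h).toEquiv))
  pow_eq y := Units.ext (by
    rw [Units.val_pow_eq_pow_val, lam_val R (kpart_mem R y) (parts_spec R y), ← pow_mul, mul_comm, pow_mul,
      show (2 * 2 : ℕ) = 4 from rfl, Complex.I_pow_four, one_pow, Units.val_one])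
  inv y := by
    refine eq_inv_of_mul_eq_one_left (Units.ext ?_)
    rw [Units.val_mul, Units.val_one, lam_val R (kpart_mem R y) (parts_spec R y),
      lam_val R (y := ⟨w * (y : G) * w⁻¹, tau_norm R y.2⟩) (k_norm_w R (kpart_mem R y))
        (show w * (y : G) * w⁻¹ = _ by rw [parts_spec R y]; exact conj_w R),
      ← pow_add, show 3 * lpart R y + lpart R y = 4 * lpart R y by ring, pow_mul, Complex.I_pow_four, one_pow]

/-! ### Conjugation -/

/-- conjugation by `w` on `K` -/
def wK : Ksub t v w ≃* Ksub t v w where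
  toFun x := ⟨w * x * w⁻¹, k_norm_w R x.2⟩
  invFun x := ⟨w * x * w⁻¹, k_norm_w R x.2⟩
  left_inv x := Subtype.ext (by
    show w * (w * x * w⁻¹) * w⁻¹ = x
    rw [w_inv R, show w * (w * (x : G) * w) * w = w * w * x * (w * w) by group, w_sq R, one_mul, mul_one])
  right_inv x := Subtype.ext (by
    show w * (w * x * w⁻¹) * w⁻¹ = x
    rw [w_inv R, show w * (w * (x : G) * w) * w = w * w * x * (w * w) by group, w_sq R, one_mul, mul_one])
  map_mul' x y := Subtype.ext (show w * (x * y : G) * w⁻¹ = w * x * w⁻¹ * (w * y * w⁻¹) by group)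

theorem wK_val (x : Ksub t v w) : (wK R x : G) = w * x * w⁻¹ := rfl

theorem wK_wK (x : Ksub t v w) : wK R (wK R x) = x := (wK R).left_inv x

theorem piH_conjT (y : Rsub t (v * w)) : piH R ((rot R).conjT y) = wK R (piH R y) :=
  Subtype.ext (piH_val R (k_norm_w R (kpart_mem R y))
    (show w * (y : G) * w⁻¹ = _ by rw [parts_spec R y]; exact conj_w R))

/-- conjugation by `w` on `O` -/
theorem conj_w_ocore {o : G} (ho : o ∈ Ocore t) {g : G} (hg : Commute g t) : g * o * g⁻¹ ∈ Ocore t :=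
  (mem_normalizer_iff.1 (centralizer_le_normalizer_ocore t (mem_centralizer_singleton_iff.2 hg.eq)) o).1 ho

/-- conjugation of `O` by a power of `σ` -/
theorem parts_sigma_conj {o o' : Ocore t} {l : ℕ} (h : (o' : G) = (v * w) ^ l * o * ((v * w) ^ l)⁻¹) :
    piO R o' = piO R o ∧ (mu R o' : ℂ) = if Even l then (mu R o : ℂ) else (mu R o : ℂ) ^ 2 := by
  obtain ⟨i, x, hx, ho⟩ := exists_ofk R o.2
  rw [pow_zero, mul_one] at ho
  have h1 : (o' : G) = z ^ (if Even l then i else 2 * i) * x := by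
    rw [h, ho]
    calc (v * w) ^ l * (z ^ i * x) * ((v * w) ^ l)⁻¹
        = (v * w) ^ l * z ^ i * ((v * w) ^ l)⁻¹ * ((v * w) ^ l * x * ((v * w) ^ l)⁻¹) := by group
      _ = _ := by
        rw [← conj_pow, sigma_pow_z R, ((k_sigma R hx).pow_left l).eq, mul_inv_cancel_right]
        split_ifs
        · rfl
        · rw [inv_pow, z_pow_inv R]
  refine ⟨Subtype.ext ((piO_val R hx h1).trans (piO_val R hx ho).symm), ?_⟩
  rw [mu_val R hx h1, mu_val R hx ho]
  split_ifs
  · rfl
  · rw [← pow_mul, mul_comm]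

/-- conjugation of `O` by `w` -/
theorem parts_w_conj {o o' : Ocore t} (h : (o' : G) = w * o * w⁻¹) :
    piO R o' = wK R (piO R o) ∧ (mu R o' : ℂ) = (mu R o : ℂ) ^ 2 := by
  obtain ⟨i, x, hx, ho⟩ := exists_ofk R o.2
  have h1 : (o' : G) = z ^ (2 * i) * (w * x * w⁻¹) := by
    rw [h, ho, conj_w R, mul_zero, pow_zero, mul_one]
  rw [pow_zero, mul_one] at ho
  refine ⟨Subtype.ext ((piO_val R (k_norm_w R hx) h1).trans ?_), ?_⟩
  · rw [wK_val, piO_val R hx ho]
  · rw [mu_val R (k_norm_w R hx) h1, mu_val R hx ho, ← pow_mul, mul_comm]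

/-- conjugation of `O` by `v` -/
theorem parts_v_conj {o o' : Ocore t} (h : (o' : G) = v * o * v⁻¹) :
    piO R o' = wK R (piO R o) ∧ (mu R o' : ℂ) = (mu R o : ℂ) := by
  obtain ⟨i, x, hx, ho⟩ := exists_ofk R o.2
  rw [pow_zero, mul_one] at ho
  have h1 : (o' : G) = z ^ i * (w * x * w⁻¹) := by
    have h2 : v * x * v⁻¹ = w * x * w⁻¹ := by
      calc v * x * v⁻¹ = v * w * (w⁻¹ * x * w⁻¹⁻¹) * (v * w)⁻¹ := by group
        _ = v * w * (w * x * w⁻¹) * (v * w)⁻¹ := by rw [w_inv R, w_inv R]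
        _ = w * x * w⁻¹ := by rw [(k_sigma R (k_norm_w R hx)).eq, mul_inv_cancel_right]
    rw [h, ho, show v * (z ^ i * x) * v⁻¹ = v * z ^ i * v⁻¹ * (v * x * v⁻¹) by group, h2,
      (R.zv.pow_left i).symm.eq, mul_inv_cancel_right]
  refine ⟨Subtype.ext ((piO_val R (k_norm_w R hx) h1).trans ?_), ?_⟩
  · rw [wK_val, piO_val R hx ho]
  · rw [mu_val R (k_norm_w R hx) h1, mu_val R hx ho]

/-! ### `D` -/

/-- the part of an element of `K` in `D` -/
noncomputable def dpart (x : Ksub t v w) : G := (k_exists R x.2).choose_spec.2.choose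

theorem dpart_spec (x : Ksub t v w) : ∃ f ∈ Qsub t, dpart R x ∈ Dsub t w ∧ (x : G) = f * dpart R x :=
  ⟨_, (k_exists R x.2).choose_spec.1, (k_exists R x.2).choose_spec.2.choose_spec.1,
    (k_exists R x.2).choose_spec.2.choose_spec.2⟩

theorem dpart_eq {x : Ksub t v w} {f d : G} (hf : f ∈ Qsub t) (hd : d ∈ Dsub t w) (e' : (x : G) = f * d) :
    dpart R x = d := by
  obtain ⟨f', hf', hd', h'⟩ := dpart_spec R x
  exact (k_unique R hf' hf hd' hd (h'.symm.trans e')).2

/-- the projection of `K` to `D` -/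
noncomputable def piD : Ksub t v w →* Dsub t w :=
  MonoidHom.mk' (fun x => ⟨dpart R x, (dpart_spec R x).choose_spec.2.1⟩) fun x y => Subtype.ext (by
    obtain ⟨f, hf, hd, hx⟩ := dpart_spec R x
    obtain ⟨g, hg, hd', hy⟩ := dpart_spec R y
    refine dpart_eq R (mul_mem hf (q_normal (d_t hd) hg)) (mul_mem hd hd') ?_
    show (x : G) * (y : G) = f * (dpart R x * g * (dpart R x)⁻¹) * (dpart R x * dpart R y)
    calc (x : G) * y = f * dpart R x * (g * dpart R y) := congrArg₂ (· * ·) hx hy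
      _ = _ := by group)

theorem piD_val {x : Ksub t v w} {f d : G} (hf : f ∈ Qsub t) (hd : d ∈ Dsub t w) (e' : (x : G) = f * d) :
    (piD R x : G) = d := dpart_eq R hf hd e'

/-- `D` in `K` -/
def dincl : Dsub t w →* Ksub t v w where
  toFun d := ⟨d, d_mem_k R d.2⟩
  map_one' := rfl
  map_mul' _ _ := rfl

theorem dincl_val (d : Dsub t w) : (dincl R d : G) = d := rfl

theorem piD_dincl (d : Dsub t w) : piD R (dincl R d) = d :=
  Subtype.ext (piD_val R (one_mem _) d.2 (by rw [one_mul, dincl_val]))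

theorem piD_wK (x : Ksub t v w) : piD R (wK R x) = piD R x := by
  obtain ⟨f, hf, d, hd, h⟩ := k_exists R x.2
  refine Subtype.ext ((piD_val R (inv_mem hf) hd ?_).trans (piD_val R hf hd h).symm)
  rw [wK_val, h, show w * (f * d) * w⁻¹ = w * f * w⁻¹ * (w * d * w⁻¹) by group,
    q_inv R R.w_invol R.w_ne R.w_comm hf, (d_w hd).symm.eq, mul_inv_cancel_right]

theorem mem_range_dincl {x : Ksub t v w} (h : Commute (x : G) w) : ∃ d, dincl R d = x :=
  ⟨⟨x, x.2.1, mem_centralizer_singleton_iff.2 h.eq⟩, rfl⟩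

theorem wK_dincl (d : Dsub t w) : wK R (dincl R d) = dincl R d :=
  Subtype.ext (by rw [wK_val, dincl_val, (d_w d.2).symm.eq, mul_inv_cancel_right])

open Cfsg CfsgLib.Char in
/-- inflation from `K` to `H` -/
noncomputable def inflH (a : IrrCharacter (Ksub t v w)) : IrrCharacter (Rsub t (v * w)) :=
  ⟨_, isIrrCharacter_comp_surjective a.2 (piH R) fun x => ⟨oincl R (kincl R x), piO_kincl R x⟩⟩

open Cfsg CfsgLib.Char in
/-- inflation from `D` to `K` -/
noncomputable def inflK (η : IrrCharacter (Dsub t w)) : IrrCharacter (Ksub t v w) :=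
  ⟨_, isIrrCharacter_comp_surjective η.2 (piD R) fun d => ⟨dincl R d, piD_dincl R d⟩⟩

open Cfsg in
theorem inflH_apply (a : IrrCharacter (Ksub t v w)) (y : Rsub t (v * w)) :
    (inflH R a : Rsub t (v * w) → ℂ) y = (a : Ksub t v w → ℂ) (piH R y) := rfl

open Cfsg in
theorem inflK_apply (η : IrrCharacter (Dsub t w)) (x : Ksub t v w) :
    (inflK R η : Ksub t v w → ℂ) x = (η : Dsub t w → ℂ) (piD R x) := rfl

/-- a commutator of `Q` and a given nontrivial element of `D` -/
theorem exists_noncomm {d : G} (hd : d ∈ Dsub t w) (hd1 : d ≠ 1) : ∃ f ∈ Qsub t, ¬ Commute f d := by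
  by_contra! hall
  set A := zpowers z ⊔ Qsub t
  have hle : CfsgLib.Coprime.BenderUniqueness.fit (Ocore t) ≤ A := fit_ocore_le fun q hq hq2 y hy => by
    by_cases hq3 : q = 3
    · subst hq3
      rw [R.core] at hy
      exact mem_sup_left hy
    · exact mem_sup_right (subset_closure ⟨q, hq, hq2, hq3, hy⟩)
  have hcA : A ≤ centralizer ({d} : Set G) := sup_le
    (zpowers_le.2 (mem_centralizer_singleton_iff.2 (z_central R (d_le hd)).symm.eq))
    fun f hf => mem_centralizer_singleton_iff.2 (hall f hf).eq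
  have hdA : d ∈ A := hle (CaseB.mem_fit_ocN (M := centralizer ({t} : Set G)) (d_le hd)
    fun y hy => mem_centralizer_singleton_iff.1 (hcA (hle hy)))
  have hinv : w * d * w⁻¹ = d⁻¹ := by
    have hn : Qsub t ≤ normalizer (zpowers z : Set G) := fun f hf =>
      centralizer_le_normalizer _ (mem_centralizer_iff.2 fun y hy => by
        obtain ⟨n, rfl⟩ := mem_zpowers_iff.1 hy
        exact (((z_central R (q_le R hf)).zpow_right n).symm).eq)
    have hd' : d ∈ ((zpowers z : Set G) * (Qsub t : Set G)) := by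
      rw [← coe_mul_of_right_le_normalizer_left _ _ hn]
      exact hdA
    obtain ⟨y, hy, f, hf, rfl⟩ := Set.mem_mul.1 hd'
    obtain ⟨i, rfl⟩ := (isOfFinOrder_of_finite z).mem_powers_iff_mem_zpowers.2 hy
    simp only
    rw [show w * (z ^ i * f) * w⁻¹ = w * z ^ i * w⁻¹ * (w * f * w⁻¹) by group, ← conj_pow, R.zw,
      q_inv R R.w_invol R.w_ne R.w_comm hf, inv_pow, mul_inv_rev]
    exact (((z_central R (q_le R hf)).pow_right i).inv_left.inv_right).symm.eq
  rw [(d_w hd).symm.eq, mul_inv_cancel_right] at hinv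
  exact hd1 (eq_one_of_two_pow (odd_ocore t) (d_le hd) (k := 1) (by
    rw [pow_one, sq]; nth_rewrite 1 [hinv]; exact inv_mul_cancel d))

/-- fusion in `D` -/
theorem dsub_fusion {d k : G} (hd : d ∈ Dsub t w) (hkD : k ∈ Dsub t w) (hk : IsConj d k) :
    ∃ e' ∈ Dsub t w, e' * d * e'⁻¹ = k := by
  haveI : Fact (Nat.Prime 2) := ⟨Nat.prime_two⟩
  obtain ⟨P, hF, -⟩ := exists_frame R
  obtain ⟨g, hg⟩ := isConj_iff.1 hk
  have hcomm : ∀ x ∈ Dsub t w, ∀ p ∈ (P : Subgroup G), Commute p x := fun x hx p hp => by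
    obtain ⟨l, e' | e'⟩ := hF.cases p hp
    · exact e' ▸ (d_sigma R hx).pow_left l
    · exact e' ▸ (d_w hx).symm.mul_left ((d_sigma R hx).pow_left l)
  have hPt : ∀ p ∈ (P : Subgroup G), Commute p t := fun p hp => sigma_sq R ▸ hF.J_comm hp
  set C := centralizer ({k} : Set G)
  have hP1 : (P : Subgroup G) ≤ C := fun p hp => mem_centralizer_singleton_iff.2 (hcomm k hkD p hp).eq
  have hP2 : ((g • P : Sylow 2 G) : Subgroup G) ≤ C := by
    rw [Sylow.coe_subgroup_smul]
    rintro _ ⟨p, hp, rfl⟩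
    refine mem_centralizer_singleton_iff.2 ?_
    show g * p * g⁻¹ * k = k * (g * p * g⁻¹)
    rw [← hg]
    calc g * p * g⁻¹ * (g * d * g⁻¹) = g * (p * d) * g⁻¹ := by group
      _ = g * (d * p) * g⁻¹ := by rw [(hcomm d hd p hp).eq]
      _ = g * d * g⁻¹ * (g * p * g⁻¹) := by group
  obtain ⟨a, ha⟩ := MulAction.exists_smul_eq C ((g • P).subtype hP2) (P.subtype hP1)
  have hn : ((a : G) * g) • P = P := by
    rw [mul_smul]
    exact Sylow.subtype_injective (hP := by
      rintro _ ⟨q, hq, rfl⟩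
      exact mul_mem (mul_mem a.2 (hP2 hq)) (inv_mem a.2)) (hQ := hP1)
      ((Sylow.smul_subtype hP2 a).symm.trans ha)
  set n := (a : G) * g with hndef
  have hnd : n * d * n⁻¹ = k := by
    calc n * d * n⁻¹ = a * (g * d * g⁻¹) * (a : G)⁻¹ := by rw [hndef]; group
      _ = k := by rw [hg, (mem_centralizer_singleton_iff.1 a.2), mul_inv_cancel_right]
  have hnP : ∀ p, p ∈ (P : Subgroup G) ↔ n * p * n⁻¹ ∈ (P : Subgroup G) := fun p => by
    conv_rhs => rw [← hn, Sylow.coe_subgroup_smul]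
    exact ⟨fun hp => ⟨p, hp, rfl⟩, fun ⟨q, hq, e'⟩ => by
      rwa [← (MulAut.conj n).injective (show MulAut.conj n q = MulAut.conj n p from e')]⟩
  have hnt : n * t * n⁻¹ = t := by
    have hmem : n * t * n⁻¹ ∈ (P : Subgroup G) := (hnP t).1 (sigma_sq R ▸ pow_mem hF.memσ 2)
    have h1 : Commute (v * w) (n * t * n⁻¹) := by
      have hq : n⁻¹ * (v * w) * n ∈ (P : Subgroup G) := (hnP _).2 (by simpa [mul_assoc] using hF.memσ)
      show v * w * (n * t * n⁻¹) = n * t * n⁻¹ * (v * w)
      calc v * w * (n * t * n⁻¹) = n * (n⁻¹ * (v * w) * n * t) * n⁻¹ := by group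
        _ = n * (t * (n⁻¹ * (v * w) * n)) * n⁻¹ := by rw [(hPt _ hq).eq]
        _ = n * t * n⁻¹ * (v * w) := by group
    obtain ⟨l, e' | e'⟩ := hF.cases _ hmem
    · have ho : orderOf ((v * w) ^ l) = 2 := by rw [← e', orderOf_conj', ht R]
      have h2 : ((v * w) ^ l) ^ 2 = 1 := by rw [← ho, pow_orderOf_eq_one]
      rw [← pow_mul, ← orderOf_dvd_iff_pow_eq_one, sigma_order R] at h2
      rw [e', ← pow_mod_orderOf, sigma_order R]
      rcases (by omega : l % 4 = 0 ∨ l % 4 = 2) with h4 | h4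
      · exact absurd (by rw [← pow_mod_orderOf, sigma_order R, h4, pow_zero]) (invol_ne_one ho)
      · rw [h4, sigma_sq R]
    · exfalso
      rw [e'] at h1
      have h2 : Commute (v * w) w := by
        have := h1.mul_right ((Commute.refl (v * w)).pow_right l).inv_right
        rwa [mul_inv_cancel_right] at this
      have h3 := w_sigma R
      rw [← h2.eq, mul_inv_cancel_right] at h3
      refine invol_ne_one (ht R) ?_
      rw [← sigma_sq R, sq]
      nth_rewrite 1 [h3]
      exact inv_mul_cancel _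
  have key : ∀ x ∈ Rsub t (v * w), x * d * x⁻¹ = k → ∃ e' ∈ Dsub t w, e' * d * e'⁻¹ = k := by
    intro x hx e'
    have hdH : d ∈ Rsub t (v * w) := ocore_le_h (d_le hd)
    have hval : ∀ {y : G} (hy : y ∈ Dsub t w) (hyH : y ∈ Rsub t (v * w)),
        (piD R (piH R ⟨y, hyH⟩) : G) = y := fun {y} hy hyH =>
      piD_val R (one_mem _) hy (by
        rw [one_mul]
        exact piH_val R (y := ⟨y, hyH⟩) (i := 0) (l := 0) (d_mem_k R hy) (by simp))
    set X : Rsub t (v * w) := ⟨x, hx⟩
    have h1 := congrArg (fun y => ((piD R (piH R y) : Dsub t w) : G))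
      (show X * ⟨d, hdH⟩ * X⁻¹ = ⟨k, ocore_le_h (d_le hkD)⟩ from Subtype.ext e')
    simp only [map_mul, map_inv, coe_mul, coe_inv, hval hd, hval hkD] at h1
    exact ⟨_, (piD R (piH R X)).2, h1⟩
  rcases cover R (mem_centralizer_singleton_iff.2 (mul_inv_eq_iff_eq_mul.1 hnt)) with hx | hx
  · exact key n hx hnd
  · refine key (w * n) hx ?_
    calc w * n * d * (w * n)⁻¹ = w * (n * d * n⁻¹) * w⁻¹ := by group
      _ = k := by rw [hnd, (d_w hkD).symm.eq, mul_inv_cancel_right]

end CfsgLib.GW.CaseA.Mixed.Kill
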