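import Cfsg.Agent.Lib.GW.CaseA.Mixed.Residual
import Cfsg.Agent.Lib.GW.CaseA.Inverted.Structure
import Mathlib.GroupTheory.Nilpotent

/-!
# Case A, residual configuration: the structure of `C(t)`

`O(C(t)) = ⟨z⟩ × Q D` with `Q` inverted by all reflections and `D = C_O(w)`; the rotations `σ = v w` centralise
`Q D` and invert `z`.  An element of `⟨z⟩ D` fused to an element of `D` lies in `D`.
-/

set_option autoImplicit false
set_option linter.unusedSectionVars false
set_option linter.style.haveILetI false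

open Subgroup
open scoped Pointwise

namespace CfsgLib.GW.CaseA.Mixed.Kill

open CfsgLib.Block.Dihedral CfsgLib.Invol CfsgLib.GW.CaseA.Inverted

universe u

variable {G : Type u} [Group G] [Finite G]

/-- generated by the `O_q(C(t))`, `q ≠ 2, 3` -/
def Qsub (t : G) : Subgroup G :=
  closure {x | ∃ q : ℕ, q.Prime ∧ q ≠ 2 ∧ q ≠ 3 ∧ x ∈ coreAt q t}

/-- the centraliser of the rotations in `O(C(t))` -/
def Ksub (t v w : G) : Subgroup G := Ocore t ⊓ centralizer ({v * w} : Set G)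

theorem orderOf_conj' (g x : G) : orderOf (g * x * g⁻¹) = orderOf x := by
  rw [show g * x * g⁻¹ = MulAut.conj g x from rfl, MulEquiv.orderOf_eq]

theorem eq_one_of_two_pow {A : Subgroup G} (hA : Odd (Nat.card A)) {a : G} (ha : a ∈ A) {k : ℕ} (h : a ^ 2 ^ k = 1) :
    a = 1 :=
  orderOf_eq_one_iff.1 (Nat.eq_one_of_dvd_coprimes
    (Nat.Coprime.pow_right k (Nat.coprime_two_right.2 (CaseB.orderOf_odd_of_mem hA ha))) dvd_rfl
    (orderOf_dvd_of_pow_eq_one h))

theorem comm_of_cube {x a : G} {k : ℕ} (hk : x ^ 2 ^ k = 1) (h : Commute (x ^ 3) a) : Commute x a := by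
  obtain ⟨m, hm⟩ := exists_pow_eq_self_of_coprime (x := x) (n := 3)
    ((Nat.Coprime.pow_right k (by norm_num)).coprime_dvd_right (orderOf_dvd_of_pow_eq_one hk))
  rw [← hm]
  exact h.pow_left m

variable {t v w z c e : G} (R : Residual t v w z c e)
include R

theorem ht : orderOf t = 2 := R.hA.invol

theorem t_sq : t * t = 1 := by rw [← sq, ← ht R, pow_orderOf_eq_one]

theorem v_sq : v * v = 1 := by rw [← sq, ← R.v_invol, pow_orderOf_eq_one]

theorem w_sq : w * w = 1 := by rw [← sq, ← R.w_invol, pow_orderOf_eq_one]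

theorem w_inv : w⁻¹ = w := inv_eq_of_mul_eq_one_right (w_sq R)

theorem v_inv : v⁻¹ = v := inv_eq_of_mul_eq_one_right (v_sq R)

theorem sigma_comm_t : Commute (v * w) t := R.v_comm.mul_left R.w_comm

theorem sigma_sq : (v * w) ^ 2 = t := by
  calc (v * w) ^ 2 = v * (w * v * w⁻¹) * (w * w) := by rw [sq]; group
    _ = v * (t * v) := by rw [R.wvw, w_sq R, mul_one]
    _ = t * (v * v) := by rw [← mul_assoc, R.v_comm.eq, mul_assoc]
    _ = t := by rw [v_sq R, mul_one]

theorem sigma_order : orderOf (v * w) = 4 := by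
  haveI : Fact (Nat.Prime 2) := ⟨Nat.prime_two⟩
  refine orderOf_eq_prime_pow (p := 2) (n := 1) ?_ ?_
  · rw [pow_one, sigma_sq R]
    exact invol_ne_one (ht R)
  · rw [show 2 ^ (1 + 1) = 2 * 2 from rfl, pow_mul, sigma_sq R, sq, t_sq R]

theorem sigma_four : (v * w) ^ 4 = 1 := by rw [← sigma_order R, pow_orderOf_eq_one]

theorem sigma_pow_inv (l : ℕ) : ((v * w) ^ l)⁻¹ = (v * w) ^ (3 * l) := by
  rw [inv_eq_iff_mul_eq_one, ← pow_add, show l + 3 * l = 4 * l by ring, pow_mul, sigma_four R, one_pow]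

theorem w_sigma : w * (v * w) * w⁻¹ = (v * w)⁻¹ := by
  rw [mul_inv_rev, v_inv R, w_inv R]
  calc w * (v * w) * w = w * v * (w * w) := by group
    _ = w * v := by rw [w_sq R, mul_one]

theorem w_sigma_pow (l : ℕ) : w * (v * w) ^ l * w⁻¹ = (v * w) ^ (3 * l) := by
  rw [← conj_pow, w_sigma R, inv_pow, eq_comm, eq_inv_iff_mul_eq_one, ← pow_add,
    show 3 * l + l = 4 * l by ring, pow_mul, sigma_four R, one_pow]

theorem z_mem_core : z ∈ coreAt 3 t := R.core ▸ mem_zpowers z

theorem z_ocore : z ∈ Ocore t := by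
  haveI := Fact.mk Nat.prime_three
  exact coreAt_le_ocore (p := 3) (by norm_num) t (z_mem_core R)

theorem z_comm_t : Commute z t := commute_coreAt (z_mem_core R)

theorem z_ne : z ≠ 1 := fun h => by
  have := R.z_order
  rw [h, orderOf_one] at this
  norm_num at this

theorem z_cases {y : G} (hy : y ∈ zpowers z) : y = 1 ∨ y = z ∨ y = z⁻¹ := by
  obtain ⟨n, rfl⟩ := mem_zpowers_iff.1 hy
  rw [← zpow_mod_orderOf, R.z_order]
  rcases (by omega : n % ((3 : ℕ) : ℤ) = 0 ∨ n % ((3 : ℕ) : ℤ) = 1 ∨ n % ((3 : ℕ) : ℤ) = 2) with h | h | h <;> rw [h]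
  · exact Or.inl (zpow_zero z)
  · exact Or.inr (Or.inl (zpow_one z))
  · refine Or.inr (Or.inr (eq_inv_of_mul_eq_one_left ?_))
    rw [← zpow_add_one, show (2 : ℤ) + 1 = ((3 : ℕ) : ℤ) from rfl, zpow_natCast, ← R.z_order, pow_orderOf_eq_one]

/-- `⟨z⟩` is central in `O(C(t))` -/
theorem z_central {o : G} (ho : o ∈ Ocore t) : Commute o z := by
  have hot : Commute o t := mem_centralizer_singleton_iff.1 (ocore_le t ho)
  have hm : o * z * o⁻¹ ∈ zpowers z :=
    R.core ▸ (mem_normalizer_iff.1 (mem_normalizer_coreAt hot) z).1 (z_mem_core R)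
  rcases z_cases R hm with h | h | h
  · exact absurd (conj_eq_one_iff.1 h) (z_ne R)
  · exact mul_inv_eq_iff_eq_mul.1 h
  · exfalso
    have h2 : o ^ 2 * z * (o ^ 2)⁻¹ = z := by
      calc o ^ 2 * z * (o ^ 2)⁻¹ = o * (o * z * o⁻¹) * o⁻¹ := by rw [sq]; group
        _ = (o * z * o⁻¹)⁻¹ := by rw [conj_inv, h]
        _ = z := by rw [h, inv_inv]
    have hc : Commute (o ^ 2) z := mul_inv_eq_iff_eq_mul.1 h2
    obtain ⟨j, hj⟩ := CaseB.orderOf_odd_of_mem (odd_ocore t) ho
    have hc' : Commute o z := by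
      have h3 := hc.pow_left (j + 1)
      rwa [← pow_mul, show 2 * (j + 1) = orderOf o + 1 by omega, pow_succ, pow_orderOf_eq_one, one_mul] at h3
    rw [hc'.eq, mul_inv_cancel_right] at h
    have h4 : z ^ 2 = 1 := by
      rw [sq]
      nth_rewrite 1 [h]
      exact inv_mul_cancel z
    have := orderOf_dvd_of_pow_eq_one h4
    rw [R.z_order] at this
    norm_num at this

theorem sigma_z : v * w * z * (v * w)⁻¹ = z⁻¹ := by
  calc v * w * z * (v * w)⁻¹ = v * (w * z * w⁻¹) * v⁻¹ := by group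
    _ = z⁻¹ := by rw [R.zw, R.zv.inv_left.symm.eq, mul_inv_cancel_right]

theorem sigma_pow_z (l : ℕ) :
    (v * w) ^ l * z * ((v * w) ^ l)⁻¹ = if Even l then z else z⁻¹ := by
  induction l with
  | zero => simp
  | succ l ih =>
    calc (v * w) ^ (l + 1) * z * ((v * w) ^ (l + 1))⁻¹
        = v * w * ((v * w) ^ l * z * ((v * w) ^ l)⁻¹) * (v * w)⁻¹ := by rw [pow_succ']; generalize v * w = s; group
      _ = _ := by
        rw [ih]
        by_cases he : Even l
        · rw [if_pos he, if_neg (by simpa [parity_simps] using he), sigma_z R]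
        · rw [if_neg he, if_pos (by simpa [parity_simps] using he), ← conj_inv, sigma_z R, inv_inv]

/-! ### `Q` -/

theorem q_le : Qsub t ≤ Ocore t := (closure_le _).2 fun x ⟨q, hq, hq2, _, hx⟩ => by
  haveI := Fact.mk hq
  exact coreAt_le_ocore hq2 t hx

theorem q_comm {x y : G} (hx : x ∈ Qsub t) (hy : y ∈ Qsub t) : Commute x y := by
  have key : ∀ x ∈ {x | ∃ q : ℕ, q.Prime ∧ q ≠ 2 ∧ q ≠ 3 ∧ x ∈ coreAt q t},
      ∀ y ∈ {x | ∃ q : ℕ, q.Prime ∧ q ≠ 2 ∧ q ≠ 3 ∧ x ∈ coreAt q t}, Commute x y := by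
    rintro x ⟨q, hq, hq2, hq3, hx⟩ y ⟨r, hr, hr2, hr3, hy⟩
    haveI := Fact.mk hq
    haveI := Fact.mk hr
    by_cases hqr : r = q
    · subst hqr
      have i := R.inverted r hr hr2 hr3 w R.w_invol R.w_ne R.w_comm
      have e1 : w * (x * y) * w⁻¹ = (w * x * w⁻¹) * (w * y * w⁻¹) := by group
      rw [i x hx, i y hy, i _ (mul_mem hx hy), mul_inv_rev] at e1
      show x * y = y * x
      calc x * y = (y⁻¹ * x⁻¹)⁻¹ := by group
        _ = (x⁻¹ * y⁻¹)⁻¹ := by rw [e1]
        _ = y * x := by group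
    · exact CfsgLib.Coprime.BenderUniqueness.commute_opc hqr hx hy
  have h1 : ∀ y ∈ {x | ∃ q : ℕ, q.Prime ∧ q ≠ 2 ∧ q ≠ 3 ∧ x ∈ coreAt q t}, Qsub t ≤ centralizer ({y} : Set G) :=
    fun y hy => (closure_le _).2 fun x hx => mem_centralizer_singleton_iff.2 (key x hx y hy).eq
  have h2 : Qsub t ≤ centralizer ({x} : Set G) :=
    (closure_le _).2 fun y hy => mem_centralizer_singleton_iff.2 (mem_centralizer_singleton_iff.1 (h1 y hy hx)).symm
  exact (mem_centralizer_singleton_iff.1 (h2 hy)).symm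

theorem q_inv {a : G} (ha : orderOf a = 2) (hne : a ≠ t) (hc : Commute a t) {x : G} (hx : x ∈ Qsub t) :
    a * x * a⁻¹ = x⁻¹ := by
  induction hx using closure_induction with
  | mem x hx =>
    obtain ⟨q, hq, hq2, hq3, hx⟩ := hx
    exact R.inverted q hq hq2 hq3 a ha hne hc x hx
  | one => group
  | mul x y hx hy ihx ihy =>
    rw [show a * (x * y) * a⁻¹ = a * x * a⁻¹ * (a * y * a⁻¹) by group, ihx, ihy, mul_inv_rev]
    exact ((q_comm R hx hy).inv_left.inv_right).eq
  | inv x _ ih => rw [show a * x⁻¹ * a⁻¹ = (a * x * a⁻¹)⁻¹ by group, ih]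

omit R in
theorem q_normal {g : G} (hg : Commute g t) {x : G} (hx : x ∈ Qsub t) : g * x * g⁻¹ ∈ Qsub t := by
  induction hx using closure_induction with
  | mem x hx =>
    obtain ⟨q, hq, hq2, hq3, hx⟩ := hx
    exact subset_closure ⟨q, hq, hq2, hq3, (mem_normalizer_iff.1 (mem_normalizer_coreAt hg) x).1 hx⟩
  | one => simp
  | mul x y _ _ ihx ihy =>
    rw [show g * (x * y) * g⁻¹ = g * x * g⁻¹ * (g * y * g⁻¹) by group]
    exact mul_mem ihx ihy
  | inv x _ ih =>
    rw [show g * x⁻¹ * g⁻¹ = (g * x * g⁻¹)⁻¹ by group]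
    exact inv_mem ih

theorem q_sigma {f : G} (hf : f ∈ Qsub t) : Commute (v * w) f := by
  refine mul_inv_eq_iff_eq_mul.1 ?_
  calc v * w * f * (v * w)⁻¹ = v * (w * f * w⁻¹) * v⁻¹ := by group
    _ = f := by
      rw [q_inv R R.w_invol R.w_ne R.w_comm hf, q_inv R R.v_invol R.v_ne R.v_comm (inv_mem hf), inv_inv]

/-! ### `D` and the decomposition -/

omit R in
theorem d_le : Dsub t w ≤ Ocore t := inf_le_left

omit R in
theorem d_w {d : G} (hd : d ∈ Dsub t w) : Commute d w := mem_centralizer_singleton_iff.1 hd.2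

omit R in
theorem d_t {d : G} (hd : d ∈ Dsub t w) : Commute d t := mem_centralizer_singleton_iff.1 (ocore_le t (d_le hd))

theorem d_v {d : G} (hd : d ∈ Dsub t w) : Commute d v := R.fix d (d_le hd) (d_w hd)

theorem d_sigma {d : G} (hd : d ∈ Dsub t w) : Commute (v * w) d := (d_v R hd).symm.mul_left (d_w hd).symm

theorem c_mem_d : c ∈ Dsub t w := ⟨R.c_mem, mem_centralizer_singleton_iff.2 R.cw.eq⟩

theorem d_ne_bot : Dsub t w ≠ ⊥ := fun h => by
  have h1 := c_mem_d R
  rw [h, mem_bot] at h1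
  have h2 := R.c_order
  rw [h1, orderOf_one] at h2
  norm_num at h2

theorem k_of_fd {f d : G} (hf : f ∈ Qsub t) (hd : d ∈ Dsub t w) : f * d ∈ Ksub t v w :=
  ⟨mul_mem (q_le R hf) (d_le hd), mem_centralizer_singleton_iff.2 ((q_sigma R hf).mul_right (d_sigma R hd)).symm.eq⟩

theorem k_sigma {x : G} (hx : x ∈ Ksub t v w) : Commute (v * w) x :=
  (mem_centralizer_singleton_iff.1 hx.2 : Commute x (v * w)).symm

/-- `O = ⟨z⟩ Q D` -/
theorem exists_zfd {o : G} (ho : o ∈ Ocore t) :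
    ∃ i : ℕ, ∃ f ∈ Qsub t, ∃ d ∈ Dsub t w, o = z ^ i * (f * d) := by
  have hot : Commute o t := mem_centralizer_singleton_iff.1 (ocore_le t ho)
  set A := zpowers z ⊔ Qsub t with hA
  have hAO : A ≤ Ocore t := sup_le (zpowers_le.2 (z_ocore R)) (q_le R)
  have hAmem : ∀ a ∈ A, ∃ i : ℕ, ∃ f ∈ Qsub t, a = z ^ i * f := by
    intro a ha
    have hn : Qsub t ≤ normalizer (zpowers z : Set G) := fun f hf => by
      refine mem_normalizer_iff.2 fun x => ?_
      have hfix : ∀ y ∈ zpowers z, f * y * f⁻¹ = y := fun y hy => by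
        obtain ⟨n, rfl⟩ := mem_zpowers_iff.1 hy
        rw [((z_central R (q_le R hf)).zpow_right n).eq, mul_inv_cancel_right]
      exact ⟨fun hx => by rwa [hfix x hx], fun hx => by
        have h2 : f * x * f⁻¹ = x := mul_left_cancel (a := f) (mul_right_cancel (b := f⁻¹) (hfix _ hx))
        rwa [h2] at hx⟩
    have ha' : a ∈ ((zpowers z : Set G) * (Qsub t : Set G)) := by
      rw [← coe_mul_of_right_le_normalizer_left _ _ hn]
      exact ha
    obtain ⟨y, hy, f, hf, rfl⟩ := Set.mem_mul.1 ha'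
    obtain ⟨i, rfl⟩ := (isOfFinOrder_of_finite z).mem_powers_iff_mem_zpowers.2 hy
    exact ⟨i, f, hf, rfl⟩
  have hinv : ∀ a ∈ A, w * a * w⁻¹ = a⁻¹ := by
    intro a ha
    obtain ⟨i, f, hf, rfl⟩ := hAmem a ha
    rw [show w * (z ^ i * f) * w⁻¹ = w * z ^ i * w⁻¹ * (w * f * w⁻¹) by group, ← conj_pow, R.zw,
      q_inv R R.w_invol R.w_ne R.w_comm hf, inv_pow, mul_inv_rev]
    exact (((z_central R (q_le R hf)).pow_right i).inv_left.inv_right).symm.eq
  have hnorm : ∀ {g : G}, Commute g t → ∀ a ∈ A, g * a * g⁻¹ ∈ A := by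
    intro g hg a ha
    obtain ⟨i, f, hf, rfl⟩ := hAmem a ha
    rw [show g * (z ^ i * f) * g⁻¹ = g * z ^ i * g⁻¹ * (g * f * g⁻¹) by group, ← conj_pow]
    refine mul_mem (mem_sup_left (pow_mem ?_ i)) (mem_sup_right (q_normal hg hf))
    exact R.core ▸ (mem_normalizer_iff.1 (mem_normalizer_coreAt hg) z).1 (z_mem_core R)
  have hself : ∀ x ∈ Ocore t, (∀ a ∈ A, Commute a x) → x ∈ A := by
    intro x hx hc
    have hle : CfsgLib.Coprime.BenderUniqueness.fit (Ocore t) ≤ A := fit_ocore_le fun q hq hq2 y hy => by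
      by_cases hq3 : q = 3
      · subst hq3
        rw [R.core] at hy
        exact mem_sup_left hy
      · exact mem_sup_right (subset_closure ⟨q, hq, hq2, hq3, hy⟩)
    exact hle (CaseB.mem_fit_ocN (M := centralizer ({t} : Set G)) hx fun y hy => hc y (hle hy))
  set u := o⁻¹ * (w * o * w⁻¹) with hu
  have huA : u ∈ A := by
    refine hself u (mul_mem (inv_mem ho) ((mem_normalizer_iff.1 (centralizer_le_normalizer_ocore t
      (mem_centralizer_singleton_iff.2 R.w_comm.eq)) o).1 ho)) fun a ha => ?_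
    set g := w * o * w⁻¹ with hg
    have h1 : g * a * g⁻¹ = o * a * o⁻¹ := by
      have h2 : w⁻¹ * a * w = a⁻¹ := by
        calc w⁻¹ * a * w = w⁻¹ * (w * a⁻¹ * w⁻¹) * w := by rw [hinv _ (inv_mem ha), inv_inv]
          _ = a⁻¹ := by group
      calc g * a * g⁻¹ = w * (o * (w⁻¹ * a * w) * o⁻¹) * w⁻¹ := by rw [hg]; group
        _ = w * (o * a⁻¹ * o⁻¹) * w⁻¹ := by rw [h2]
        _ = (o * a⁻¹ * o⁻¹)⁻¹ := hinv _ (hnorm hot _ (inv_mem ha))
        _ = o * a * o⁻¹ := by group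
    show a * (o⁻¹ * g) = o⁻¹ * g * a
    calc a * (o⁻¹ * g) = o⁻¹ * (o * a * o⁻¹) * g := by group
      _ = o⁻¹ * (g * a * g⁻¹) * g := by rw [h1]
      _ = o⁻¹ * g * a := by group
  obtain ⟨m, hm⟩ : Odd (orderOf u) := CaseB.orderOf_odd_of_mem (odd_ocore t) (hAO huA)
  set g := u ^ (m + 1)
  have hgA : g ∈ A := pow_mem huA _
  have hg2 : g * g = u := by
    rw [← pow_add, show m + 1 + (m + 1) = orderOf u + 1 by omega, pow_succ, pow_orderOf_eq_one, one_mul]
  have hog : o * g ∈ Dsub t w := by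
    refine ⟨mul_mem ho (hAO hgA), mem_centralizer_singleton_iff.2 ?_⟩
    have h1 : w * (o * g) * w⁻¹ = o * g := by
      calc w * (o * g) * w⁻¹ = o * u * (w * g * w⁻¹) := by rw [hu]; group
        _ = o * (g * g) * g⁻¹ := by rw [hinv g hgA, hg2]
        _ = o * g := by group
    exact (mul_inv_eq_iff_eq_mul.1 h1).symm
  obtain ⟨i, f, hf, hif⟩ := hAmem _ (hnorm hot g⁻¹ (inv_mem hgA))
  exact ⟨i, f, hf, o * g, hog, by rw [← mul_assoc, ← hif]; group⟩

theorem eq_one_of_both {x : G} (hf : x ∈ Qsub t) (hd : x ∈ Dsub t w) : x = 1 := by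
  refine eq_one_of_two_pow (odd_ocore t) (d_le hd) (k := 1) ?_
  have h1 := q_inv R R.w_invol R.w_ne R.w_comm hf
  rw [(d_w hd).symm.eq, mul_inv_cancel_right] at h1
  rw [pow_one, sq]
  nth_rewrite 1 [h1]
  exact inv_mul_cancel x

theorem eq_one_of_z_k {x : G} (hz : x ∈ zpowers z) (hk : x ∈ Ksub t v w) : x = 1 := by
  rcases z_cases R hz with rfl | rfl | rfl
  · rfl
  all_goals
    exfalso
    have h1 := (k_sigma R hk).eq
    have h2 := sigma_z R
    first
    | (rw [h1, mul_inv_cancel_right] at h2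
       exact z_ne R (eq_one_of_two_pow (odd_ocore t) (z_ocore R) (k := 1) (by
         rw [pow_one, sq]; nth_rewrite 1 [h2]; exact inv_mul_cancel _)))
    | (have h3 : v * w * z⁻¹ * (v * w)⁻¹ = z⁻¹ := by rw [h1, mul_inv_cancel_right]
       rw [← conj_inv, h2, inv_inv] at h3
       exact z_ne R (eq_one_of_two_pow (odd_ocore t) (z_ocore R) (k := 1) (by
         rw [pow_one, sq]; nth_rewrite 1 [h3]; exact inv_mul_cancel _)))

theorem k_exists {x : G} (hx : x ∈ Ksub t v w) : ∃ f ∈ Qsub t, ∃ d ∈ Dsub t w, x = f * d := by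
  obtain ⟨i, f, hf, d, hd, e'⟩ := exists_zfd R hx.1
  refine ⟨f, hf, d, hd, ?_⟩
  have h1 : z ^ i = 1 := eq_one_of_z_k R (npow_mem_zpowers z i) (by
    rw [show z ^ i = x * (f * d)⁻¹ by rw [e']; group]
    exact mul_mem hx (inv_mem (k_of_fd R hf hd)))
  rw [e', h1, one_mul]

theorem k_unique {f f' d d' : G} (hf : f ∈ Qsub t) (hf' : f' ∈ Qsub t) (hd : d ∈ Dsub t w) (hd' : d' ∈ Dsub t w)
    (h : f * d = f' * d') : f = f' ∧ d = d' := by
  have h3 : f'⁻¹ * f = 1 := eq_one_of_both R (mul_mem (inv_mem hf') hf) (by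
    rw [show f'⁻¹ * f = d' * d⁻¹ by
      calc f'⁻¹ * f = f'⁻¹ * (f * d) * d⁻¹ := by group
        _ = d' * d⁻¹ := by rw [h]; group]
    exact mul_mem hd' (inv_mem hd))
  obtain rfl : f' = f := inv_mul_eq_one.1 h3
  exact ⟨rfl, mul_left_cancel h⟩

/-! ### The rotations -/

omit R in
theorem sigma_mem : v * w ∈ Rsub t (v * w) := mem_sup_right (mem_zpowers _)

theorem h_exists {g : G} (hg : g ∈ Rsub t (v * w)) :
    ∃ i : ℕ, ∃ x ∈ Ksub t v w, ∃ l : ℕ, g = z ^ i * x * (v * w) ^ l := by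
  have hn : zpowers (v * w) ≤ normalizer (Ocore t : Set G) :=
    zpowers_le.2 (centralizer_le_normalizer_ocore t (mem_centralizer_singleton_iff.2 (sigma_comm_t R).eq))
  have hg' : g ∈ ((Ocore t : Set G) * (zpowers (v * w) : Set G)) := by
    rw [← coe_mul_of_right_le_normalizer_left _ _ hn]
    exact hg
  obtain ⟨o, ho, s, hs, rfl⟩ := Set.mem_mul.1 hg'
  obtain ⟨l, rfl⟩ := (isOfFinOrder_of_finite (v * w)).mem_powers_iff_mem_zpowers.2 hs
  obtain ⟨i, f, hf, d, hd, rfl⟩ := exists_zfd R ho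
  exact ⟨i, f * d, k_of_fd R hf hd, l, rfl⟩

theorem h_mem {i l : ℕ} {x : G} (hx : x ∈ Ksub t v w) : z ^ i * x * (v * w) ^ l ∈ Rsub t (v * w) :=
  mul_mem (mem_sup_left (mul_mem (pow_mem (z_ocore R) i) hx.1)) (pow_mem (sigma_mem) l)

theorem sigma_pow_mem_ocore {l : ℕ} (h : (v * w) ^ l ∈ Ocore t) : (v * w) ^ l = 1 :=
  eq_one_of_two_pow (odd_ocore t) h (k := 2) (by
    rw [← pow_mul, mul_comm, pow_mul, show (2 : ℕ) ^ 2 = 4 from rfl, sigma_four R, one_pow])

theorem h_unique {i i' l l' : ℕ} {x x' : G} (hx : x ∈ Ksub t v w) (hx' : x' ∈ Ksub t v w)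
    (h : z ^ i * x * (v * w) ^ l = z ^ i' * x' * (v * w) ^ l') : i % 3 = i' % 3 ∧ x = x' ∧ l % 4 = l' % 4 := by
  have h0 : (z ^ i' * x')⁻¹ * (z ^ i * x) = (v * w) ^ (l' + 3 * l) := by
    have hinv : ((v * w) ^ l)⁻¹ = (v * w) ^ (3 * l) := by
      rw [inv_eq_iff_mul_eq_one, ← pow_add, show l + 3 * l = 4 * l by ring, pow_mul, sigma_four R, one_pow]
    calc (z ^ i' * x')⁻¹ * (z ^ i * x) = (z ^ i' * x')⁻¹ * (z ^ i * x * (v * w) ^ l) * ((v * w) ^ l)⁻¹ := by group
      _ = (v * w) ^ (l' + 3 * l) := by rw [h, hinv, pow_add]; group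
  have h1 : (v * w) ^ (l' + 3 * l) = 1 := sigma_pow_mem_ocore R (h0 ▸ mul_mem
    (inv_mem (mul_mem (pow_mem (z_ocore R) _) hx'.1)) (mul_mem (pow_mem (z_ocore R) _) hx.1))
  rw [h1, inv_mul_eq_one] at h0
  have hl : l % 4 = l' % 4 := by
    have := orderOf_dvd_of_pow_eq_one h1
    rw [sigma_order R] at this
    omega
  have hz : (z ^ i')⁻¹ * z ^ i = 1 := eq_one_of_z_k R (mul_mem (inv_mem (npow_mem_zpowers z _)) (npow_mem_zpowers z _)) (by
    rw [show (z ^ i')⁻¹ * z ^ i = x' * x⁻¹ by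
      calc (z ^ i')⁻¹ * z ^ i = (z ^ i')⁻¹ * (z ^ i * x) * x⁻¹ := by group
        _ = x' * x⁻¹ := by rw [← h0]; group]
    exact mul_mem hx' (inv_mem hx))
  rw [inv_mul_eq_one] at hz
  refine ⟨?_, ?_, hl⟩
  · rw [eq_comm, pow_inj_mod, R.z_order] at hz
    exact hz
  · rw [hz] at h0
    exact (mul_left_cancel h0).symm

theorem rsub_le : Rsub t (v * w) ≤ centralizer ({t} : Set G) :=
  sup_le (ocore_le t) (zpowers_le.2 (mem_centralizer_singleton_iff.2 (sigma_comm_t R).eq))

theorem z_pow_inv (i : ℕ) : (z ^ i)⁻¹ = z ^ (2 * i) := by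
  rw [inv_eq_iff_mul_eq_one, ← pow_add, show i + 2 * i = 3 * i by ring, pow_mul, ← R.z_order, pow_orderOf_eq_one,
    one_pow]

theorem k_norm_w {x : G} (hx : x ∈ Ksub t v w) : w * x * w⁻¹ ∈ Ksub t v w := by
  obtain ⟨f, hf, d, hd, rfl⟩ := k_exists R hx
  rw [show w * (f * d) * w⁻¹ = w * f * w⁻¹ * (w * d * w⁻¹) by group, q_inv R R.w_invol R.w_ne R.w_comm hf,
    (d_w hd).symm.eq, mul_inv_cancel_right]
  exact k_of_fd R (inv_mem hf) hd

theorem conj_w {i l : ℕ} {x : G} :
    w * (z ^ i * x * (v * w) ^ l) * w⁻¹ = z ^ (2 * i) * (w * x * w⁻¹) * (v * w) ^ (3 * l) := by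
  calc w * (z ^ i * x * (v * w) ^ l) * w⁻¹ = w * z ^ i * w⁻¹ * (w * x * w⁻¹) * (w * (v * w) ^ l * w⁻¹) := by group
    _ = _ := by rw [← conj_pow, R.zw, inv_pow, z_pow_inv R, w_sigma_pow R]

theorem w_not : w ∉ Rsub t (v * w) := fun hw => by
  obtain ⟨i, x, hx, l, e'⟩ := h_exists R hw
  have h3 : z ^ i * (v * w) * (z ^ i)⁻¹ = (v * w)⁻¹ := by
    calc z ^ i * (v * w) * (z ^ i)⁻¹ = z ^ i * (x * (v * w) * x⁻¹) * (z ^ i)⁻¹ := by
          rw [(k_sigma R hx).symm.eq, mul_inv_cancel_right]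
      _ = z ^ i * x * ((v * w) ^ l * (v * w) * ((v * w) ^ l)⁻¹) * (z ^ i * x)⁻¹ := by
        rw [(Commute.pow_self (v * w) l).eq, mul_inv_cancel_right]; group
      _ = z ^ i * x * (v * w) ^ l * (v * w) * (z ^ i * x * (v * w) ^ l)⁻¹ := by generalize v * w = s; group
      _ = w * (v * w) * w⁻¹ := by rw [← e']
      _ = _ := w_sigma R
  have hz : v * w * (z ^ i)⁻¹ * (v * w)⁻¹ = z ^ i := by
    rw [← inv_pow, ← conj_pow, ← conj_inv, sigma_z R, inv_inv]
  have h5 : z ^ (i + i) * (1 : G) * (v * w) ^ 2 = z ^ 0 * 1 * (v * w) ^ 0 := by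
    rw [pow_add, mul_one, pow_zero, pow_zero, mul_one, mul_one]
    calc z ^ i * z ^ i * (v * w) ^ 2 = z ^ i * (v * w * (z ^ i)⁻¹ * (v * w)⁻¹) * (v * w) ^ 2 := by rw [hz]
      _ = z ^ i * (v * w) * (z ^ i)⁻¹ * (v * w) := by generalize v * w = s; group
      _ = 1 := by rw [h3, inv_mul_cancel]
  have := (h_unique R (one_mem _) (one_mem _) h5).2.2
  omega

theorem tau_norm {g : G} (hg : g ∈ Rsub t (v * w)) : w * g * w⁻¹ ∈ Rsub t (v * w) := by
  obtain ⟨i, x, hx, l, rfl⟩ := h_exists R hg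
  rw [conj_w R]
  exact h_mem R (k_norm_w R hx)

theorem card_ocore : Nat.card (Ocore t) = 3 * Nat.card (Ksub t v w) := by
  have hbij : Function.Bijective fun p : Fin 3 × Ksub t v w =>
      (⟨z ^ (p.1 : ℕ) * p.2, mul_mem (pow_mem (z_ocore R) _) p.2.2.1⟩ : Ocore t) := by
    constructor
    · rintro ⟨i, x⟩ ⟨i', x'⟩ h
      obtain ⟨h1, h2, -⟩ := h_unique R (i := (i : ℕ)) (i' := (i' : ℕ)) (l := 0) (l' := 0) x.2 x'.2 (by
        rw [pow_zero, mul_one, mul_one]; exact congrArg Subtype.val h)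
      obtain rfl : i = i' := Fin.ext (by omega)
      obtain rfl : x = x' := Subtype.ext h2
      rfl
    · intro o
      obtain ⟨i, f, hf, d, hd, h⟩ := exists_zfd R o.2
      refine ⟨(⟨i % 3, Nat.mod_lt _ (by norm_num)⟩, ⟨f * d, k_of_fd R hf hd⟩), Subtype.ext ?_⟩
      show z ^ (i % 3) * (f * d) = (o : G)
      rw [h, ← R.z_order, pow_mod_orderOf]
  rw [← Nat.card_eq_of_bijective _ hbij, Nat.card_prod, Nat.card_fin]

theorem card_ksub : Nat.card (Ksub t v w) = Nat.card (Qsub t) * Nat.card (Dsub t w) := by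
  have hbij : Function.Bijective fun p : Qsub t × Dsub t w =>
      (⟨(p.1 : G) * p.2, k_of_fd R p.1.2 p.2.2⟩ : Ksub t v w) := by
    constructor
    · rintro ⟨f, d⟩ ⟨f', d'⟩ h
      obtain ⟨h1, h2⟩ := k_unique R f.2 f'.2 d.2 d'.2 (congrArg Subtype.val h)
      exact Prod.ext (Subtype.ext h1) (Subtype.ext h2)
    · intro x
      obtain ⟨f, hf, d, hd, h⟩ := k_exists R x.2
      exact ⟨(⟨f, hf⟩, ⟨d, hd⟩), Subtype.ext h.symm⟩
  rw [← Nat.card_eq_of_bijective _ hbij, Nat.card_prod]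

theorem card_rsub : Nat.card (Rsub t (v * w)) = 4 * Nat.card (Ocore t) := by
  have hbij : Function.Bijective fun p : Ocore t × Fin 4 =>
      (⟨(p.1 : G) * (v * w) ^ (p.2 : ℕ), mul_mem (mem_sup_left p.1.2) (pow_mem sigma_mem _)⟩ : Rsub t (v * w)) := by
    constructor
    · rintro ⟨o, l⟩ ⟨o', l'⟩ h
      obtain ⟨i, f, hf, d, hd, ho⟩ := exists_zfd R o.2
      obtain ⟨i', f', hf', d', hd', ho'⟩ := exists_zfd R o'.2
      have h' : (o : G) * (v * w) ^ (l : ℕ) = (o' : G) * (v * w) ^ (l' : ℕ) := congrArg Subtype.val h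
      rw [ho, ho'] at h'
      obtain ⟨-, -, h3⟩ := h_unique R (k_of_fd R hf hd) (k_of_fd R hf' hd') h'
      obtain rfl : l = l' := Fin.ext (by omega)
      rw [← ho, ← ho'] at h'
      exact Prod.ext (Subtype.ext (mul_right_cancel h')) rfl
    · intro g
      obtain ⟨i, x, hx, l, h⟩ := h_exists R g.2
      refine ⟨(⟨z ^ i * x, mul_mem (pow_mem (z_ocore R) i) hx.1⟩, ⟨l % 4, Nat.mod_lt _ (by norm_num)⟩), Subtype.ext ?_⟩
      show z ^ i * x * (v * w) ^ (l % 4) = (g : G)
      rw [h, ← sigma_order R, pow_mod_orderOf]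
  rw [← Nat.card_eq_of_bijective _ hbij, Nat.card_prod, Nat.card_fin, mul_comm]

theorem cover {g : G} (hg : g ∈ centralizer ({t} : Set G)) : g ∈ Rsub t (v * w) ∨ w * g ∈ Rsub t (v * w) := by
  set C := centralizer ({t} : Set G)
  set H := (Rsub t (v * w)).subgroupOf C
  have hidx : H.index = 2 := by
    have h1 := H.card_mul_index
    rw [Nat.card_congr (subgroupOfEquivOfLe (rsub_le R)).toEquiv, card_rsub R, R.card,
      show 8 * Nat.card (Ocore t) = 4 * Nat.card (Ocore t) * 2 by ring] at h1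
    exact Nat.eq_of_mul_eq_mul_left (by have := Nat.card_pos (α := Ocore t); omega) h1
  by_cases h : g ∈ Rsub t (v * w)
  · exact Or.inl h
  refine Or.inr ?_
  have hm := (Subgroup.mul_mem_iff_of_index_two hidx (a := ⟨w, mem_centralizer_singleton_iff.2 R.w_comm.eq⟩)
    (b := ⟨g, hg⟩)).2 (iff_of_false (fun h' => w_not R (mem_subgroupOf.1 h')) (fun h' => h (mem_subgroupOf.1 h')))
  exact mem_subgroupOf.1 hm

theorem k_normal {g x : G} (hg : Commute g t) (hx : x ∈ Ksub t v w) : g * x * g⁻¹ ∈ Ksub t v w := by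
  have key : ∀ {i l : ℕ} {a y : G}, a ∈ Ksub t v w → y ∈ Ksub t v w →
      z ^ i * a * (v * w) ^ l * y * (z ^ i * a * (v * w) ^ l)⁻¹ = a * y * a⁻¹ := by
    intro i l a y ha hy
    calc z ^ i * a * (v * w) ^ l * y * (z ^ i * a * (v * w) ^ l)⁻¹
        = z ^ i * a * ((v * w) ^ l * y * ((v * w) ^ l)⁻¹) * a⁻¹ * (z ^ i)⁻¹ := by group
      _ = z ^ i * (a * y * a⁻¹) * (z ^ i)⁻¹ := by
        rw [((k_sigma R hy).pow_left l).eq, mul_inv_cancel_right]; group
      _ = _ := by
        rw [← ((z_central R (mul_mem (mul_mem ha.1 hy.1) (inv_mem ha.1))).pow_right i).eq, mul_inv_cancel_right]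
  rcases cover R (mem_centralizer_singleton_iff.2 hg.eq) with hgH | hgH
  · obtain ⟨i, a, ha, l, rfl⟩ := h_exists R hgH
    rw [key ha hx]
    exact mul_mem (mul_mem ha hx) (inv_mem ha)
  · obtain ⟨i, a, ha, l, e'⟩ := h_exists R hgH
    have h2 : g = w * (z ^ i * a * (v * w) ^ l) := by rw [← e', ← mul_assoc, w_sq R, one_mul]
    rw [h2, show w * (z ^ i * a * (v * w) ^ l) * x * (w * (z ^ i * a * (v * w) ^ l))⁻¹ =
      w * (z ^ i * a * (v * w) ^ l * x * (z ^ i * a * (v * w) ^ l)⁻¹) * w⁻¹ by group, key ha hx]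
    exact k_norm_w R (mul_mem (mul_mem ha hx) (inv_mem ha))

/-- the elements of `C(t) ∩ C(v)` -/
theorem cent_tv {g : G} (hgt : Commute g t) (hgv : Commute g v) :
    ∃ i : ℕ, ∃ d ∈ Dsub t w, ∃ s : G, (s = 1 ∨ s = t ∨ s = v ∨ s = v * t) ∧ g = z ^ i * d * s := by
  have key : ∀ g ∈ Rsub t (v * w), Commute g v →
      ∃ i : ℕ, ∃ d ∈ Dsub t w, ∃ s : G, (s = 1 ∨ s = t) ∧ g = z ^ i * d * s := by
    intro g hg hgv
    obtain ⟨i, x, hx, l, rfl⟩ := h_exists R hg
    obtain ⟨f, hf, d, hd, rfl⟩ := k_exists R hx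
    have hc : v * (z ^ i * (f * d) * (v * w) ^ l) * v⁻¹ = z ^ i * (f⁻¹ * d) * (v * w) ^ (3 * l) := by
      have h1 : v * (v * w) ^ l * v⁻¹ = (v * w) ^ (3 * l) := by
        rw [← conj_pow, show v * (v * w) * v⁻¹ = (v * w)⁻¹ by
          rw [mul_inv_rev, v_inv R, w_inv R, ← mul_assoc, v_sq R, one_mul], inv_pow, sigma_pow_inv R]
      calc v * (z ^ i * (f * d) * (v * w) ^ l) * v⁻¹
          = v * z ^ i * v⁻¹ * (v * f * v⁻¹ * (v * d * v⁻¹)) * (v * (v * w) ^ l * v⁻¹) := by group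
        _ = _ := by
          rw [(R.zv.pow_left i).symm.eq, mul_inv_cancel_right, q_inv R R.v_invol R.v_ne R.v_comm hf,
            (d_v R hd).symm.eq, mul_inv_cancel_right, h1]
    rw [← hgv.eq, mul_inv_cancel_right] at hc
    obtain ⟨-, h2, h3⟩ := h_unique R (k_of_fd R hf hd) (k_of_fd R (inv_mem hf) hd) hc
    have hf1 : f = 1 := by
      have := (k_unique R hf (inv_mem hf) hd hd h2).1
      refine eq_one_of_two_pow (odd_ocore t) (q_le R hf) (k := 1) ?_
      rw [pow_one, sq]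
      nth_rewrite 1 [this]
      exact inv_mul_cancel f
    refine ⟨i, d, hd, (v * w) ^ l, ?_, by rw [hf1, one_mul]⟩
    rw [← pow_mod_orderOf, sigma_order R]
    rcases (by omega : l % 4 = 0 ∨ l % 4 = 2) with h4 | h4 <;> rw [h4]
    · exact Or.inl (pow_zero _)
    · exact Or.inr (sigma_sq R)
  rcases cover R (mem_centralizer_singleton_iff.2 hgt.eq) with hgH | hgH
  · obtain ⟨i, d, hd, s, hs, e'⟩ := key g hgH hgv
    exact ⟨i, d, hd, s, by tauto, e'⟩
  · have hvg : v * g ∈ Rsub t (v * w) := by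
      rw [show v * g = v * w * (w * g) by rw [mul_assoc v w, ← mul_assoc w w, w_sq R, one_mul]]
      exact mul_mem sigma_mem hgH
    obtain ⟨i, d, hd, s, hs, e'⟩ := key (v * g) hvg ((Commute.refl v).mul_left hgv)
    refine ⟨i, d, hd, v * s, ?_, ?_⟩
    · rcases hs with rfl | rfl
      · exact Or.inr (Or.inr (Or.inl (mul_one v)))
      · exact Or.inr (Or.inr (Or.inr rfl))
    · have hc : Commute v (z ^ i * d) := (R.zv.pow_left i).symm.mul_right (d_v R hd).symm
      calc g = v * (v * g) := by rw [← mul_assoc, v_sq R, one_mul]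
        _ = v * (z ^ i * d) * s := by rw [e', ← mul_assoc]
        _ = z ^ i * d * (v * s) := by rw [hc.eq, mul_assoc]

/-- a subgroup of order three centraliser: `Z T D = C_O(v)` -/
theorem mem_cent_tv_odd {y : G} (hyt : Commute y t) (hyv : Commute y v) (ho : Odd (orderOf y)) :
    ∃ i : ℕ, ∃ d ∈ Dsub t w, y = z ^ i * d := by
  obtain ⟨i, d, hd, s, hs, e'⟩ := cent_tv R hyt hyv
  have hcs : Commute (z ^ i * d) s := by
    have h1 : Commute (z ^ i * d) t := ((z_comm_t R).pow_left i).mul_left (d_t hd)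
    have h2 : Commute (z ^ i * d) v := (R.zv.pow_left i).mul_left (d_v R hd)
    rcases hs with rfl | rfl | rfl | rfl
    exacts [Commute.one_right _, h1, h2, h2.mul_right h1]
  have hs2 : s * s = 1 := by
    rcases hs with rfl | rfl | rfl | rfl
    · exact one_mul 1
    · exact t_sq R
    · exact v_sq R
    · rw [mul_assoc, ← mul_assoc t v t, ← R.v_comm.eq, mul_assoc v t t, t_sq R, mul_one, v_sq R]
  have hy : y ∈ Ocore t := mem_ocore R.hA.min (ht R) hyt ho
  have ha : z ^ i * d ∈ Ocore t := mul_mem (pow_mem (z_ocore R) i) (d_le hd)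
  have hs1 : s = 1 := eq_one_of_two_pow (odd_ocore t) (k := 1) (by
    rw [show s = (z ^ i * d)⁻¹ * y by rw [e']; group]
    exact mul_mem (inv_mem ha) hy) (by rw [pow_one, sq, hs2])
  exact ⟨i, d, hd, by rw [e', hs1, mul_one]⟩

/-- a frame -/
theorem exists_frame : ∃ P : Sylow 2 G, Frame P (v * w) w 2 ∧ Nonempty ((P : Subgroup G) ≃* DihedralGroup (2 * 2)) := by
  classical
  haveI : Fact (Nat.Prime 2) := ⟨Nat.prime_two⟩
  have h8 : 8 ∣ Nat.card (centralizer ({t} : Set G)) := R.card ▸ dvd_mul_right 8 _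
  obtain ⟨P₀, σ₀, τ₀, h₀, D₀, hσ₀, -⟩ :=
    R.hA.min.exists_frame (h8.trans (card_subgroup_dvd_card _)) (ht R)
  have hh : h₀ = 2 := by
    have hle : (P₀ : Subgroup G) ≤ centralizer ({t} : Set G) := fun x hx =>
      mem_centralizer_singleton_iff.2 (hσ₀ ▸ D₀.J_comm hx).eq
    have h1 := card_dvd_of_le hle
    obtain ⟨k, hk, rfl⟩ := D₀.pow2
    rw [D₀.card, R.card, show 4 * 2 ^ k = 2 ^ (k + 2) by ring] at h1
    have h2 : 2 ^ (k + 2) ∣ 8 :=
      (Nat.Coprime.pow_left (k + 2) (Nat.coprime_two_left.2 (odd_ocore t))).dvd_of_dvd_mul_right h1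
    have h3 := Nat.le_of_dvd (by norm_num) h2
    have h4 : k < 2 := by
      by_contra hk2
      have : 2 ^ 4 ≤ 2 ^ (k + 2) := Nat.pow_le_pow_right two_pos (by omega)
      omega
    interval_cases k
    norm_num
  subst hh
  have hR : IsPGroup 2 (zpowers (v * w) ⊔ zpowers w : Subgroup G) := by
    refine IsPGroup.to_sup_of_normal_left' ?_ ?_ ?_
    · exact IsPGroup.of_card (n := 2) (by rw [Nat.card_zpowers, sigma_order R]; rfl)
    · exact IsPGroup.of_card (n := 1) (by rw [Nat.card_zpowers, R.w_invol]; rfl)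
    · rw [zpowers_le, mem_normalizer_iff]
      have hmap : ∀ y ∈ zpowers (v * w), w * y * w⁻¹ ∈ zpowers (v * w) := fun y hy => by
        obtain ⟨n, rfl⟩ := mem_zpowers_iff.1 hy
        rw [← conj_zpow, w_sigma R, inv_zpow]
        exact inv_mem (zpow_mem (mem_zpowers _) n)
      refine fun y => ⟨hmap y, fun hy => ?_⟩
      have := hmap _ hy
      rwa [show w * (w * y * w⁻¹) * w⁻¹ = w * w * y * (w * w)⁻¹ by group, w_sq R, one_mul, inv_one, mul_one] at this
  obtain ⟨P, hP⟩ := hR.exists_le_sylow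
  have hσP : v * w ∈ (P : Subgroup G) := hP (mem_sup_left (mem_zpowers _))
  have hwP : w ∈ (P : Subgroup G) := hP (mem_sup_right (mem_zpowers _))
  have hcard : Nat.card (P : Subgroup G) = 8 := by
    rw [Nat.card_congr (Sylow.equiv P P₀).toEquiv, D₀.card]
  have hnz : w ∉ zpowers (v * w) := fun h => w_not R (mem_sup_right h)
  let f : Bool × Fin 4 → (P : Subgroup G) := fun p =>
    ⟨cond p.1 w 1 * (v * w) ^ (p.2 : ℕ), mul_mem (by cases p.1 <;> [exact one_mem _; exact hwP]) (pow_mem hσP _)⟩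
  have hf : Function.Injective f := by
    rintro ⟨b, l⟩ ⟨b', l'⟩ h
    have h' : cond b w 1 * (v * w) ^ (l : ℕ) = cond b' w 1 * (v * w) ^ (l' : ℕ) := congrArg Subtype.val h
    cases b <;> cases b' <;> simp only [cond_false, cond_true, one_mul] at h'
    · rw [pow_inj_mod, sigma_order R] at h'
      obtain rfl : l = l' := Fin.ext (by omega)
      rfl
    · have hh : w = (v * w) ^ (l : ℕ) * ((v * w) ^ (l' : ℕ))⁻¹ := eq_mul_inv_iff_mul_eq.2 h'.symm
      have hm : (v * w) ^ (l : ℕ) * ((v * w) ^ (l' : ℕ))⁻¹ ∈ zpowers (v * w) :=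
        mul_mem (npow_mem_zpowers _ _) (inv_mem (npow_mem_zpowers _ _))
      exact absurd (Eq.subst (motive := fun a => a ∈ zpowers (v * w)) hh.symm hm) hnz
    · have hh : w = (v * w) ^ (l' : ℕ) * ((v * w) ^ (l : ℕ))⁻¹ := eq_mul_inv_iff_mul_eq.2 h'
      have hm : (v * w) ^ (l' : ℕ) * ((v * w) ^ (l : ℕ))⁻¹ ∈ zpowers (v * w) :=
        mul_mem (npow_mem_zpowers _ _) (inv_mem (npow_mem_zpowers _ _))
      exact absurd (Eq.subst (motive := fun a => a ∈ zpowers (v * w)) hh.symm hm) hnz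
    · rw [mul_right_inj, pow_inj_mod, sigma_order R] at h'
      obtain rfl : l = l' := Fin.ext (by omega)
      rfl
  have hbij := (Nat.bijective_iff_injective_and_card f).2 ⟨hf, by
    rw [hcard, Nat.card_prod, Nat.card_eq_fintype_card (α := Bool), Fintype.card_bool, Nat.card_fin]⟩
  refine ⟨P, ⟨⟨1, one_pos, rfl⟩, hσP, hwP, sigma_order R, w_sq R, w_sigma R, hnz, by rw [hcard], fun x hx => ?_⟩, ?_⟩
  · obtain ⟨⟨b, l⟩, e'⟩ := hbij.2 ⟨x, hx⟩
    have e'' : cond b w 1 * (v * w) ^ (l : ℕ) = x := congrArg Subtype.val e'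
    cases b
    · exact ⟨l, Or.inl (by rw [← e'', cond_false, one_mul])⟩
    · exact ⟨l, Or.inr (by rw [← e'', cond_true])⟩
  · obtain ⟨n, hn, ⟨e'⟩⟩ := R.hA.min.dih P
    have hn4 : n = 4 := by
      have := hcard
      rw [Nat.card_congr e'.toEquiv, DihedralGroup.nat_card] at this
      omega
    subst hn4
    exact ⟨e'⟩

/-- an element moving `t` to `v` that centralises `D` and normalises `⟨t, v⟩` -/
theorem exists_mover : ∃ h : G, (∀ d ∈ Dsub t w, Commute h d) ∧ h * t * h⁻¹ = v ∧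
    (h⁻¹ * t * h = v ∨ h⁻¹ * t * h = v * t) := by
  obtain ⟨g, hgd, hgt⟩ := R.fuse_v
  set u := g⁻¹ * t * g with hu
  have huo : orderOf u = 2 := by rw [hu, ← inv_inv g, inv_inv g⁻¹, orderOf_conj', ht R]
  have hut : Commute u t := by
    show g⁻¹ * t * g * t = t * (g⁻¹ * t * g)
    calc g⁻¹ * t * g * t = g⁻¹ * (t * (g * t * g⁻¹)) * g := by group
      _ = g⁻¹ * (g * t * g⁻¹ * t) * g := by rw [hgt, R.v_comm.eq]
      _ = t * (g⁻¹ * t * g) := by group
  have hun : u ≠ t := fun h => R.v_ne (by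
    calc v = g * t * g⁻¹ := hgt.symm
      _ = g * (g⁻¹ * t * g) * g⁻¹ := by rw [← hu, h]
      _ = t := by group)
  have hud : ∀ d ∈ Dsub t w, Commute u d := fun d hd => by
    have h1 := hgd d (d_le hd) (d_w hd)
    exact (h1.inv_left.mul_left (d_t hd).symm).mul_left h1
  have huH : u ∉ Rsub t (v * w) := fun h => by
    obtain ⟨i, x, hx, l, e'⟩ := h_exists R h
    have h2 : u * u = 1 := by rw [← sq, ← huo, pow_orderOf_eq_one]
    have hl : l % 2 = 0 := by
      have hc : u * u = z ^ (i + if Even l then i else 2 * i) * (x * x) * (v * w) ^ (l + l) := by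
        have hzl : (v * w) ^ l * z ^ i * ((v * w) ^ l)⁻¹ = z ^ (if Even l then i else 2 * i) := by
          rw [← conj_pow, sigma_pow_z R]
          split_ifs
          · rfl
          · rw [inv_pow, z_pow_inv R]
        rw [e']
        calc z ^ i * x * (v * w) ^ l * (z ^ i * x * (v * w) ^ l)
            = z ^ i * x * ((v * w) ^ l * z ^ i * ((v * w) ^ l)⁻¹) * ((v * w) ^ l * x) * (v * w) ^ l := by group
          _ = z ^ i * (x * z ^ (if Even l then i else 2 * i)) * ((v * w) ^ l * x) * (v * w) ^ l := by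
            rw [hzl]; group
          _ = _ := by
            rw [((z_central R hx.1).pow_right _).eq, ((k_sigma R hx).pow_left l).eq, pow_add, pow_add]
            group
      rw [h2] at hc
      have := (h_unique R (i := 0) (l := 0) (one_mem _) (mul_mem hx hx)
        (Eq.trans (by simp) hc)).2.2
      omega
    have hev : (v * w) ^ l = 1 ∨ (v * w) ^ l = t := by
      rw [← pow_mod_orderOf, sigma_order R]
      rcases (by omega : l % 4 = 0 ∨ l % 4 = 2) with h4 | h4 <;> rw [h4]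
      · exact Or.inl (pow_zero _)
      · exact Or.inr (sigma_sq R)
    have ho : z ^ i * x ∈ Ocore t := mul_mem (pow_mem (z_ocore R) i) hx.1
    have hot : Commute (z ^ i * x) t := mem_centralizer_singleton_iff.1 (ocore_le t ho)
    rcases hev with h4 | h4 <;> rw [h4] at e'
    · rw [mul_one] at e'
      exact invol_ne_one huo (eq_one_of_two_pow (odd_ocore t) (e' ▸ ho) (k := 1) (by rw [pow_one, sq, h2]))
    · have h1 : z ^ i * x = 1 := eq_one_of_two_pow (odd_ocore t) ho (k := 1) (by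
        rw [pow_one, sq]
        rw [e', show z ^ i * x * t * (z ^ i * x * t) = z ^ i * x * (t * (z ^ i * x)) * t by group, ← hot.eq,
          show z ^ i * x * (z ^ i * x * t) * t = z ^ i * x * (z ^ i * x) * (t * t) by group, t_sq R, mul_one] at h2
        exact h2)
      rw [h1, one_mul] at e'
      exact hun e'
  obtain ⟨i, x, hx, l, e'⟩ := h_exists R ((cover R (mem_centralizer_singleton_iff.2 hut.eq)).resolve_left huH)
  obtain ⟨f, hf, d, hd, rfl⟩ := k_exists R hx
  have hue : u = w * (z ^ i * (f * d) * (v * w) ^ l) := by rw [← e', ← mul_assoc, w_sq R, one_mul]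
  have h2 : u * u = 1 := by rw [← sq, ← huo, pow_orderOf_eq_one]
  have hsq : u * u = z ^ (2 * i + if Even l then i else 2 * i) * (f⁻¹ * (d * f * d⁻¹) * (d * d)) *
      (v * w) ^ (3 * l + l) := by
    have hzl : (v * w) ^ (3 * l) * z ^ i * ((v * w) ^ (3 * l))⁻¹ = z ^ (if Even l then i else 2 * i) := by
      rw [← conj_pow, sigma_pow_z R]
      have hp : Even (3 * l) ↔ Even l := by simp [parity_simps]
      simp only [hp]
      split_ifs
      · rfl
      · rw [inv_pow, z_pow_inv R]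
    have hk1 : w * (f * d) * w⁻¹ = f⁻¹ * d := by
      rw [show w * (f * d) * w⁻¹ = w * f * w⁻¹ * (w * d * w⁻¹) by group, q_inv R R.w_invol R.w_ne R.w_comm hf,
        (d_w hd).symm.eq, mul_inv_cancel_right]
    set a := if Even l then i else 2 * i
    have hza : Commute (f⁻¹ * d) (z ^ a) := (z_central R (mul_mem (inv_mem (q_le R hf)) (d_le hd))).pow_right a
    have hsk : Commute ((v * w) ^ (3 * l)) (f * d) := (k_sigma R (k_of_fd R hf hd)).pow_left _
    rw [hue]
    calc w * (z ^ i * (f * d) * (v * w) ^ l) * (w * (z ^ i * (f * d) * (v * w) ^ l))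
        = w * (z ^ i * (f * d) * (v * w) ^ l) * w⁻¹ * (w * w) * (z ^ i * (f * d) * (v * w) ^ l) := by group
      _ = z ^ (2 * i) * (f⁻¹ * d) * (v * w) ^ (3 * l) * (z ^ i * (f * d) * (v * w) ^ l) := by
        rw [w_sq R, mul_one, conj_w R, hk1]
      _ = z ^ (2 * i) * (f⁻¹ * d * ((v * w) ^ (3 * l) * z ^ i * ((v * w) ^ (3 * l))⁻¹)) *
          ((v * w) ^ (3 * l) * (f * d)) * (v * w) ^ l := by group
      _ = _ := by rw [hzl, hza.eq, hsk.eq, pow_add, pow_add]; group
  rw [h2] at hsq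
  have hd1 : d * d = 1 := by
    obtain ⟨-, h4, -⟩ := h_unique R (i := 0) (l := 0) (one_mem _) (k_of_fd R
      (mul_mem (inv_mem hf) (q_normal (d_t hd) hf)) (mul_mem hd hd))
      (Eq.trans (by simp) hsq)
    exact ((k_unique R (one_mem _) (mul_mem (inv_mem hf) (q_normal (d_t hd) hf)) (one_mem _) (mul_mem hd hd)
      (by rw [one_mul]; exact h4)).2).symm
  have hd0 : d = 1 := eq_one_of_two_pow (odd_ocore t) (d_le hd) (k := 1) (by rw [pow_one, sq, hd1])
  subst hd0
  have hzi : ¬ Even l → z ^ i = 1 := fun hl => by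
    have h4 := (h_unique R (i := 0) (i' := 2 * i + if Even l then i else 2 * i) (l := 0) (l' := 3 * l + l)
      (one_mem _) (one_mem _) (by simpa using hsq)).1
    rw [if_neg hl] at h4
    rw [← pow_mod_orderOf, R.z_order, show i % 3 = 0 by omega, pow_zero]
  -- `z^i f` centralises `D`
  set a := z ^ i * f with ha
  have hue' : u = w * (a * (v * w) ^ l) := by rw [hue, ha, mul_one]
  have had : ∀ y ∈ Dsub t w, Commute a y := fun y hy => by
    have h1 := (d_w hy).symm
    have h3 := ((d_sigma R hy).pow_left l)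
    have h4 := hud y hy
    rw [hue'] at h4
    have h5 := (h1.inv_left.mul_left h4).mul_left h3.inv_left
    rwa [show w⁻¹ * (w * (a * (v * w) ^ l)) * ((v * w) ^ l)⁻¹ = a by group] at h5
  have haO : a ∈ Ocore t := mul_mem (pow_mem (z_ocore R) i) (q_le R hf)
  have hal : Commute ((v * w) ^ l) a := by
    refine Commute.mul_right ?_ ((q_sigma R hf).pow_left l)
    by_cases hl : Even l
    · refine Commute.pow_right ?_ i
      refine mul_inv_eq_iff_eq_mul.1 ?_
      rw [sigma_pow_z R, if_pos hl]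
    · rw [hzi hl]
      exact Commute.one_right _
  have hwa : w * a * w⁻¹ = a⁻¹ := by
    rw [show w * a * w⁻¹ = w * z ^ i * w⁻¹ * (w * f * w⁻¹) by rw [ha]; group, ← conj_pow, R.zw,
      q_inv R R.w_invol R.w_ne R.w_comm hf, inv_pow, ha, mul_inv_rev]
    exact (((z_central R (q_le R hf)).pow_right i).inv_left.inv_right).symm.eq
  obtain ⟨m, hm⟩ := CaseB.orderOf_odd_of_mem (odd_ocore t) haO
  set b := a ^ (m + 1)
  have hb2 : b * b = a := by
    rw [← pow_add, show m + 1 + (m + 1) = orderOf a + 1 by omega, pow_succ, pow_orderOf_eq_one, one_mul]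
  have hbl : Commute ((v * w) ^ l) b := hal.pow_right _
  have hwb : w * b * w⁻¹ = b⁻¹ := by rw [← conj_pow, hwa, inv_pow]
  -- `b` moves `w σ^l` to `u`
  have hconj : b⁻¹ * (w * (v * w) ^ l) * b = u := by
    calc b⁻¹ * (w * (v * w) ^ l) * b = w * (w⁻¹ * b⁻¹ * w) * ((v * w) ^ l * b) := by group
      _ = w * b * (b * (v * w) ^ l) := by
        rw [show w⁻¹ * b⁻¹ * w = b by
          have : w⁻¹ * (w * b * w⁻¹) * w = b := by group
          rw [hwb] at this
          exact this, hbl.eq]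
      _ = u := by rw [hue', ← hb2]; group
  have hbt : Commute b t := Commute.pow_left (mem_centralizer_singleton_iff.1 (ocore_le t haO)) _
  refine ⟨g * b⁻¹, fun y hy => (hgd y (d_le hy) (d_w hy)).mul_left ((had y hy).pow_left _).inv_left, ?_, ?_⟩
  · calc g * b⁻¹ * t * (g * b⁻¹)⁻¹ = g * (b⁻¹ * t * b) * g⁻¹ := by group
      _ = v := by rw [hbt.inv_left.eq, inv_mul_cancel_right, hgt]
  have hval : (g * b⁻¹)⁻¹ * t * (g * b⁻¹) = w * (v * w) ^ l := by
    calc (g * b⁻¹)⁻¹ * t * (g * b⁻¹) = b * (g⁻¹ * t * g) * b⁻¹ := by group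
      _ = b * (b⁻¹ * (w * (v * w) ^ l) * b) * b⁻¹ := by rw [hconj]
      _ = _ := by group
  rw [hval]
  by_cases hl : Even l
  · -- then `z` would lie in `D`
    exfalso
    set h := g * b⁻¹
    have hhd : ∀ y ∈ Dsub t w, Commute h y := fun y hy =>
      (hgd y (d_le hy) (d_w hy)).mul_left ((had y hy).pow_left _).inv_left
    have hht : h⁻¹ * v * h = t := by
      have : h * t * h⁻¹ = v := by
        calc g * b⁻¹ * t * (g * b⁻¹)⁻¹ = g * (b⁻¹ * t * b) * g⁻¹ := by group
          _ = v := by rw [hbt.inv_left.eq, inv_mul_cancel_right, hgt]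
      rw [← this]; group
    have hev : (v * w) ^ l = 1 ∨ (v * w) ^ l = t := by
      rw [← pow_mod_orderOf, sigma_order R]
      obtain ⟨j, rfl⟩ := hl
      rcases (by omega : (j + j) % 4 = 0 ∨ (j + j) % 4 = 2) with h4 | h4 <;> rw [h4]
      · exact Or.inl (pow_zero _)
      · exact Or.inr (sigma_sq R)
    set z' := h⁻¹ * z * h with hz'
    have hmap : ∀ {p q : G}, Commute z p → h⁻¹ * p * h = q → Commute z' q := fun {p q} hc he => by
      rw [← he]
      show h⁻¹ * z * h * (h⁻¹ * p * h) = h⁻¹ * p * h * (h⁻¹ * z * h)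
      calc h⁻¹ * z * h * (h⁻¹ * p * h) = h⁻¹ * (z * p) * h := by group
        _ = h⁻¹ * (p * z) * h := by rw [hc.eq]
        _ = _ := by group
    have hzt : Commute z' t := hmap R.zv hht
    have hzu : Commute z' (w * (v * w) ^ l) := hmap (z_comm_t R) hval
    have hzw : Commute z' w := by
      rcases hev with h4 | h4
      · rwa [h4, mul_one] at hzu
      · rw [h4] at hzu
        have := hzu.mul_right hzt
        rwa [mul_assoc, t_sq R, mul_one] at this
    have hzo : Odd (orderOf z') := by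
      rw [hz', show h⁻¹ * z * h = h⁻¹ * z * (h⁻¹)⁻¹ by group, orderOf_conj', R.z_order]
      decide
    have hzD : z' ∈ Dsub t w := ⟨mem_ocore R.hA.min (ht R) hzt hzo, mem_centralizer_singleton_iff.2 hzw.eq⟩
    have : z = z' := by
      calc z = h * z' * h⁻¹ := by rw [hz']; group
        _ = z' := by rw [(hhd z' hzD).eq, mul_inv_cancel_right]
    have hzw' : Commute z w := this ▸ hzw
    have h5 := R.zw
    rw [hzw'.symm.eq, mul_inv_cancel_right] at h5
    exact z_ne R (eq_one_of_two_pow (odd_ocore t) (z_ocore R) (k := 1) (by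
      rw [pow_one, sq]; nth_rewrite 1 [h5]; exact inv_mul_cancel z))
  · have h4 : w * (v * w) ^ 1 = v * t := by
      rw [pow_one, show w * (v * w) = w * v * w⁻¹ * (w * w) by group, R.wvw, w_sq R, mul_one, R.v_comm.eq]
    rw [← pow_mod_orderOf (v * w) l, sigma_order R]
    rw [Nat.not_even_iff] at hl
    rcases (by omega : l % 4 = 1 ∨ l % 4 = 3) with h5 | h5 <;> rw [h5]
    · exact Or.inr h4
    · refine Or.inl ?_
      rw [show (v * w) ^ 3 = (v * w) ^ 1 * (v * w) ^ 2 from by rw [← pow_add], ← mul_assoc, h4, sigma_sq R,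
        mul_assoc, t_sq R, mul_one]

/-- **separation**: an element of `⟨z⟩ D` fused to an element of `D` lies in `D` -/
theorem mem_dsub_of_isConj {i : ℕ} {d d₀ : G} (hd : d ∈ Dsub t w) (hd₀ : d₀ ∈ Dsub t w)
    (hconj : IsConj d₀ (z ^ i * d)) : z ^ i = 1 := by
  classical
  haveI : Fact (Nat.Prime 2) := ⟨Nat.prime_two⟩
  set y := z ^ i * d with hy
  have hyO : y ∈ Ocore t := mul_mem (pow_mem (z_ocore R) i) (d_le hd)
  have hyt : Commute y t := mem_centralizer_singleton_iff.1 (ocore_le t hyO)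
  have hyv : Commute y v := (R.zv.pow_left i).mul_left (d_v R hd)
  obtain ⟨P, hF, -⟩ := exists_frame R
  obtain ⟨g, hg⟩ := isConj_iff.1 hconj
  set V : Subgroup G := closure ({t, v} : Set G) with hV
  -- a 2-element of `C(y)` outside `V` normalising it
  have hVP : V ≤ (P : Subgroup G) := by
    rw [hV, closure_le]
    rintro x (rfl | rfl)
    · exact sigma_sq R ▸ pow_mem hF.memσ 2
    · have : x = x * w * w := by rw [mul_assoc, w_sq R, mul_one]
      exact this ▸ mul_mem hF.memσ hF.memτ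
  have hVy : V ≤ centralizer ({y} : Set G) := by
    rw [hV, closure_le]
    rintro x (rfl | rfl)
    exacts [mem_centralizer_singleton_iff.2 hyt.symm.eq, mem_centralizer_singleton_iff.2 hyv.symm.eq]
  have hgP : ((g • P : Sylow 2 G) : Subgroup G) ≤ centralizer ({y} : Set G) := by
    rw [Sylow.coe_subgroup_smul]
    rintro _ ⟨p, hp, rfl⟩
    refine mem_centralizer_singleton_iff.2 ?_
    show g * p * g⁻¹ * y = y * (g * p * g⁻¹)
    have hpd : Commute p d₀ := by
      obtain ⟨l, e' | e'⟩ := hF.cases p hp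
      · exact e' ▸ (d_sigma R hd₀).pow_left l
      · exact e' ▸ (d_w hd₀).symm.mul_left ((d_sigma R hd₀).pow_left l)
    rw [← hg]
    calc g * p * g⁻¹ * (g * d₀ * g⁻¹) = g * (p * d₀) * g⁻¹ := by group
      _ = g * (d₀ * p) * g⁻¹ := by rw [hpd.eq]
      _ = g * d₀ * g⁻¹ * (g * p * g⁻¹) := by group
  set C := centralizer ({y} : Set G)
  obtain ⟨S, hS⟩ := (P.2.to_le hVP).comap_subtype (K := C) |>.exists_le_sylow
  set S' := (S : Subgroup C).map C.subtype with hS'
  have hVS : V ≤ S' := by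
    intro x hx
    exact ⟨⟨x, hVy hx⟩, hS (mem_subgroupOf.2 hx), rfl⟩
  have hS'p : IsPGroup 2 S' := S.2.map _
  have hS'C : S' ≤ C := map_subtype_le _
  have hS8 : 8 ∣ Nat.card S' := by
    rw [hS', ← Nat.card_congr ((S : Subgroup C).equivMapOfInjective _ C.subtype_injective).toEquiv]
    refine S.pow_dvd_card_of_pow_dvd_card (n := 3) ?_
    have h1 := card_dvd_of_le hgP
    rw [Nat.card_congr (Sylow.equiv (g • P) P).toEquiv, hF.card] at h1
    exact h1
  have hV4 : Nat.card V ≤ 4 := by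
    have hsub : (V : Set G) ⊆ ({1, t, v, v * t} : Set G) := by
      have hclo : ∀ x ∈ V, x = 1 ∨ x = t ∨ x = v ∨ x = v * t := by
        intro x hx
        have hinvc : Commute x t ∧ Commute x v := by
          have h1 : V ≤ centralizer ({t} : Set G) ⊓ centralizer ({v} : Set G) := by
            rw [hV, closure_le]
            rintro x (rfl | rfl)
            · exact ⟨mem_centralizer_singleton_iff.2 rfl, mem_centralizer_singleton_iff.2 R.v_comm.symm.eq⟩
            · exact ⟨mem_centralizer_singleton_iff.2 R.v_comm.eq, mem_centralizer_singleton_iff.2 rfl⟩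
          exact ⟨mem_centralizer_singleton_iff.1 (h1 hx).1, mem_centralizer_singleton_iff.1 (h1 hx).2⟩
        obtain ⟨j, d', hd', s, hs, e'⟩ := cent_tv R hinvc.1 hinvc.2
        have hone : z ^ j * d' = 1 := by
          obtain ⟨k, hk⟩ := P.2 ⟨x, hVP hx⟩
          have hk' : x ^ 2 ^ k = 1 := congrArg Subtype.val hk
          have hsx : x * s⁻¹ = z ^ j * d' := by rw [e']; group
          have hsP : s ∈ (P : Subgroup G) := by
            have htP : t ∈ (P : Subgroup G) := sigma_sq R ▸ pow_mem hF.memσ 2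
            have hvP : v ∈ (P : Subgroup G) := hVP (subset_closure (Set.mem_insert_of_mem _ rfl))
            rcases hs with rfl | rfl | rfl | rfl
            exacts [one_mem _, htP, hvP, mul_mem hvP htP]
          obtain ⟨k', hk''⟩ := P.2 ⟨x * s⁻¹, mul_mem (hVP hx) (inv_mem hsP)⟩
          exact eq_one_of_two_pow (odd_ocore t) (mul_mem (pow_mem (z_ocore R) j) (d_le hd')) (k := k')
            (hsx ▸ congrArg Subtype.val hk'')
        rw [hone, one_mul] at e'
        exact e' ▸ hs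
      intro x hx
      simpa using hclo x hx
    classical
    calc Nat.card V ≤ Set.ncard ({1, t, v, v * t} : Set G) := by
          rw [← SetLike.coe_sort_coe, Nat.card_coe_set_eq]
          exact Set.ncard_le_ncard hsub (Set.toFinite _)
      _ ≤ 4 := by
        refine (Set.ncard_insert_le _ _).trans ?_
        have h1 := Set.ncard_insert_le t ({v, v * t} : Set G)
        have h2 := Set.ncard_insert_le v ({v * t} : Set G)
        rw [Set.ncard_singleton] at h2
        omega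
  have hlt : V.subgroupOf S' < ⊤ := by
    refine lt_top_iff_ne_top.2 fun h => ?_
    have : S' ≤ V := subgroupOf_eq_top.1 h
    have h1 := Nat.le_of_dvd Nat.card_pos (hS8.trans (card_dvd_of_le this))
    omega
  haveI := hS'p.isNilpotent
  obtain ⟨⟨x, hxS⟩, hxn, hxV⟩ := SetLike.exists_of_lt (Group.normalizerCondition_of_isNilpotent (V.subgroupOf S') hlt)
  have hxy : Commute x y := mem_centralizer_singleton_iff.1 (hS'C hxS)
  have hnV : ∀ p ∈ V, x * p * x⁻¹ ∈ V := fun p hp =>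
    mem_subgroupOf.1 ((mem_normalizer_iff.1 hxn ⟨p, hVS hp⟩).1 (mem_subgroupOf.2 hp))
  have hxV' : x ∉ V := fun h => hxV (mem_subgroupOf.2 h)
  -- the fixed involution is `t`
  have caseT : ∀ x y : G, ∀ j : ℕ, ∀ d' ∈ Dsub t w, y = z ^ j * d' → Commute x y → Commute x t →
      x * v * x⁻¹ = v * t → z ^ j = 1 := by
    intro x y j d' hd' hy hxy hxt hxv
    have hg : Commute (w * x) v := by
      refine mul_inv_eq_iff_eq_mul.1 ?_
      calc w * x * v * (w * x)⁻¹ = w * (x * v * x⁻¹) * w⁻¹ := by group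
        _ = w * v * w⁻¹ * (w * t * w⁻¹) := by rw [hxv]; group
        _ = v := by
          rw [R.wvw, R.w_comm.eq, mul_inv_cancel_right, mul_assoc, R.v_comm.eq, ← mul_assoc, t_sq R, one_mul]
    obtain ⟨k, d'', hd'', s, hs, e'⟩ := cent_tv R (R.w_comm.mul_left hxt) hg
    have hgz : Commute (w * x) z := by
      rw [e']
      refine ((Commute.pow_self z k).mul_left (z_central R (d_le hd''))).mul_left ?_
      rcases hs with rfl | rfl | rfl | rfl
      exacts [Commute.one_left z, (z_comm_t R).symm, R.zv.symm, R.zv.symm.mul_left (z_comm_t R).symm]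
    have hxz : x * z * x⁻¹ = z⁻¹ := by
      calc x * z * x⁻¹ = w⁻¹ * (w * x * z * (w * x)⁻¹) * w := by group
        _ = w⁻¹ * z * w := by rw [hgz.eq, mul_inv_cancel_right]
        _ = w * z * w⁻¹ := by rw [w_inv R]
        _ = z⁻¹ := R.zw
    have h1 : x * y * x⁻¹ = y := by rw [hxy.eq, mul_inv_cancel_right]
    rw [hy, show x * (z ^ j * d') * x⁻¹ = x * z ^ j * x⁻¹ * (x * d' * x⁻¹) by group, ← conj_pow, hxz, inv_pow,
      z_pow_inv R] at h1
    have hdk : d' ∈ Ksub t v w := by simpa using k_of_fd R (one_mem (Qsub t)) hd'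
    obtain ⟨h2, -, -⟩ := h_unique R (i := 2 * j) (i' := j) (l := 0) (l' := 0) (k_normal R hxt hdk) hdk
      (by rw [pow_zero, mul_one, mul_one]; exact h1)
    rw [← pow_mod_orderOf, R.z_order, show j % 3 = 0 by omega, pow_zero]
  have htV : t ∈ V := subset_closure (Set.mem_insert _ _)
  have hvV : v ∈ V := subset_closure (Set.mem_insert_of_mem _ rfl)
  have hmemV : ∀ p ∈ V, orderOf p = 2 → p = t ∨ p = v ∨ p = v * t := by
    intro p hp hpo
    have hc : Commute p t ∧ Commute p v := by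
      have h1 : V ≤ centralizer ({t} : Set G) ⊓ centralizer ({v} : Set G) := by
        rw [hV, closure_le]
        rintro x (rfl | rfl)
        · exact ⟨mem_centralizer_singleton_iff.2 rfl, mem_centralizer_singleton_iff.2 R.v_comm.symm.eq⟩
        · exact ⟨mem_centralizer_singleton_iff.2 R.v_comm.eq, mem_centralizer_singleton_iff.2 rfl⟩
      exact ⟨mem_centralizer_singleton_iff.1 (h1 hp).1, mem_centralizer_singleton_iff.1 (h1 hp).2⟩
    obtain ⟨j, d', hd', s, hs, e'⟩ := cent_tv R hc.1 hc.2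
    have ha : z ^ j * d' ∈ Ocore t := mul_mem (pow_mem (z_ocore R) j) (d_le hd')
    have hcs : Commute (z ^ j * d') s := by
      have h1 : Commute (z ^ j * d') t := ((z_comm_t R).pow_left j).mul_left (d_t hd')
      have h2 : Commute (z ^ j * d') v := (R.zv.pow_left j).mul_left (d_v R hd')
      rcases hs with rfl | rfl | rfl | rfl
      exacts [Commute.one_right _, h1, h2, h2.mul_right h1]
    have hs2 : s ^ 2 = 1 := by
      rcases hs with rfl | rfl | rfl | rfl
      · exact one_pow 2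
      · rw [sq, t_sq R]
      · rw [sq, v_sq R]
      · rw [Commute.mul_pow R.v_comm, sq, sq, t_sq R, v_sq R, one_mul]
    have h1 : z ^ j * d' = 1 := eq_one_of_two_pow (odd_ocore t) ha (k := 1) (by
      rw [pow_one, show z ^ j * d' = p * s⁻¹ by rw [e']; group]
      have hps : Commute p s⁻¹ := by rw [e']; exact (hcs.mul_left (Commute.refl s)).inv_right
      rw [hps.mul_pow, inv_pow, hs2, inv_one, mul_one, ← hpo, pow_orderOf_eq_one])
    rw [h1, one_mul] at e'
    rcases hs with rfl | rfl | rfl | rfl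
    · exact absurd e' (invol_ne_one hpo)
    · exact Or.inl e'
    · exact Or.inr (Or.inl e')
    · exact Or.inr (Or.inr e')
  have hvt_o : orderOf (v * t) = 2 := invol_mul_of_commute R.v_invol (ht R) R.v_ne R.v_comm
  have hmoves : ∀ {p : G}, p ∈ V → orderOf p = 2 → x * p * x⁻¹ = t ∨ x * p * x⁻¹ = v ∨ x * p * x⁻¹ = v * t :=
    fun {p} hp hpo => hmemV _ (hnV p hp) (by rw [orderOf_conj', hpo])
  have hxnc : ¬ (Commute x t ∧ Commute x v) := fun hc => by
    obtain ⟨j, d', hd', s, hs, e'⟩ := cent_tv R hc.1 hc.2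
    have hsV : s ∈ V := by
      rcases hs with rfl | rfl | rfl | rfl
      exacts [one_mem _, htV, hvV, mul_mem hvV htV]
    have ha : z ^ j * d' ∈ Ocore t := mul_mem (pow_mem (z_ocore R) j) (d_le hd')
    obtain ⟨k', hk'⟩ := hS'p ⟨x * s⁻¹, mul_mem hxS (inv_mem (hVS hsV))⟩
    have h1 : z ^ j * d' = 1 := eq_one_of_two_pow (odd_ocore t) ha (k := k') (by
      rw [show z ^ j * d' = x * s⁻¹ by rw [e']; group]
      exact congrArg Subtype.val hk')
    rw [h1, one_mul] at e'
    exact hxV' (e' ▸ hsV)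
  -- conjugating a configuration
  have caseV : ∀ x y : G, ∀ j : ℕ, ∀ d' ∈ Dsub t w, y = z ^ j * d' → Commute x y → Commute x v →
      x * t * x⁻¹ = v * t → z ^ j = 1 := by
    intro x y j d' hd' hy hxy hxv hxt
    obtain ⟨h, hhd, hht, hhv⟩ := exists_mover R
    have hv' : h⁻¹ * v * h = t := by rw [← hht]; group
    set y' := h⁻¹ * y * h with hy'
    set x' := h⁻¹ * x * h with hx'
    have hmap : ∀ {p q p' q' : G}, Commute p q → h⁻¹ * p * h = p' → h⁻¹ * q * h = q' → Commute p' q' := by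
      intro p q p' q' hc h1 h2
      rw [← h1, ← h2]
      show h⁻¹ * p * h * (h⁻¹ * q * h) = h⁻¹ * q * h * (h⁻¹ * p * h)
      calc h⁻¹ * p * h * (h⁻¹ * q * h) = h⁻¹ * (p * q) * h := by group
        _ = h⁻¹ * (q * p) * h := by rw [hc.eq]
        _ = _ := by group
    have hyt : Commute y t := by rw [hy]; exact ((z_comm_t R).pow_left j).mul_left (d_t hd')
    have hyv : Commute y v := by rw [hy]; exact (R.zv.pow_left j).mul_left (d_v R hd')
    have hy't : Commute y' t := hmap hyv rfl hv'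
    have hy'v : Commute y' v := by
      rcases hhv with h1 | h1
      · exact hmap hyt rfl h1
      · have := (hmap hyt rfl h1).mul_right hy't
        rwa [mul_assoc v t t, t_sq R, mul_one] at this
    have hyo : Odd (orderOf y') := by
      rw [hy', show h⁻¹ * y * h = h⁻¹ * y * (h⁻¹)⁻¹ by group, orderOf_conj', hy]
      exact CaseB.orderOf_odd_of_mem (odd_ocore t) (mul_mem (pow_mem (z_ocore R) j) (d_le hd'))
    obtain ⟨k, d'', hd'', e'⟩ := mem_cent_tv_odd R hy't hy'v hyo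
    have hx't : Commute x' t := hmap hxv rfl hv'
    have hx'v : x' * v * x'⁻¹ = v * t := by
      have e1 : x' * (h⁻¹ * t * h) * x'⁻¹ = h⁻¹ * (x * t * x⁻¹) * h := by rw [hx']; group
      rw [hxt, show h⁻¹ * (v * t) * h = h⁻¹ * v * h * (h⁻¹ * t * h) by group, hv'] at e1
      rcases hhv with h1 | h1 <;> rw [h1] at e1
      · rwa [← R.v_comm.eq] at e1
      · have h2 : x' * (v * t) * x'⁻¹ = x' * v * x'⁻¹ * t := by
          rw [show x' * (v * t) * x'⁻¹ = x' * v * x'⁻¹ * (x' * t * x'⁻¹) by group, hx't.eq, mul_inv_cancel_right]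
        rw [h2] at e1
        calc x' * v * x'⁻¹ = x' * v * x'⁻¹ * t * t := by rw [mul_assoc _ t t, t_sq R, mul_one]
          _ = t * (v * t) * t := by rw [e1]
          _ = v * t := by rw [mul_assoc, mul_assoc v t t, t_sq R, mul_one, R.v_comm.eq]
    have h1 := caseT x' y' k d'' hd'' e' (hmap hxy rfl rfl) hx't hx'v
    rw [h1, one_mul] at e'
    have h3 : y = y' := by
      calc y = h * y' * h⁻¹ := by rw [hy']; group
        _ = y' := by rw [e', (hhd d'' hd'').eq, mul_inv_cancel_right]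
    have hdk : ∀ {a : G}, a ∈ Dsub t w → a ∈ Ksub t v w := fun {a} ha => by
      simpa using k_of_fd R (one_mem (Qsub t)) ha
    obtain ⟨h4, -, -⟩ := h_unique R (i := j) (i' := 0) (l := 0) (l' := 0) (hdk hd') (hdk hd'') (by
      rw [pow_zero, mul_one, pow_zero, one_mul, mul_one, ← hy, ← e']; exact h3)
    rw [← pow_mod_orderOf, R.z_order, h4, pow_zero]
  have hne1 : t ≠ v * t := fun h => invol_ne_one R.v_invol (mul_eq_right.1 h.symm)
  have hvtv : v * t * v⁻¹ = t := by rw [R.v_comm.eq, mul_inv_cancel_right]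
  have hconj_t : x * v * x⁻¹ * (x * t * x⁻¹) = x * (v * t) * x⁻¹ := by group
  rcases hmoves htV (ht R) with h1 | h1 | h1
  · -- fixes `t`
    have hxt : Commute x t := mul_inv_eq_iff_eq_mul.1 h1
    rcases hmoves hvV R.v_invol with h2 | h2 | h2
    · exact absurd ((MulAut.conj x).injective (show MulAut.conj x v = MulAut.conj x t from h2.trans h1.symm)) R.v_ne
    · exact absurd ⟨hxt, mul_inv_eq_iff_eq_mul.1 h2⟩ hxnc
    · exact caseT x y i d hd hy hxy hxt h2
  · -- `t ↦ v`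
    rcases hmoves hvV R.v_invol with h2 | h2 | h2
    · -- fixes `v t`: conjugate by `w`
      have hwt : w * t * w⁻¹ = t := by rw [R.w_comm.eq, mul_inv_cancel_right]
      have hwvt : w * (v * t) * w⁻¹ = v := by
        rw [show w * (v * t) * w⁻¹ = w * v * w⁻¹ * (w * t * w⁻¹) by group, R.wvw, hwt, mul_assoc, R.v_comm.eq,
          ← mul_assoc, t_sq R, one_mul]
      have h3 : x * (v * t) * x⁻¹ = v * t := by rw [← hconj_t, h2, h1]; exact R.v_comm.symm.eq
      have hxv : Commute (w * x * w⁻¹) v := by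
        refine mul_inv_eq_iff_eq_mul.1 ?_
        calc w * x * w⁻¹ * v * (w * x * w⁻¹)⁻¹ = w * (x * (w⁻¹ * v * w) * x⁻¹) * w⁻¹ := by group
          _ = w * (x * (v * t) * x⁻¹) * w⁻¹ := by
            rw [show w⁻¹ * v * w = v * t by rw [w_inv R]; nth_rewrite 2 [← w_inv R]; rw [R.wvw, R.v_comm.eq]]
          _ = v := by rw [h3, hwvt]
      have hxt2 : w * x * w⁻¹ * t * (w * x * w⁻¹)⁻¹ = v * t := by
        calc w * x * w⁻¹ * t * (w * x * w⁻¹)⁻¹ = w * (x * (w⁻¹ * t * w) * x⁻¹) * w⁻¹ := by group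
          _ = w * v * w⁻¹ := by rw [R.w_comm.inv_left.eq, inv_mul_cancel_right, h1]
          _ = v * t := by rw [R.wvw, R.v_comm.eq]
      have hyw : w * y * w⁻¹ = z ^ (2 * i) * d := by
        rw [hy, show w * (z ^ i * d) * w⁻¹ = w * z ^ i * w⁻¹ * (w * d * w⁻¹) by group, ← conj_pow, R.zw, inv_pow,
          z_pow_inv R, (d_w hd).symm.eq, mul_inv_cancel_right]
      have h4 := caseV (w * x * w⁻¹) (w * y * w⁻¹) (2 * i) d hd hyw (by
        show w * x * w⁻¹ * (w * y * w⁻¹) = w * y * w⁻¹ * (w * x * w⁻¹)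
        calc w * x * w⁻¹ * (w * y * w⁻¹) = w * (x * y) * w⁻¹ := by group
          _ = w * (y * x) * w⁻¹ := by rw [hxy.eq]
          _ = _ := by group) hxv hxt2
      rwa [← z_pow_inv R, inv_eq_one] at h4
    · exact absurd ((MulAut.conj x).injective (show MulAut.conj x v = MulAut.conj x t from h2.trans h1.symm)) R.v_ne
    · -- a three cycle cannot come from a 2-element
      exfalso
      obtain ⟨k, hk⟩ := hS'p ⟨x, hxS⟩
      have hk' : x ^ 2 ^ k = 1 := congrArg Subtype.val hk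
      have h3 : x * (v * t) * x⁻¹ = t := by rw [← hconj_t, h2, h1, R.v_comm.eq, mul_assoc, v_sq R, mul_one]
      have hcube : Commute (x ^ 3) t := by
        refine mul_inv_eq_iff_eq_mul.1 ?_
        calc x ^ 3 * t * (x ^ 3)⁻¹ = x * (x * (x * t * x⁻¹) * x⁻¹) * x⁻¹ := by rw [pow_succ, pow_succ, pow_one]; group
          _ = t := by rw [h1, h2, h3]
      have h4 : Commute x t := comm_of_cube hk' hcube
      rw [h4.eq, mul_inv_cancel_right] at h1
      exact R.v_ne h1.symm
  · -- `t ↦ v t`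
    rcases hmoves hvV R.v_invol with h2 | h2 | h2
    · exfalso
      obtain ⟨k, hk⟩ := hS'p ⟨x, hxS⟩
      have hk' : x ^ 2 ^ k = 1 := congrArg Subtype.val hk
      have h3 : x * (v * t) * x⁻¹ = v := by
        rw [← hconj_t, h2, h1, ← mul_assoc, ← R.v_comm.eq, mul_assoc, t_sq R, mul_one]
      have hcube : Commute (x ^ 3) t := by
        refine mul_inv_eq_iff_eq_mul.1 ?_
        calc x ^ 3 * t * (x ^ 3)⁻¹ = x * (x * (x * t * x⁻¹) * x⁻¹) * x⁻¹ := by rw [pow_succ, pow_succ, pow_one]; group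
          _ = t := by rw [h1, h3, h2]
      have h4 : Commute x t := comm_of_cube hk' hcube
      rw [h4.eq, mul_inv_cancel_right] at h1
      exact hne1 h1
    · exact caseV x y i d hd hy hxy (mul_inv_eq_iff_eq_mul.1 h2) h1
    · exact absurd ((MulAut.conj x).injective (show MulAut.conj x v = MulAut.conj x t from h2.trans h1.symm)) R.v_ne

end CfsgLib.GW.CaseA.Mixed.Kill
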