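import Cfsg.Agent.Lib.GW.CaseA.Mixed.Kill.Tests
import Cfsg.Agent.Lib.GW.CaseA.Inverted.Combinatorics

/-!
# Case A, residual configuration: the three constituents

For a linear character `θ` of `D` the difference of two twists of `θ` has three constituents.  There only the
`κ(i, θ)` contribute to the value at `t`, and the squares of these values sum to at most 14.
-/

set_option autoImplicit false
set_option linter.unusedSectionVars false
set_option linter.style.haveILetI false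

open Subgroup
open scoped ComplexConjugate Classical

namespace CfsgLib.GW.CaseA.Mixed.Kill

open Cfsg CfsgLib.Char CfsgLib.Invol CfsgLib.GW.CaseA.Inverted

universe u

section Comb

variable {ι : Type*} [Fintype ι] {A B f : ι → ℤ}

/-- vanishing on the support of a vector of norm three -/
theorem zero_on_supp (hA : ∑ i, A i ^ 2 = 3) (hB : ∀ i, -1 ≤ B i ∧ B i ≤ 1) (hAB : ∑ i, A i * B i = 2)
    (h0 : ∀ i, A i ≠ 0 → B i ≠ 0 → f i = 0) (ho : ∑ i, A i * f i = 0) {i : ι} (hi : A i ≠ 0) : f i = 0 := by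
  by_contra hne
  have hBi : B i = 0 := by_contra fun hb => hne (h0 i hi hb)
  rw [Finset.sum_eq_single i (fun j _ hj => ?_) (fun e' => absurd (Finset.mem_univ i) e')] at ho
  · exact mul_ne_zero hi hne ho
  · by_cases hAj : A j = 0
    · rw [hAj, zero_mul]
    · rw [h0 j hAj (fun hb => hj (unique_zero hA hB hAB hAj hi hb hBi)), mul_zero]

theorem mul_le_one (hA : ∑ i, A i ^ 2 = 3) (hB : ∀ i, -1 ≤ B i ∧ B i ≤ 1) (i : ι) : A i * B i ≤ 1 := by
  obtain ⟨h1, h2⟩ := abs_le_one_of_norm_three hA i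
  obtain ⟨h3, h4⟩ := hB i
  obtain e' | e' | e' : A i = -1 ∨ A i = 0 ∨ A i = 1 := by omega
  all_goals rw [e']; omega

/-- the sum of the squares of `2 A - B + 2 γ` on the support of `A` -/
theorem sum_val_le (hA : ∑ i, A i ^ 2 = 3) (hB : ∀ i, -1 ≤ B i ∧ B i ≤ 1) (hAB : ∑ i, A i * B i = 2)
    {γ : ι → ℤ} (hγ : ∀ i, -1 ≤ γ i ∧ γ i ≤ 1) (ho : ∑ i, A i * γ i = 0)
    (h0 : ∀ i, A i ≠ 0 → B i = 0 → γ i = 0) :
    ∑ i, (if A i = 0 then 0 else (2 * A i - B i + 2 * γ i) ^ 2) ≤ 14 := by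
  obtain ⟨U, V, W, hUV, hUW, hVW, hT⟩ := support_three hA
  have S := sum_support_three hUV hUW hVW hT
  rw [S _ fun i hi => by rw [hi, zero_mul]] at hAB
  rw [S _ fun i hi => by rw [hi, zero_mul]] at ho
  rw [S _ fun i hi => if_pos hi]
  have key : ∀ i, A i ≠ 0 → ∃ a b : ℤ, A i * γ i = a ∧ A i * B i = b ∧ -1 ≤ a ∧ a ≤ 1 ∧ b ≤ 1 ∧ (b = 0 → a = 0) ∧
      (2 * A i - B i + 2 * γ i) ^ 2 = (2 - b + 2 * a) ^ 2 := by
    intro i hi
    have hb := mul_le_one hA hB i
    obtain ⟨h1, h2⟩ := abs_le_one_of_norm_three hA i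
    obtain ⟨h5, h6⟩ := hγ i
    refine ⟨_, _, rfl, rfl, ?_, ?_, hb, fun h => ?_, ?_⟩
    · obtain e' | e' : A i = -1 ∨ A i = 1 := by omega
      all_goals rw [e']; omega
    · obtain e' | e' : A i = -1 ∨ A i = 1 := by omega
      all_goals rw [e']; omega
    · rw [h0 i hi ((mul_eq_zero.1 h).resolve_left hi), mul_zero]
    · obtain e' | e' : A i = -1 ∨ A i = 1 := by omega
      all_goals rw [e']; ring
  have hU : A U ≠ 0 := (hT U).2 (Or.inl rfl)
  have hV : A V ≠ 0 := (hT V).2 (Or.inr (Or.inl rfl))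
  have hW : A W ≠ 0 := (hT W).2 (Or.inr (Or.inr rfl))
  rw [if_neg hU, if_neg hV, if_neg hW]
  obtain ⟨a, b, ea, eb, a1, a2, b1, z1, q1⟩ := key U hU
  obtain ⟨a', b', ea', eb', a1', a2', b1', z1', q1'⟩ := key V hV
  obtain ⟨a'', b'', ea'', eb'', a1'', a2'', b1'', z1'', q1''⟩ := key W hW
  rw [ea, ea', ea''] at ho
  rw [eb, eb', eb''] at hAB
  rw [q1, q1', q1'']
  have hb0 : 0 ≤ b := by omega
  have hb0' : 0 ≤ b' := by omega
  have hb0'' : 0 ≤ b'' := by omega
  interval_cases b <;> interval_cases b' <;> interval_cases b'' <;>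
    first
    | omega
    | (interval_cases a <;> interval_cases a' <;> interval_cases a'' <;> first | omega | norm_num)

end Comb

variable {G : Type u} [Group G] [Finite G] {t v w z c e : G} (R : Residual t v w z c e)
include R

theorem tw_eq_iff' (a b : IrrCharacter (Ksub t v w)) {i k : ℕ} (hi : i < 4) (hk : k < 4) :
    (rot R).tw (inflH R a) i = (rot R).tw (inflH R b) k ↔ a = b ∧ i = k :=
  ⟨fun h => by
    obtain ⟨h1, h2⟩ := (rot R).tw_inj (order_lam_sigH R) (inflH_base R a) (inflH_base R b) hi hk h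
    exact ⟨inflH_inj R h1, h2⟩, fun h => by rw [h.1, h.2]⟩

variable [Fintype G] [Fintype (Rsub t (v * w))]

theorem tc_tw' (a : IrrCharacter (Ksub t v w)) {k : ℕ} (hk : k ≤ 4) :
    (rot R).tc ((rot R).tw (inflH R a) k) = (rot R).tw (inflH R (aW R a)) ((4 - k) % 4) := by
  rw [(rot R).tc_tw _ hk, tc_inflH, ← (rot R).tw_mod]

theorem mult_three {a : IrrCharacter (Ksub t v w)} (ha : aW R a = a) (χ : IrrCharacter G) :
    (rot R).mult χ ((rot R).tw (inflH R a) 3) = (rot R).mult χ ((rot R).tw (inflH R a) 1) := by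
  rw [← (rot R).mult_tc χ ((rot R).tw (inflH R a) 1), tc_tw' R a (by norm_num), ha]

/-- the difference of two twists -/
noncomputable def dd (a : IrrCharacter (Ksub t v w)) (i j : ℕ) (χ : IrrCharacter G) : ℤ :=
  (rot R).dm χ ((rot R).tw (inflH R a) i) ((rot R).tw (inflH R a) j)

variable [Fintype (IrrCharacter G)]

theorem sum_dd (a b : IrrCharacter (Ksub t v w)) {i j k l : ℕ} (hi : i < 4) (hj : j < 4) (hk : k < 4) (hl : l < 4) :
    ∑ χ, dd R a i j χ * dd R b k l χ =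
      (if a = b then (if i = k then 1 else 0) - (if i = l then 1 else 0) - (if j = k then 1 else 0) +
        (if j = l then 1 else 0) else 0) +
      (if a = aW R b then (if i = (4 - k) % 4 then 1 else 0) - (if i = (4 - l) % 4 then 1 else 0) -
        (if j = (4 - k) % 4 then 1 else 0) + (if j = (4 - l) % 4 then 1 else 0) else 0) := by
  simp only [dd]
  rw [(rot R).sum_dm_mul _ _ _ _ (fun x hx => (rot R).tw_van _ i j x hx) (fun x hx => (rot R).tw_van _ k l x hx),
    tc_tw' R b hk.le, tc_tw' R b hl.le]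
  have hk' : (4 - k) % 4 < 4 := Nat.mod_lt _ (by norm_num)
  have hl' : (4 - l) % 4 < 4 := Nat.mod_lt _ (by norm_num)
  simp only [tw_eq_iff' R a b hi hk, tw_eq_iff' R a b hi hl, tw_eq_iff' R a b hj hk, tw_eq_iff' R a b hj hl,
    tw_eq_iff' R a (aW R b) hi hk', tw_eq_iff' R a (aW R b) hi hl', tw_eq_iff' R a (aW R b) hj hk',
    tw_eq_iff' R a (aW R b) hj hl']
  congr 1
  · by_cases h : a = b <;> simp [h]
  · by_cases h : a = aW R b <;> simp [h]

theorem dd_norm_three (η : IrrCharacter (Dsub t w)) : ∑ χ, dd R (inflK R η) 0 1 χ ^ 2 = 3 := by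
  simp only [sq]
  rw [sum_dd R _ _ (by norm_num) (by norm_num) (by norm_num) (by norm_num), aW_inflK, if_pos rfl, if_pos rfl]
  norm_num

theorem dd_norm_four (η : IrrCharacter (Dsub t w)) : ∑ χ, dd R (inflK R η) 0 2 χ ^ 2 = 4 := by
  simp only [sq]
  rw [sum_dd R _ _ (by norm_num) (by norm_num) (by norm_num) (by norm_num), aW_inflK, if_pos rfl, if_pos rfl]
  norm_num

theorem dd_cross (η : IrrCharacter (Dsub t w)) :
    ∑ χ, dd R (inflK R η) 0 1 χ * dd R (inflK R η) 0 2 χ = 2 := by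
  rw [sum_dd R _ _ (by norm_num) (by norm_num) (by norm_num) (by norm_num), aW_inflK, if_pos rfl, if_pos rfl]
  norm_num

theorem dd_orth {a : IrrCharacter (Ksub t v w)} {θ : IrrCharacter (Dsub t w)} (h : a ≠ inflK R θ) {k : ℕ}
    (hk : k < 4) : ∑ χ, dd R (inflK R θ) 0 1 χ * dd R a 0 k χ = 0 := by
  rw [sum_dd R _ _ (by norm_num) (by norm_num) (by norm_num) hk, if_neg (Ne.symm h), if_neg, add_zero]
  intro h'
  exact h (by rw [← aW_aW R a, ← h', aW_inflK])

theorem dd_bound (η : IrrCharacter (Dsub t w)) (χ : IrrCharacter G) :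
    -1 ≤ dd R (inflK R η) 0 2 χ ∧ dd R (inflK R η) 0 2 χ ≤ 1 := by
  refine abs_le_one_of_norm_four (dd_norm_four R η) (d := fun χ => (charDegree (χ : G → ℂ) : ℤ))
    (fun χ => by exact_mod_cast Nat.pos_of_ne_zero (CfsgLib.Block.charDegree_eq χ).2) ?_ χ
  have h0 := (rot R).sum_dm_degree _ _ ((rot R).tw_van (inflH R (inflK R η)) 0 2)
  simp only [(CfsgLib.Block.charDegree_eq _).1] at h0
  simp only [dd]
  exact_mod_cast h0

variable [Fintype (Ocore t)]

theorem ee_inflK (η : IrrCharacter (Dsub t w)) (χ : IrrCharacter G) :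
    ee R χ (kap R 0 (inflK R η)) = 2 * dd R (inflK R η) 0 1 χ - dd R (inflK R η) 0 2 χ ∧
      (Odd (nn R χ (kap R 0 (inflK R η))) ↔ Odd (dd R (inflK R η) 0 2 χ)) := by
  obtain ⟨h1, h2⟩ := nn_zero R χ (inflK R η)
  rw [mult_three R (aW_inflK R η)] at h1 h2
  simp only [dd, Rot.dm]
  refine ⟨by omega, ?_⟩
  rw [Nat.odd_iff, Int.odd_iff]
  omega

theorem gam_bound (η : IrrCharacter (Dsub t w)) (χ : IrrCharacter G) :
    -1 ≤ ee R χ (kap R 1 (inflK R η)) ∧ ee R χ (kap R 1 (inflK R η)) ≤ 1 := by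
  refine abs_le_one_of_norm_four (b := fun χ => ee R χ (kap R 1 (inflK R η)))
    (by rw [sum_ee_sq R, if_pos (aW_inflK R η)]) (d := fun χ => (charDegree (χ : G → ℂ) : ℤ))
    (fun χ => by exact_mod_cast Nat.pos_of_ne_zero (CfsgLib.Block.charDegree_eq χ).2) ?_ χ
  have h0 := sum_ee_degree R (kap R 1 (inflK R η))
  simp only [(CfsgLib.Block.charDegree_eq _).1] at h0
  exact_mod_cast h0

theorem ee_orth (a : IrrCharacter (Ksub t v w)) (θ : IrrCharacter (Dsub t w)) :
    ∑ χ, dd R (inflK R θ) 0 1 χ * ee R χ (kap R 1 a) = 0 := by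
  rw [← sum_ee_dm R a (inflK R θ) 0 1]
  exact Finset.sum_congr rfl fun χ _ => mul_comm _ _

variable {θ : IrrCharacter (Dsub t w)} (hθ1 : (θ : Dsub t w → ℂ) 1 = 1)
include hθ1

theorem odd_deg_theta (i : ℕ) : Odd (charDegree (kap R i (inflK R θ) : Ocore t → ℂ)) := by
  rw [kap_degree]
  exact odd_degree R _

variable {χ : IrrCharacter G} (hχ : dd R (inflK R θ) 0 1 χ ≠ 0)
include hχ

omit hθ1 in
/-- a moved character on the `T`-trivial part -/
theorem moved_zero {a : IrrCharacter (Ksub t v w)} (ha : aW R a ≠ a) :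
    ee R χ (kap R 0 a) = 0 ∧ 4 ∣ nn R χ (kap R 0 a) := by
  have hne : a ≠ inflK R θ := fun h => ha (h ▸ aW_inflK R θ)
  have hvv : ∀ l m : ℕ, 0 < l → 0 < m → l < 4 → m < 4 →
      ∑ ψ : IrrCharacter G, dd R a 0 l ψ * dd R a 0 m ψ = if l = m then 2 else 1 := fun l m hl0 hm0 hl hm => by
    rw [sum_dd R _ _ (by norm_num) hl (by norm_num) hm, if_pos rfl, if_neg (Ne.symm ha), add_zero]
    simp only [if_true, if_neg hl0.ne', if_neg hm0.ne]
    by_cases h : l = m <;> simp [h]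
  have hsq : ∀ l, 0 < l → l < 4 → ∑ ψ, dd R a 0 l ψ ^ 2 = 2 := fun l hl0 hl => by
    simp only [sq, hvv l l hl0 hl0 hl hl, if_true]
  have hall : ∀ i j k : ℕ, 0 < i → i < 4 → 0 < j → j < 4 → 0 < k → k < 4 → i ≠ j → i ≠ k → j ≠ k →
      dd R a 0 i χ = 0 := fun i j k i0 i4 j0 j4 k0 k4 ij ik jk =>
    no_three_roots (dd_norm_three R θ) (hsq i i0 i4) (hsq j j0 j4) (hsq k k0 k4)
      (by rw [hvv i j i0 j0 i4 j4, if_neg ij]) (by rw [hvv i k i0 k0 i4 k4, if_neg ik])
      (by rw [hvv j k j0 k0 j4 k4, if_neg jk]) (dd_orth R hne i4) (dd_orth R hne j4) (dd_orth R hne k4) χ hχ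
  have h1 := hall 1 2 3 (by norm_num) (by norm_num) (by norm_num) (by norm_num) (by norm_num) (by norm_num)
    (by norm_num) (by norm_num) (by norm_num)
  have h2 := hall 2 1 3 (by norm_num) (by norm_num) (by norm_num) (by norm_num) (by norm_num) (by norm_num)
    (by norm_num) (by norm_num) (by norm_num)
  have h3 := hall 3 1 2 (by norm_num) (by norm_num) (by norm_num) (by norm_num) (by norm_num) (by norm_num)
    (by norm_num) (by norm_num) (by norm_num)
  obtain ⟨e1, e2⟩ := nn_zero R χ a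
  simp only [dd, Rot.dm] at h1 h2 h3
  refine ⟨by omega, ⟨(rot R).mult χ ((rot R).tw (inflH R a) 0), ?_⟩⟩
  omega

/-- a moved character on the `T`-nontrivial part -/
theorem moved_one {a : IrrCharacter (Ksub t v w)} (ha : aW R a ≠ a) : ee R χ (kap R 1 a) = 0 := by
  set g : IrrCharacter G → ℤ := fun ψ => ee R ψ (kap R 1 a)
  have hg2 : ∑ ψ, g ψ ^ 2 = 2 := by
    show ∑ ψ, ee R ψ (kap R 1 a) ^ 2 = 2
    rw [sum_ee_sq R, if_neg ha]
  have ho : ∑ ψ, dd R (inflK R θ) 0 1 ψ * g ψ = 0 := ee_orth R a θ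
  have hB0 : ∀ ψ, dd R (inflK R θ) 0 1 ψ ≠ 0 → dd R (inflK R θ) 0 2 ψ ≠ 0 → g ψ = 0 := by
    intro ψ hψ hB
    by_contra hgψ
    have hBo : Odd (dd R (inflK R θ) 0 2 ψ) := by
      have := dd_bound R θ ψ
      rw [Int.odd_iff]
      omega
    have hle : ∀ x, g x ^ 2 ≤ 1 := fun x => by
      have hall : g x ^ 2 ≤ 2 := hg2 ▸ Finset.single_le_sum (fun i _ => sq_nonneg (g i)) (Finset.mem_univ x)
      have : -1 ≤ g x ∧ g x ≤ 1 := by constructor <;> nlinarith
      nlinarith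
    have hgo : Odd (g ψ) := by
      have := hle ψ
      have : -1 ≤ g ψ ∧ g ψ ≤ 1 := by constructor <;> nlinarith
      rw [Int.odd_iff]
      omega
    have key := test_ocore R ((ee_parity R ψ _).2 hgo) ((ee_inflK R θ ψ).2.2 hBo)
      (by rw [kap_degree]; exact odd_degree R a) (odd_deg_theta R hθ1 0)
    have hsum : (4 : ℤ) ≤ 2 := by
      rw [← dd_norm_four R θ, ← hg2]
      refine Finset.sum_le_sum fun x _ => ?_
      by_cases h0 : dd R (inflK R θ) 0 2 x = 0
      · rw [h0]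
        exact le_trans (by norm_num) (sq_nonneg (g x))
      · have hbx := dd_bound R θ x
        have hox : Odd (dd R (inflK R θ) 0 2 x) := by rw [Int.odd_iff]; omega
        have hgx : Odd (g x) := (ee_parity R x _).1 ((key x).2 ((ee_inflK R θ x).2.2 hox))
        have h1 : g x ≠ 0 := fun h => by rw [h] at hgx; norm_num at hgx
        obtain e' | e' : dd R (inflK R θ) 0 2 x = 1 ∨ dd R (inflK R θ) 0 2 x = -1 := by omega
        all_goals
          rw [e']
          have := pow_ne_zero 2 h1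
          have := sq_nonneg (g x)
          omega
    omega
  exact zero_on_supp (dd_norm_three R θ) (dd_bound R θ) (dd_cross R θ) hB0 ho hχ

omit hθ1 hχ in
theorem odd_of_dd {ψ : IrrCharacter G} (hB : dd R (inflK R θ) 0 2 ψ ≠ 0) :
    Odd (nn R ψ (kap R 0 (inflK R θ))) := by
  refine (ee_inflK R θ ψ).2.2 ?_
  have := dd_bound R θ ψ
  rw [Int.odd_iff]
  omega

/-- another character of `D` on the `T`-nontrivial part -/
theorem fixed_one {η : IrrCharacter (Dsub t w)} (hne : η ≠ θ) : ee R χ (kap R 1 (inflK R η)) = 0 := by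
  refine zero_on_supp (f := fun ψ => ee R ψ (kap R 1 (inflK R η))) (dd_norm_three R θ) (dd_bound R θ) (dd_cross R θ)
    (fun ψ _ hB => ?_) (ee_orth R _ θ) hχ
  by_contra h0
  have := gam_bound R η ψ
  refine test_esub R (j := 1) (by norm_num) hθ1 hne ψ ((ee_parity R ψ _).2 ?_) (odd_of_dd R hB)
  rw [Int.odd_iff]
  omega

/-- another character of `D` on the `T`-trivial part -/
theorem fixed_zero {η : IrrCharacter (Dsub t w)} (hne : η ≠ θ) : ee R χ (kap R 0 (inflK R η)) = 0 := by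
  have hne' : inflK R η ≠ inflK R θ := fun h => hne (inflK_inj R h)
  have hb : ∀ ψ, dd R (inflK R θ) 0 1 ψ ≠ 0 → dd R (inflK R η) 0 2 ψ = 0 := fun ψ hψ =>
    zero_on_supp (f := fun ψ => dd R (inflK R η) 0 2 ψ) (dd_norm_three R θ) (dd_bound R θ) (dd_cross R θ)
      (fun ψ _ hB => by
        by_contra h0
        have := dd_bound R η ψ
        refine test_esub R (j := 0) (by norm_num) hθ1 hne ψ ((ee_inflK R η ψ).2.2 ?_) (odd_of_dd R hB)
        rw [Int.odd_iff]
        omega)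
      (dd_orth R hne' (by norm_num)) hψ
  have ha : dd R (inflK R η) 0 1 χ = 0 := by
    by_contra h0
    have hu : ∀ ψ, ψ ≠ χ → dd R (inflK R θ) 0 1 ψ * dd R (inflK R η) 0 1 ψ = 0 := fun ψ hψ => by
      by_contra hp
      obtain ⟨p1, p2⟩ := mul_ne_zero_iff.1 hp
      exact hψ (unique_zero (dd_norm_three R η) (dd_bound R η) (dd_cross R η) p2 h0 (hb ψ p1) (hb χ hχ))
    have h := dd_orth R hne' (k := 1) (by norm_num)
    rw [Finset.sum_eq_single χ (fun ψ _ hψ => hu ψ hψ) (fun h' => absurd (Finset.mem_univ χ) h')] at h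
    exact mul_ne_zero hχ h0 h
  rw [(ee_inflK R η χ).1, ha, hb χ hχ]
  norm_num

/-- `γ` vanishes where the half difference does -/
theorem gam_zero (hB : dd R (inflK R θ) 0 2 χ = 0) : ee R χ (kap R 1 (inflK R θ)) = 0 := by
  by_contra hne
  have hgo : ∀ ψ, ee R ψ (kap R 1 (inflK R θ)) ≠ 0 → Odd (nn R ψ (kap R 1 (inflK R θ))) := fun ψ h => by
    refine (ee_parity R ψ _).2 ?_
    have := gam_bound R θ ψ
    rw [Int.odd_iff]
    omega
  obtain ⟨ψ, hψA, hψB, hψ⟩ : ∃ ψ, dd R (inflK R θ) 0 1 ψ ≠ 0 ∧ dd R (inflK R θ) 0 2 ψ ≠ 0 ∧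
      ee R ψ (kap R 1 (inflK R θ)) ≠ 0 := by
    by_contra! hall
    exact hne (zero_on_supp (f := fun ψ => ee R ψ (kap R 1 (inflK R θ))) (dd_norm_three R θ) (dd_bound R θ)
      (dd_cross R θ) hall (ee_orth R _ θ) hχ)
  have h1 := (test_ocore R (hgo ψ hψ) (odd_of_dd R hψB) (odd_deg_theta R hθ1 1) (odd_deg_theta R hθ1 0) χ).1
    (hgo χ hne)
  have h2 := (ee_inflK R θ χ).2.1 h1
  rw [hB] at h2
  norm_num at h2

/-- the value at `t` -/
theorem value_t : (χ : G → ℂ) t = ((2 * dd R (inflK R θ) 0 1 χ - dd R (inflK R θ) 0 2 χ +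
    2 * ee R χ (kap R 1 (inflK R θ)) : ℤ) : ℂ) := by
  haveI := Fintype.ofFinite (IrrCharacter (Ksub t v w))
  have h := char_expand_to R χ 1
  simp only [OneMemClass.coe_one, mul_one, kap_one] at h
  have hother : ∀ a, a ≠ inflK R θ → ee R χ (kap R 0 a) = 0 ∧ ee R χ (kap R 1 a) = 0 := fun a ha => by
    by_cases hmov : aW R a = a
    · obtain ⟨η, rfl⟩ := exists_inflK R a hmov
      have hne : η ≠ θ := fun h' => ha (by rw [h'])
      exact ⟨fixed_zero R hθ1 hχ hne, fixed_one R hθ1 hχ hne⟩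
    · exact ⟨(moved_zero R hχ hmov).1, moved_one R hθ1 hχ hmov⟩
  rw [Fin.sum_univ_three] at h
  simp only [Fin.val_zero, Fin.val_one, Fin.val_two] at h
  rw [Finset.sum_eq_single (inflK R θ) (fun a _ ha => by rw [(hother a ha).1, Int.cast_zero, zero_mul])
      (fun h' => absurd (Finset.mem_univ _) h'),
    Finset.sum_eq_single (inflK R θ) (fun a _ ha => by rw [(hother a ha).2, Int.cast_zero, zero_mul])
      (fun h' => absurd (Finset.mem_univ _) h'),
    Finset.sum_eq_single (inflK R θ)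
      (fun a _ ha => by rw [(nn_sigma R χ a).2, (hother a ha).2, Int.cast_zero, zero_mul])
      (fun h' => absurd (Finset.mem_univ _) h'),
    (nn_sigma R χ _).2, (ee_inflK R θ χ).1, inflK_apply, map_one, hθ1] at h
  rw [h]
  push_cast
  ring

omit hχ in
/-- the squares of the values at `t` -/
theorem sum_value_le :
    ∑ ψ, (if dd R (inflK R θ) 0 1 ψ = 0 then 0 else (2 * dd R (inflK R θ) 0 1 ψ - dd R (inflK R θ) 0 2 ψ +
      2 * ee R ψ (kap R 1 (inflK R θ))) ^ 2) ≤ 14 :=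
  sum_val_le (dd_norm_three R θ) (dd_bound R θ) (dd_cross R θ) (gam_bound R θ) (ee_orth R _ θ)
    fun _ hA hB => gam_zero R hθ1 hA hB

end CfsgLib.GW.CaseA.Mixed.Kill
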