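import Cfsg.Agent.Lib.GW.CaseA.Mixed.Kill.Chars
import Cfsg.Agent.Lib.GW.CaseA.Mixed.Kill.Parity

/-!
# Case A, residual configuration: the two parity tests

On `O(C(t))` two constituents of odd multiplicity in one irreducible character are of odd multiplicity in the
same irreducible characters; on `E = O ∩ C(v)` two different characters of `D` do not both give constituents of
odd multiplicity.
-/

set_option autoImplicit false
set_option linter.unusedSectionVars false
set_option linter.style.haveILetI false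

open Subgroup
open scoped ComplexConjugate Classical

namespace CfsgLib.GW.CaseA.Mixed.Kill

open Cfsg CfsgLib.Char CfsgLib.Invol CfsgLib.Block.Dihedral CfsgLib.GW.CaseA.Inverted

universe u

variable {G : Type u} [Group G] [Finite G] {t v w z c e : G} (R : Residual t v w z c e)
include R

theorem odd_of_isConj {x k : G} (hx : x ∈ Ocore t) (h : IsConj x k) : Odd (orderOf k) := by
  obtain ⟨g, hg⟩ := isConj_iff.1 h
  rw [← hg, orderOf_conj']
  exact CaseB.orderOf_odd_of_mem (odd_ocore t) hx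

variable [Fintype G] [Fintype (Ocore t)]

/-- **the test on `O`** -/
theorem test_ocore {χ : IrrCharacter G} {κ κ' : IrrCharacter (Ocore t)} (h : Odd (nn R χ κ)) (h' : Odd (nn R χ κ'))
    (hd : Odd (charDegree (κ : Ocore t → ℂ))) (hd' : Odd (charDegree (κ' : Ocore t → ℂ))) (ψ : IrrCharacter G) :
    Odd (nn R ψ κ) ↔ Odd (nn R ψ κ') := by
  have hcomm : ∀ x ∈ Ocore t, Commute t x := fun x hx =>
    (mem_centralizer_singleton_iff.1 (ocore_le t hx) : Commute x t).symm
  have key : ∀ ξ : IrrCharacter (Ocore t), ∑ x : Ocore t, conj ((ψ : G → ℂ) x) * (ξ : Ocore t → ℂ) x =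
      (Nat.card (Ocore t) : ℂ) * (nn R ψ ξ : ℂ) := fun ξ => by
    have h1 := congrArg conj (nn_spec R ψ ξ)
    rw [classInner_conj, map_natCast, classInner, inv_mul_eq_iff_eq_mul₀ card_ne_zero'] at h1
    rw [← h1]
    exact Finset.sum_congr rfl fun x _ => mul_comm _ _
  have hev := parity_test (zpowers t) (Ocore t)
    (IsPGroup.of_card (n := 1) (by rw [Nat.card_zpowers, ht R, pow_one])) (odd_ocore t)
    (fun p hp x hx => by
      obtain ⟨k, rfl⟩ := mem_zpowers_iff.1 hp
      exact (hcomm x hx).zpow_left k)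
    (fun x hx k hk hkP => mem_ocore R.hA.min (ht R) (hkP t (mem_zpowers t)).symm (odd_of_isConj R hx hk))
    χ κ κ' (nn_spec R χ κ) h (nn_spec R χ κ') h' (fun x => conj ((ψ : G → ℂ) x))
    (fun x => by rw [← irr_inv]; exact isCharacter_isIntegral (isCharacter_irr ψ) _)
    (fun x y hxy => by rw [classFun_isConj (isClassFunction_irr ψ) hxy]) (key κ) (key κ')
  rw [Nat.even_add, Nat.even_mul, Nat.even_mul, or_iff_left (Nat.not_even_iff_odd.2 hd'),
    or_iff_left (Nat.not_even_iff_odd.2 hd)] at hev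
  rw [← Nat.not_even_iff_odd, ← Nat.not_even_iff_odd, hev]

/-! ### The test on `E` -/

omit [Fintype G] [Fintype (Ocore t)]

omit R in
/-- `O ∩ C(v)` -/
def Esub (t v : G) : Subgroup G := Ocore t ⊓ centralizer ({v} : Set G)

theorem e_exists {x : G} (hx : x ∈ Esub t v) : ∃ i : ℕ, ∃ d ∈ Dsub t w, x = z ^ i * d :=
  mem_cent_tv_odd R (mem_centralizer_singleton_iff.1 (ocore_le t hx.1)) (mem_centralizer_singleton_iff.1 hx.2)
    (CaseB.orderOf_odd_of_mem (odd_ocore t) hx.1)

theorem e_mem (i : ℕ) {d : G} (hd : d ∈ Dsub t w) : z ^ i * d ∈ Esub t v :=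
  ⟨mul_mem (pow_mem (z_ocore R) i) (d_le hd),
    mem_centralizer_singleton_iff.2 ((R.zv.pow_left i).mul_left (d_v R hd)).eq⟩

/-- `E` in `O` -/
def eincl : Esub t v →* Ocore t := let _ := R; inclusion inf_le_left

/-- the projection of `E` to `D` -/
noncomputable def piE : Esub t v →* Dsub t w := (piD R).comp ((piO R).comp (eincl R))

theorem e_parts {x : Esub t v} {i : ℕ} {d : G} (hd : d ∈ Dsub t w) (h : (x : G) = z ^ i * d) :
    (piE R x : G) = d ∧ (mu R (eincl R x) : ℂ) = om ^ i ∧ piO R (eincl R x) = dincl R ⟨d, hd⟩ := by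
  have h1 : piO R (eincl R x) = dincl R ⟨d, hd⟩ :=
    Subtype.ext (piO_val R (o := eincl R x) (d_mem_k R hd) h)
  refine ⟨?_, mu_val R (o := eincl R x) (d_mem_k R hd) h, h1⟩
  show (piD R (piO R (eincl R x)) : G) = d
  rw [h1, piD_dincl]

theorem exists_etaE (j : ℕ) (η : IrrCharacter (Dsub t w)) :
    ∃ ξ : IrrCharacter (Esub t v), ∀ x, (ξ : Esub t v → ℂ) x =
      (mu R (eincl R x) : ℂ) ^ j * (η : Dsub t w → ℂ) (piE R x) := by
  have hs : Function.Surjective (piE R) := fun d => ⟨⟨z ^ 0 * d, e_mem R 0 d.2⟩,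
    Subtype.ext (e_parts R (x := ⟨z ^ 0 * d, e_mem R 0 d.2⟩) d.2 rfl).1⟩
  obtain ⟨ψ, hψ⟩ := CfsgLib.Block.exists_linear_twist
    ⟨_, isIrrCharacter_comp_surjective η.2 (piE R) hs⟩ (((mu R).comp (eincl R)) ^ j)
  exact ⟨ψ, fun x => by rw [hψ x, MonoidHom.pow_apply, Units.val_pow_eq_pow_val]; rfl⟩

/-- `ω^j η` on `E` -/
noncomputable def etaE (j : ℕ) (η : IrrCharacter (Dsub t w)) : IrrCharacter (Esub t v) := (exists_etaE R j η).choose

theorem etaE_apply (j : ℕ) (η : IrrCharacter (Dsub t w)) (x : Esub t v) :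
    (etaE R j η : Esub t v → ℂ) x = (mu R (eincl R x) : ℂ) ^ j * (η : Dsub t w → ℂ) (piE R x) :=
  (exists_etaE R j η).choose_spec x

theorem etaE_inj {j j' : ℕ} (hj : j < 3) (hj' : j' < 3) {η η' : IrrCharacter (Dsub t w)}
    (h : etaE R j η = etaE R j' η') : j = j' ∧ η = η' := by
  have hv : ∀ (i : ℕ) (d : Dsub t w),
      (om ^ i) ^ j * (η : Dsub t w → ℂ) d = (om ^ i) ^ j' * (η' : Dsub t w → ℂ) d := fun i d => by
    obtain ⟨h1, h2, -⟩ := e_parts R (x := ⟨z ^ i * d, e_mem R i d.2⟩) d.2 rfl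
    have h3 := congrArg (fun ξ : IrrCharacter (Esub t v) => (ξ : Esub t v → ℂ) ⟨z ^ i * d, e_mem R i d.2⟩) h
    simp only [etaE_apply, h2] at h3
    rwa [show piE R ⟨z ^ i * (d : G), e_mem R i d.2⟩ = d from Subtype.ext h1] at h3
  obtain rfl : η = η' := Subtype.ext (funext fun d => by
    have := hv 0 d
    rwa [pow_zero, one_pow, one_pow, one_mul, one_mul] at this)
  refine ⟨om_prim.pow_inj hj hj' ?_, rfl⟩
  have := mul_right_cancel₀ (irr_one_ne_zero η) (hv 1 1)
  rwa [pow_one] at this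

theorem e_bijective : Function.Bijective fun p : Fin 3 × Dsub t w =>
    (⟨z ^ (p.1 : ℕ) * p.2, e_mem R _ p.2.2⟩ : Esub t v) := by
  constructor
  · rintro ⟨i, d⟩ ⟨i', d'⟩ h
    obtain ⟨h1, h2, -⟩ := h_unique R (i := (i : ℕ)) (i' := (i' : ℕ)) (l := 0) (l' := 0) (d_mem_k R d.2)
      (d_mem_k R d'.2) (by rw [pow_zero, mul_one, mul_one]; exact congrArg Subtype.val h)
    obtain rfl : i = i' := Fin.ext (by omega)
    obtain rfl : d = d' := Subtype.ext h2
    rfl
  · intro x
    obtain ⟨i, d, hd, h⟩ := e_exists R x.2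
    refine ⟨(⟨i % 3, Nat.mod_lt _ (by norm_num)⟩, ⟨d, hd⟩), Subtype.ext ?_⟩
    show z ^ (i % 3) * d = (x : G)
    rw [h, ← R.z_order, pow_mod_orderOf]

variable [Fintype G] [Fintype (Ocore t)] [Fintype (Esub t v)]

/-- the multiplicity in `E` has the parity of the one in `O` -/
theorem mult_e_parity {j : ℕ} (hj : j < 3) (η : IrrCharacter (Dsub t w)) (χ : IrrCharacter G) :
    ∃ n : ℕ, classInner (fun x : Esub t v => (χ : G → ℂ) x) (etaE R j η : Esub t v → ℂ) = (n : ℂ) ∧
      (Odd n ↔ Odd (nn R χ (kap R j (inflK R η)))) := by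
  haveI := Fintype.ofFinite (IrrCharacter (Ksub t v w))
  let f : Fin 3 × IrrCharacter (Ksub t v w) → Esub t v → ℂ := fun p x =>
    (kap R p.1 p.2 : Ocore t → ℂ) (eincl R x)
  have hc : ∀ p, ∃ k : ℕ, classInner (f p) (etaE R j η : Esub t v → ℂ) = (k : ℂ) := fun p =>
    classInner_char_irr_nat (isCharacter_comp (isCharacter_irr _) (eincl R)) _
  choose k hk using hc
  let g : Fin 3 × IrrCharacter (Ksub t v w) → ℕ := fun p => nn R χ (kap R p.1 p.2) * k p
  let π : Fin 3 × IrrCharacter (Ksub t v w) → Fin 3 × IrrCharacter (Ksub t v w) := fun p => (p.1, aW R p.2)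
  refine ⟨∑ p, g p, ?_, ?_⟩
  · have e1 : (fun x : Esub t v => (χ : G → ℂ) x) = ∑ p, (nn R χ (kap R p.1 p.2) : ℂ) • f p := by
      funext x
      rw [show (x : G) = (eincl R x : G) from rfl, char_expand_o R, ← Fintype.sum_prod_type']
      simp only [Finset.sum_apply, Pi.smul_apply, smul_eq_mul, f]
    rw [e1, classInner_sum_left]
    push_cast [g]
    exact Finset.sum_congr rfl fun p _ => by rw [classInner_smul_left, hk]
  · set p₀ : Fin 3 × IrrCharacter (Ksub t v w) := (⟨j, hj⟩, inflK R η)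
    have hfE : ∀ (i : Fin 3) (η' : IrrCharacter (Dsub t w)),
        f (i, inflK R η') = (etaE R i η' : Esub t v → ℂ) := fun i η' => funext fun x => by
      simp only [f]
      rw [kap_apply, etaE_apply, inflK_apply]
      rfl
    rw [odd_sum_iff_of_involution π (fun p => by simp only [π, aW_aW]) g (fun p => ?_) {p₀} (fun p hp hne => ?_)
      (fun p hp => by rw [Finset.mem_singleton.1 hp]; simp only [π, p₀, aW_inflK]), Finset.sum_singleton]
    · have h1 : k p₀ = 1 := by
        have h := hk p₀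
        rw [hfE, classInner_irr_self] at h
        exact_mod_cast h.symm
      simp only [g, h1, mul_one]
      rfl
    · have h1 : k (π p) = k p := by
        have h2 : f (π p) = f p := funext fun x => by
          obtain ⟨i, d, hd, h⟩ := e_exists R x.2
          simp only [f, π]
          rw [kap_apply, kap_apply, aW_apply, (e_parts R hd h).2.2, wK_dincl]
        have h3 := hk (π p)
        rw [h2, hk] at h3
        exact_mod_cast h3.symm
      simp only [g, h1]
      rw [show nn R χ (kap R (π p).1 (π p).2) = nn R χ (kap R p.1 p.2) from (nn_aW R χ _ _).1]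
    · obtain ⟨i, a⟩ := p
      obtain ⟨η', rfl⟩ := exists_inflK R a (congrArg Prod.snd hp)
      have h1 : k (i, inflK R η') = 0 := by
        have h := hk (i, inflK R η')
        rw [hfE, classInner_irr_ne fun h' => hne (Finset.mem_singleton.2 ?_)] at h
        · exact_mod_cast h.symm
        · obtain ⟨h2, rfl⟩ := etaE_inj R i.2 hj h'
          exact Prod.ext (Fin.ext h2) rfl
      show Even (_ * k (i, inflK R η'))
      rw [h1, mul_zero]
      exact ⟨0, rfl⟩

omit [Fintype (Esub t v)] in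
/-- **the test on `E`** -/
theorem test_esub {j : ℕ} (hj : j < 3) {η θ : IrrCharacter (Dsub t w)} (hθ1 : (θ : Dsub t w → ℂ) 1 = 1)
    (hne : η ≠ θ) (χ : IrrCharacter G) (h : Odd (nn R χ (kap R j (inflK R η))))
    (h' : Odd (nn R χ (kap R 0 (inflK R θ)))) : False := by
  haveI := Fintype.ofFinite (Esub t v)
  haveI := Fintype.ofFinite (Dsub t w)
  haveI : Fact (Nat.Prime 2) := ⟨Nat.prime_two⟩
  obtain ⟨P, hF, -⟩ := exists_frame R
  set PE : Subgroup G := closure ({t, v} : Set G) with hPE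
  have hPP : PE ≤ (P : Subgroup G) := by
    rw [hPE, closure_le]
    rintro x (rfl | rfl)
    · exact sigma_sq R ▸ pow_mem hF.memσ 2
    · have : x = x * w * w := by rw [mul_assoc, w_sq R, mul_one]
      exact this ▸ mul_mem hF.memσ hF.memτ
  have hPC : ∀ p ∈ PE, ∀ x ∈ Esub t v, Commute p x := fun p hp x hx => by
    have hle : PE ≤ centralizer ({x} : Set G) := by
      rw [hPE, closure_le]
      rintro y (rfl | rfl)
      · exact mem_centralizer_singleton_iff.2 (mem_centralizer_singleton_iff.1 (ocore_le y hx.1)).symm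
      · exact mem_centralizer_singleton_iff.2 (mem_centralizer_singleton_iff.1 hx.2).symm
    exact mem_centralizer_singleton_iff.1 (hle hp)
  have hodd : Odd (Nat.card (Esub t v)) := (odd_ocore t).of_dvd_nat (card_dvd_of_le inf_le_left)
  have hfix : ∀ x ∈ Esub t v, ∀ k : G, IsConj x k → (∀ p ∈ PE, Commute p k) → k ∈ Esub t v := fun x hx k hk hkP =>
    ⟨mem_ocore R.hA.min (ht R) (hkP t (subset_closure (Set.mem_insert _ _))).symm (odd_of_isConj R hx.1 hk),
      mem_centralizer_singleton_iff.2 (hkP v (subset_closure (Set.mem_insert_of_mem _ rfl))).symm.eq⟩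
  let φ : Esub t v → ℂ := fun x =>
    if (mu R (eincl R x) : ℂ) = 1 then 3 * conj ((η : Dsub t w → ℂ) (piE R x)) else 0
  have hφi : ∀ x, IsIntegral ℤ (φ x) := fun x => by
    simp only [φ]
    split_ifs
    · rw [← irr_inv]
      exact (Inverted.isIntegral_natCast 3).mul (isCharacter_isIntegral (isCharacter_irr η) _)
    · exact isIntegral_zero
  have hz1 : ∀ i : ℕ, om ^ i = 1 ↔ z ^ i = 1 := fun i => by
    rw [om_prim.pow_eq_one_iff_dvd, ← orderOf_dvd_iff_pow_eq_one, R.z_order]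
  have hstep : ∀ x y : Esub t v, IsConj (x : G) (y : G) → (mu R (eincl R x) : ℂ) = 1 →
      (mu R (eincl R y) : ℂ) = 1 ∧ (η : Dsub t w → ℂ) (piE R x) = (η : Dsub t w → ℂ) (piE R y) := by
    intro x y hxy hx
    obtain ⟨i, d, hd, hxe⟩ := e_exists R x.2
    obtain ⟨i', d', hd', hye⟩ := e_exists R y.2
    obtain ⟨p1, p2, -⟩ := e_parts R hd hxe
    obtain ⟨q1, q2, -⟩ := e_parts R hd' hye
    have hzi : z ^ i = 1 := (hz1 i).1 (p2 ▸ hx)
    have hxd : (x : G) = d := by rw [hxe, hzi, one_mul]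
    rw [hxd, hye] at hxy
    have hzi' : z ^ i' = 1 := mem_dsub_of_isConj R hd' hd hxy
    rw [hzi', one_mul] at hxy
    refine ⟨q2.trans ((hz1 i').2 hzi'), ?_⟩
    obtain ⟨e', he', hconj⟩ := dsub_fusion R hd hd' hxy
    refine classFun_isConj (isClassFunction_irr η) (isConj_iff.2 ⟨⟨e', he'⟩, Subtype.ext ?_⟩)
    rw [coe_mul, coe_mul, coe_inv, p1, q1]
    exact hconj
  have hφ : ∀ x y : Esub t v, IsConj (x : G) (y : G) → φ x = φ y := fun x y hxy => by
    simp only [φ]
    by_cases hx : (mu R (eincl R x) : ℂ) = 1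
    · obtain ⟨hy, he'⟩ := hstep x y hxy hx
      rw [if_pos hx, if_pos hy, he']
    · by_cases hy : (mu R (eincl R y) : ℂ) = 1
      · exact absurd (hstep y x hxy.symm hy).1 hx
      · rw [if_neg hx, if_neg hy]
  have hsum : ∀ (i : ℕ) (ξ : IrrCharacter (Dsub t w)), ∑ x, φ x * (etaE R i ξ : Esub t v → ℂ) x =
      (Nat.card (Esub t v) : ℂ) * classInner (ξ : Dsub t w → ℂ) (η : Dsub t w → ℂ) := fun i ξ => by
    rw [← Fintype.sum_bijective _ (e_bijective R) _ _ fun _ => rfl, Fintype.sum_prod_type,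
      ← Nat.card_eq_of_bijective _ (e_bijective R), Nat.card_prod, Nat.card_fin, classInner]
    have hval : ∀ (j : Fin 3) (d : Dsub t w), φ ⟨z ^ (j : ℕ) * d, e_mem R _ d.2⟩ *
        (etaE R i ξ : Esub t v → ℂ) ⟨z ^ (j : ℕ) * d, e_mem R _ d.2⟩ =
        if (j : ℕ) = 0 then 3 * ((ξ : Dsub t w → ℂ) d * conj ((η : Dsub t w → ℂ) d)) else 0 := fun j d => by
      obtain ⟨p1, p2, -⟩ := e_parts R (x := ⟨z ^ (j : ℕ) * d, e_mem R _ d.2⟩) d.2 rfl
      simp only [φ]
      rw [etaE_apply, p2, show piE R ⟨z ^ (j : ℕ) * (d : G), e_mem R _ d.2⟩ = d from Subtype.ext p1]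
      by_cases hj0 : (j : ℕ) = 0
      · rw [if_pos hj0, hj0, pow_zero, if_pos rfl, one_pow]
        ring
      · rw [if_neg hj0, if_neg fun h0 => hj0 (Nat.eq_zero_of_dvd_of_lt ((om_prim.pow_eq_one_iff_dvd _).1 h0) j.2),
          zero_mul]
    simp only [hval]
    simp only [Fin.sum_univ_three, Fin.val_zero, Fin.val_one, Fin.val_two, if_true, one_ne_zero, if_false, two_ne_zero,
      Finset.sum_const_zero, add_zero, ← Finset.mul_sum]
    push_cast
    rw [← mul_assoc, mul_assoc (3 : ℂ) _ ((_ : ℂ)⁻¹), mul_inv_cancel₀ card_ne_zero', mul_one]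
  obtain ⟨n, hn, hnp⟩ := mult_e_parity R hj η χ
  obtain ⟨m, hm, hmp⟩ := mult_e_parity R (Nat.zero_lt_succ 2) θ χ
  have hev := parity_test PE (Esub t v) (P.2.to_le hPP) hodd hPC hfix χ (etaE R j η) (etaE R 0 θ) hn (hnp.2 h) hm
    (hmp.2 h') φ hφi hφ (a := 1) (b := 0) (by rw [hsum, classInner_irr_self, Nat.cast_one])
    (by rw [hsum, classInner_irr_ne (Ne.symm hne), Nat.cast_zero])
  have hdeg : charDegree (etaE R 0 θ : Esub t v → ℂ) = 1 := by
    have h1 : (etaE R 0 θ : Esub t v → ℂ) 1 = 1 := by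
      rw [etaE_apply, pow_zero, one_mul, map_one, hθ1]
    have h2 := (CfsgLib.Block.charDegree_eq (etaE R 0 θ)).1
    rw [h1] at h2
    exact_mod_cast h2.symm
  rw [hdeg, one_mul, zero_mul, add_zero] at hev
  exact Nat.not_even_iff_odd.2 odd_one hev

end CfsgLib.GW.CaseA.Mixed.Kill
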